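import Cfsg.Agent.Lib.Invol.ZStar
import Cfsg.Agent.Lib.Coprime.Core
import Cfsg.Agent.Lib.Coprime.Action

/-!
# An odd core acted on by a quaternion group

In a group with a central element `x` of prime order `p` and an involution `z`, central modulo the odd core, which
is a commutator in a two-group centralizing it, the order is divisible by `p ^ 3` once it is divisible by `p ^ 2`,
if the centralizer of `z` is not.
-/

set_option autoImplicit false
set_option linter.style.haveILetI false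

namespace CfsgLib.Spor.JFourType

open Subgroup

universe u

variable {L : Type u} [Group L] [Finite L] {p : ℕ} [hp : Fact p.Prime]

omit [Finite L] in
/-- A subgroup of prime order inverted by an element is fixed by a commutator of commuting elements. -/
theorem conj_comm_cyclic {z e f r : L} (hr : r ≠ 1) (hro : Odd (orderOf r))
    (hzr : z * r * z⁻¹ = r⁻¹) (he : e * r * e⁻¹ ∈ zpowers r) (hf : f * r * f⁻¹ ∈ zpowers r)
    (hef : e * f = z * (f * e)) : False := by
  obtain ⟨i, hi⟩ := mem_zpowers_iff.1 he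
  obtain ⟨j, hj⟩ := mem_zpowers_iff.1 hf
  have h1 : e * f * r * (e * f)⁻¹ = r ^ (i * j) := by
    calc e * f * r * (e * f)⁻¹ = e * (f * r * f⁻¹) * e⁻¹ := by group
      _ = e * r ^ j * e⁻¹ := by rw [hj]
      _ = (e * r * e⁻¹) ^ j := conj_zpow.symm
      _ = _ := by rw [← hi, ← zpow_mul]
  have h2 : f * e * r * (f * e)⁻¹ = r ^ (i * j) := by
    calc f * e * r * (f * e)⁻¹ = f * (e * r * e⁻¹) * f⁻¹ := by group
      _ = f * r ^ i * f⁻¹ := by rw [hi]
      _ = (f * r * f⁻¹) ^ i := conj_zpow.symm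
      _ = _ := by rw [← hj, ← zpow_mul, mul_comm j i]
  rw [hef] at h1
  have h3 : z * r ^ (i * j) * z⁻¹ = r ^ (i * j) := by
    rw [← h2]
    calc z * (f * e * r * (f * e)⁻¹) * z⁻¹ = z * (f * e) * r * (z * (f * e))⁻¹ := by group
      _ = _ := by rw [h1, h2]
  rw [← conj_zpow, hzr, inv_zpow] at h3
  -- so `r` to that power is trivial
  have h4 : (r ^ (i * j)) ^ 2 = 1 := by
    rw [pow_two]
    nth_rewrite 1 [← h3]
    exact inv_mul_cancel _
  have h5 : r ^ (i * j) = 1 := by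
    have hodd : Odd (orderOf (r ^ (i * j))) := hro.of_dvd_nat
      ((orderOf_dvd_of_mem_zpowers (zpow_mem (mem_zpowers r) _)))
    rcases (Nat.dvd_prime Nat.prime_two).1 (orderOf_dvd_of_pow_eq_one h4) with h | h
    · exact orderOf_eq_one_iff.1 h
    · rw [h] at hodd; exact absurd hodd (by decide)
  rw [h5] at h2
  exact hr (conj_eq_one_iff.1 h2)

omit hp in
/-- The centralizer of an involution central modulo the odd core covers the quotient. -/
theorem exists_centralizer_rep {z : L} (hz : orderOf z = 2) (hcen : CfsgLib.Invol.IsZCentral z)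
    [(Cfsg.pPrimeCore 2 L).Normal] :
    Function.Surjective ((QuotientGroup.mk' (Cfsg.pPrimeCore 2 L)).comp (centralizer ({z} : Set L)).subtype) := by
  haveI : Fact (Nat.Prime 2) := ⟨Nat.prime_two⟩
  set K := Cfsg.pPrimeCore 2 L
  have hKodd : ¬ 2 ∣ Nat.card ↥K := CfsgLib.Coprime.pPrimeCore_not_dvd Nat.prime_two
  have hz2 : z * z = 1 := by rw [← pow_two, ← hz, pow_orderOf_eq_one]
  have hzi : z⁻¹ = z := inv_eq_of_mul_eq_one_right hz2
  intro q
  obtain ⟨g, rfl⟩ := QuotientGroup.mk'_surjective K q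
  set k := z * g * z⁻¹ * g⁻¹ with hk
  have hkK : k ∈ K := hcen g
  have hkinv : z * k * z⁻¹ = k⁻¹ := by
    rw [hk, hzi]
    simp only [mul_inv_rev, inv_inv, hzi, mul_assoc]
    rw [← mul_assoc z z, hz2, one_mul]
  have hodd : Odd (orderOf k) := (Nat.not_even_iff_odd.1 fun h => hKodd
    (((even_iff_two_dvd.1 h).trans (orderOf_dvd_of_mem_zpowers (mem_zpowers k))).trans
      (by rw [← Subgroup.orderOf_mk (H := K) k hkK]; exact orderOf_dvd_natCard _)))
  obtain ⟨r, hr, hr2⟩ := CfsgLib.Invol.exists_sqrt_of_odd hodd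
  have hrinv : z * r * z⁻¹ = r⁻¹ := by
    obtain ⟨i, rfl⟩ := mem_zpowers_iff.1 hr
    rw [← conj_zpow, hkinv, inv_zpow]
  have hmem : r * g ∈ centralizer ({z} : Set L) := mem_centralizer_singleton_iff.2 (by
    have hzg : z * g = k * g * z := by rw [hk]; group
    calc r * g * z = r⁻¹ * (r * r * g * z) := by group
      _ = z * r * z⁻¹ * (z * g) := by rw [hr2, hzg, hrinv]
      _ = z * (r * g) := by group)
  refine ⟨⟨r * g, hmem⟩, ?_⟩
  show ((r * g : L) : L ⧸ K) = (g : L ⧸ K)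
  rw [QuotientGroup.mk_mul, (QuotientGroup.eq_one_iff r).2 ((zpowers_le.2 hkK) hr), one_mul]

/-- The core argument. -/
theorem cube_dvd_card {x z : L} (hx : x ∈ center L) (hxo : orderOf x = p) (hp2 : p ≠ 2) (hz : orderOf z = 2)
    (hcen : CfsgLib.Invol.IsZCentral z) {T : Subgroup L} (hT : IsPGroup 2 ↥T) {e f : L} (he : e ∈ T) (hf : f ∈ T)
    (hzT : z ∈ T) (hez : e * z = z * e) (hfz : f * z = z * f) (hef : e * f = z * (f * e))
    (hC : ¬ p ^ 2 ∣ Nat.card ↥(centralizer ({z} : Set L))) (h2 : p ^ 2 ∣ Nat.card L) : p ^ 3 ∣ Nat.card L := by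
  classical
  haveI : Fact (Nat.Prime 2) := ⟨Nat.prime_two⟩
  set K := Cfsg.pPrimeCore 2 L with hK
  haveI : K.Characteristic := CfsgLib.Coprime.pPrimeCore_characteristic (G := L) 2
  haveI hKn : K.Normal := inferInstance
  have hKodd : ¬ 2 ∣ Nat.card ↥K := CfsgLib.Coprime.pPrimeCore_not_dvd Nat.prime_two
  have hpodd : Odd p := hp.out.odd_of_ne_two hp2
  have hz2 : z * z = 1 := by rw [← pow_two, ← hz, pow_orderOf_eq_one]
  have hzi : z⁻¹ = z := inv_eq_of_mul_eq_one_right hz2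
  -- the central element lies in the core
  have hxK : x ∈ K := by
    haveI : (zpowers x).Normal := ⟨fun y hy g => by
      rw [mem_center_iff.1 ((zpowers_le.2 hx) hy) g, mul_inv_cancel_right]; exact hy⟩
    refine CfsgLib.Coprime.le_pPrimeCore_of_not_dvd Nat.prime_two ?_ (mem_zpowers x)
    rw [Nat.card_zpowers, hxo]
    exact fun h => hp2 ((Nat.prime_dvd_prime_iff_eq Nat.prime_two hp.out).1 h).symm
  -- the index of the core is prime to `p`
  have hidx : ¬ p ∣ K.index := by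
    set C := centralizer ({z} : Set L)
    let ψ : ↥C →* L ⧸ K := (QuotientGroup.mk' K).comp C.subtype
    have hψ : Function.Surjective ψ := exists_centralizer_rep hz hcen
    have hker : p ∣ Nat.card ↥ψ.ker := by
      have hxC : x ∈ C := mem_centralizer_singleton_iff.2 (mem_center_iff.1 hx z).symm
      have hm : (⟨x, hxC⟩ : ↥C) ∈ ψ.ker := MonoidHom.mem_ker.2 ((QuotientGroup.eq_one_iff x).2 hxK)
      have h := orderOf_dvd_natCard (⟨⟨x, hxC⟩, hm⟩ : ↥ψ.ker)
      rwa [Subgroup.orderOf_mk, Subgroup.orderOf_mk, hxo] at h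
    intro hd
    refine hC ?_
    rw [card_eq_card_quotient_mul_card_subgroup ψ.ker, Nat.card_congr
      (QuotientGroup.quotientKerEquivOfSurjective ψ hψ).toEquiv, ← index_eq_card, pow_two]
    exact Nat.mul_dvd_mul hd hker
  have hK2 : p ^ 2 ∣ Nat.card ↥K := by
    rw [← K.card_mul_index] at h2
    exact (Nat.Coprime.pow_left 2 ((Nat.Prime.coprime_iff_not_dvd hp.out).2 hidx)).dvd_of_dvd_mul_right h2
  -- an invariant Sylow subgroup of the core
  have hTK : T ≤ normalizer (K : Set L) := by rw [normalizer_eq_top]; exact le_top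
  have hcop : (Nat.card ↥T).Coprime (Nat.card ↥K) := by
    obtain ⟨n, hn⟩ := IsPGroup.iff_card.1 hT
    rw [hn]
    exact Nat.Coprime.pow_left n ((Nat.Prime.coprime_iff_not_dvd Nat.prime_two).2 hKodd)
  haveI : Group.IsNilpotent ↥T := hT.isNilpotent
  obtain ⟨Q, hQ, hxQ, hTQ⟩ := CfsgLib.Coprime.le_invariant_sylow hTK hcop (Or.inl inferInstance)
    (U := zpowers x) (p := p) (zpowers_le.2 hxK)
    (IsPGroup.of_card (n := 1) (by rw [Nat.card_zpowers, hxo, pow_one]))
    (fun t _ => by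
      rw [mem_normalizer_iff]
      intro y
      have hc : ∀ y ∈ zpowers x, t * y * t⁻¹ = y := fun y hy => by
        rw [mem_center_iff.1 ((zpowers_le.2 hx) hy) t, mul_inv_cancel_right]
      refine ⟨fun hy => (hc y hy).symm ▸ hy, fun hy => ?_⟩
      have h := mem_center_iff.1 ((zpowers_le.2 hx) hy) t
      have e : t * y * t⁻¹ = y := by
        calc t * y * t⁻¹ = t⁻¹ * (t * (t * y * t⁻¹)) := by group
          _ = t⁻¹ * (t * y * t⁻¹ * t) := by rw [h]
          _ = y := by group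
      rwa [e] at hy)
  set n := (Nat.card ↥K).factorization p with hn
  have hn2 : 2 ≤ n := (hp.out.pow_dvd_iff_le_factorization Nat.card_pos.ne').1 hK2
  by_contra hcon
  have hnlt : n < 3 := by
    by_contra hge
    exact hcon (((pow_dvd_pow p (Nat.not_lt.1 hge)).trans (Nat.ordProj_dvd _ _)).trans K.card_subgroup_dvd_card)
  have hQc : Nat.card ↥Q = p ^ 2 := by rw [hQ.2, ← hn, show n = 2 by omega]
  haveI := IsPGroup.isMulCommutative_of_card_eq_prime_sq (p := p) (G := ↥Q) hQc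
  have hconj : ∀ {t}, t ∈ T → ∀ q ∈ Q, t * q * t⁻¹ ∈ Q := fun {t} ht q hq =>
    CfsgLib.Coprime.conj_mem_of_le_normalizer hTQ ht hq
  let ψ : ↥Q →* ↥Q :=
    { toFun := fun q => q⁻¹ * ⟨z * q * z⁻¹, hconj hzT q q.2⟩
      map_one' := Subtype.ext (by simp)
      map_mul' := fun a b => by
        have hc : ∀ c d : ↥Q, c * d = d * c := mul_comm'
        have hm : (⟨z * ((a * b : ↥Q) : L) * z⁻¹, hconj hzT _ (a * b : ↥Q).2⟩ : ↥Q) =
            ⟨z * a * z⁻¹, hconj hzT a a.2⟩ * ⟨z * b * z⁻¹, hconj hzT b b.2⟩ := Subtype.ext (by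
          show z * ((a : L) * b) * z⁻¹ = z * a * z⁻¹ * (z * b * z⁻¹)
          group)
        generalize hA : (⟨z * a * z⁻¹, hconj hzT a a.2⟩ : ↥Q) = a' at hm ⊢
        generalize hB : (⟨z * b * z⁻¹, hconj hzT b b.2⟩ : ↥Q) = b' at hm ⊢
        rw [hm, mul_inv_rev, hc b⁻¹ a⁻¹]
        calc a⁻¹ * b⁻¹ * (a' * b') = a⁻¹ * (b⁻¹ * a') * b' := by group
          _ = a⁻¹ * (a' * b⁻¹) * b' := by rw [hc b⁻¹ a']
          _ = a⁻¹ * a' * (b⁻¹ * b') := by group }
  have hψv : ∀ q : ↥Q, ((ψ q : ↥Q) : L) = (q : L)⁻¹ * (z * q * z⁻¹) := fun q => rfl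
  -- the kernel has order `p`
  have hkerC : ∀ q : ↥Q, q ∈ ψ.ker ↔ (q : L) * z = z * q := by
    intro q
    rw [MonoidHom.mem_ker, ← Subtype.coe_inj, hψv, OneMemClass.coe_one, inv_mul_eq_one, eq_comm,
      mul_inv_eq_iff_eq_mul, eq_comm]
  have hkc : Nat.card ↥ψ.ker = p := by
    obtain ⟨k, hk, ek⟩ := (Nat.dvd_prime_pow hp.out).1 (hQc ▸ ψ.ker.card_subgroup_dvd_card)
    have hge : p ≤ Nat.card ↥ψ.ker := by
      have hm : (⟨x, hxQ (mem_zpowers x)⟩ : ↥Q) ∈ ψ.ker := (hkerC _).2 (mem_center_iff.1 hx z).symm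
      have h := Nat.le_of_dvd Nat.card_pos (orderOf_dvd_natCard (⟨_, hm⟩ : ↥ψ.ker))
      rwa [Subgroup.orderOf_mk, Subgroup.orderOf_mk, hxo] at h
    have hdvd : Nat.card ↥ψ.ker ∣ Nat.card ↥(centralizer ({z} : Set L)) := by
      rw [Nat.card_congr (equivMapOfInjective ψ.ker Q.subtype Q.subtype_injective).toEquiv]
      refine card_dvd_of_le ?_
      rintro _ ⟨q, hq, rfl⟩
      exact mem_centralizer_singleton_iff.2 ((hkerC q).1 hq)
    interval_cases k
    · rw [ek, pow_zero] at hge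
      exact absurd hge (not_le.2 hp.out.one_lt)
    · rw [ek, pow_one]
    · exact absurd (ek ▸ hdvd) hC
  have hrc : Nat.card ↥ψ.range = p := by
    have h := card_eq_card_quotient_mul_card_subgroup ψ.ker
    rw [Nat.card_congr (QuotientGroup.quotientKerEquivRange ψ).toEquiv, hQc, hkc, pow_two] at h
    exact (Nat.eq_of_mul_eq_mul_right hp.out.pos h).symm
  obtain ⟨r, hr⟩ := exists_prime_orderOf_dvd_card' (G := ↥ψ.range) p (by rw [hrc])
  obtain ⟨q, hq⟩ := r.2
  have hqo : orderOf (ψ q : L) = p := by rw [hq, Subgroup.orderOf_coe, Subgroup.orderOf_coe, hr]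
  -- it is inverted by `z`
  have hzinv : z * (ψ q : L) * z⁻¹ = (ψ q : L)⁻¹ := by
    rw [hψv, mul_inv_rev, inv_inv, hzi]
    calc z * ((q : L)⁻¹ * (z * q * z)) * z = z * (q : L)⁻¹ * z * q * (z * z) := by group
      _ = z * (q : L)⁻¹ * z * q := by rw [hz2, mul_one]
      _ = _ := by
        rw [show (z * (q : L) * z)⁻¹ = z * (q : L)⁻¹ * z by simp [hzi, mul_assoc]]
  have hinv : ∀ {t}, t ∈ T → t * z = z * t → t * (ψ q : L) * t⁻¹ ∈ zpowers (ψ q : L) := by
    intro t ht htz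
    have e1 : t * (ψ q : L) * t⁻¹ = ((ψ ⟨t * q * t⁻¹, hconj ht q q.2⟩ : ↥Q) : L) := by
      rw [hψv, hψv]
      show t * ((q : L)⁻¹ * (z * q * z⁻¹)) * t⁻¹ = (t * q * t⁻¹)⁻¹ * (z * (t * q * t⁻¹) * z⁻¹)
      rw [show (t * (q : L) * t⁻¹)⁻¹ * (z * (t * q * t⁻¹) * z⁻¹) =
        t * (q : L)⁻¹ * (t⁻¹ * (z * t)) * q * (t⁻¹ * z⁻¹) by group, ← htz, inv_mul_cancel_left,
        show t⁻¹ * z⁻¹ = z⁻¹ * t⁻¹ by rw [← mul_inv_rev, ← mul_inv_rev, htz]]
      group
    have hle : zpowers (ψ q : L) = ψ.range.map Q.subtype := by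
      refine eq_of_le_of_card_ge (zpowers_le.2 ⟨ψ q, ⟨q, rfl⟩, rfl⟩) ?_
      rw [Nat.card_zpowers, hqo, ← Nat.card_congr (equivMapOfInjective _ _ Q.subtype_injective).toEquiv, hrc]
    rw [e1, hle]
    exact ⟨_, ⟨_, rfl⟩, rfl⟩
  exact conj_comm_cyclic (fun h => by rw [h, orderOf_one] at hqo; exact hp.out.ne_one hqo.symm)
    (hqo ▸ hpodd) hzinv (hinv he hez) (hinv hf hfz) hef

/-- A prime dividing the order once, and not the order of the centralizer of `z`, does not occur. -/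
theorem false_of_once {z : L} (hp2 : p ≠ 2) (hz : orderOf z = 2) (hcen : CfsgLib.Invol.IsZCentral z)
    {T : Subgroup L} (hT : IsPGroup 2 ↥T) {e f : L} (he : e ∈ T) (hf : f ∈ T) (hzT : z ∈ T)
    (hef : e * f = z * (f * e)) (hC : ¬ p ∣ Nat.card ↥(centralizer ({z} : Set L))) (h1 : p ∣ Nat.card L)
    (h2 : ¬ p ^ 2 ∣ Nat.card L) : False := by
  classical
  haveI : Fact (Nat.Prime 2) := ⟨Nat.prime_two⟩
  set K := Cfsg.pPrimeCore 2 L with hK
  haveI : K.Characteristic := CfsgLib.Coprime.pPrimeCore_characteristic (G := L) 2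
  haveI hKn : K.Normal := inferInstance
  have hKodd : ¬ 2 ∣ Nat.card ↥K := CfsgLib.Coprime.pPrimeCore_not_dvd Nat.prime_two
  have hpK : p ∣ Nat.card ↥K := by
    rw [← K.card_mul_index] at h1
    refine (hp.out.dvd_mul.1 h1).resolve_right fun h => hC (h.trans ?_)
    rw [index_eq_card]
    exact card_dvd_of_surjective _ (exists_centralizer_rep hz hcen)
  have hcop : (Nat.card ↥T).Coprime (Nat.card ↥K) := by
    obtain ⟨n, hn⟩ := IsPGroup.iff_card.1 hT
    rw [hn]
    exact Nat.Coprime.pow_left n ((Nat.Prime.coprime_iff_not_dvd Nat.prime_two).2 hKodd)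
  haveI : Group.IsNilpotent ↥T := hT.isNilpotent
  obtain ⟨Q, hQ, hTQ⟩ := CfsgLib.Coprime.exists_invariant_sylow (A := T) (K := K)
    (by rw [normalizer_eq_top]; exact le_top) hcop (Or.inl inferInstance) p
  have hQc : Nat.card ↥Q = p := by
    have hge := (hp.out.dvd_iff_one_le_factorization Nat.card_pos.ne').1 hpK
    have hle : (Nat.card ↥K).factorization p < 2 := by
      by_contra hge2
      exact h2 (((hp.out.pow_dvd_iff_le_factorization Nat.card_pos.ne').2 (Nat.not_lt.1 hge2)).trans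
        K.card_subgroup_dvd_card)
    rw [hQ.2, show (Nat.card ↥K).factorization p = 1 by omega, pow_one]
  obtain ⟨r, hr⟩ := exists_prime_orderOf_dvd_card' (G := ↥Q) p (by rw [hQc])
  rw [← Subgroup.orderOf_coe] at hr
  set v : L := (r : L)
  have hQv : zpowers v = Q := eq_of_le_of_card_ge (zpowers_le.2 r.2) (by rw [Nat.card_zpowers, hr, hQc])
  have hconj : ∀ {t}, t ∈ T → t * v * t⁻¹ ∈ zpowers v := fun {t} ht => by
    rw [hQv]
    exact CfsgLib.Coprime.conj_mem_of_le_normalizer hTQ ht r.2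
  have hz2 : z * z = 1 := by rw [← pow_two, ← hz, pow_orderOf_eq_one]
  have hodd : Odd (orderOf v) := hr ▸ hp.out.odd_of_ne_two hp2
  have hne : v ≠ 1 := fun h => by rw [h, orderOf_one] at hr; exact hp.out.ne_one hr.symm
  -- the involution inverts the element
  obtain ⟨i, hi⟩ := mem_zpowers_iff.1 (hconj hzT)
  have hii : v ^ (i * i) = v := by
    calc v ^ (i * i) = (z * v * z⁻¹) ^ i := by rw [zpow_mul, hi]
      _ = z * v ^ i * z⁻¹ := conj_zpow
      _ = z * z * v * (z * z)⁻¹ := by rw [hi]; group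
      _ = v := by rw [hz2]; group
  have hdvd : (p : ℤ) ∣ (i - 1) * (i + 1) := by
    rw [← hr, orderOf_dvd_iff_zpow_eq_one, show (i - 1) * (i + 1) = i * i - 1 by ring, zpow_sub, hii, zpow_one,
      mul_inv_cancel]
  rcases (Nat.prime_iff_prime_int.1 hp.out).dvd_mul.1 hdvd with h | h <;>
    rw [← hr, orderOf_dvd_iff_zpow_eq_one] at h
  · refine hC ?_
    rw [zpow_sub, zpow_one, mul_inv_eq_one] at h
    refine hr ▸ Subgroup.orderOf_dvd_natCard _ (mem_centralizer_singleton_iff.2 ?_)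
    rw [hi] at h
    exact (mul_inv_eq_iff_eq_mul.1 h).symm
  · refine conj_comm_cyclic hne hodd ?_ (hconj he) (hconj hf) hef
    rw [zpow_add, zpow_one, mul_eq_one_iff_eq_inv] at h
    rw [← hi, h]

end CfsgLib.Spor.JFourType
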