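import Cfsg.Agent.Lib.Spor.JFourType.Order.ElevenFix
import Cfsg.Agent.Lib.Spor.JFourType.Order.ElevenCore
import Cfsg.Agent.Lib.Spor.JFourType.SecondClass
import Cfsg.Agent.Lib.Spor.JFourType.Facts22.Group

/-!
# Eleven cubed divides the order

An involution outside the class of `z` centralizes an element of order eleven, and the involutions commuting with
such an element of `C0` are conjugate to `z`; so a Sylow subgroup is larger than eleven, and the odd core of that
centralizer is acted on by a quaternion group.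
-/

set_option autoImplicit false
set_option linter.style.haveILetI false
set_option linter.unusedSectionVars false

namespace CfsgLib.Spor.JFourType.Ctx

open Subgroup

universe u

variable {G : Type u} [Group G] [Finite G] {A : Type} [Group A] {J I R : Subgroup A}
  {z : G} {P : Subgroup G} (c : Ctx J I R z P)
include c

/-- An involution outside the class of `z` commuting with an element of order eleven. -/
theorem exists_second_eleven (hs : c.Split) (he : Extra J I R) :
    ∃ t y : G, orderOf t = 2 ∧ ¬ IsConj z t ∧ orderOf y = 11 ∧ y * t = t * y := by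
  obtain ⟨t, ht⟩ := Set.nonempty_of_ncard_ne_zero (s := c.Tset) (by rw [c.card_Tset hs]; norm_num)
  haveI : Fact (Nat.Prime 2) := ⟨Nat.prime_two⟩
  haveI : Fact (Nat.Prime 11) := ⟨by norm_num⟩
  have hto : orderOf t = 2 := orderOf_eq_prime (by rw [pow_two, c.W_sq ht.1]) ht.2.1
  obtain ⟨V, K, -, hK, -, -, -, -, -, ⟨e⟩⟩ := c.second_centralizer hs he hto ht.2.2
  have h11 : 11 ∣ Nat.card ↥K := by
    rw [Nat.card_congr e.toEquiv]
    show 11 ∣ Nat.card ↥Gam
    rw [card_Gam]
    norm_num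
  obtain ⟨y, hy⟩ := exists_prime_orderOf_dvd_card' (G := ↥K) 11 h11
  rw [← Subgroup.orderOf_coe] at hy
  exact ⟨t, y, hto, ht.2.2, hy, mem_centralizer_singleton_iff.1 (hK y.2)⟩

variable {x : G} (hx : x ∈ c.C0) (ho : orderOf x = 11)
include hx ho

/-- Every involution commuting with the element is conjugate to `z`. -/
theorem isConj_z_of_comm_eleven {v : G} (hv : orderOf v = 2) (hvx : v * x = x * v) : IsConj z v := by
  classical
  haveI : Fact (Nat.Prime 2) := ⟨Nat.prime_two⟩
  set S := centralizer ({x} : Set G)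
  have hzS : z ∈ S := mem_centralizer_singleton_iff.2 (c.comm_z hx.1).symm
  have hvS : v ∈ S := mem_centralizer_singleton_iff.2 hvx
  have hp : IsPGroup 2 ↥(zpowers (⟨z, hzS⟩ : ↥S)) := IsPGroup.of_card (n := 1) (by
    rw [Nat.card_zpowers, Subgroup.orderOf_mk, c.ord, pow_one])
  obtain ⟨T, hT⟩ := hp.exists_le_sylow
  have hzT : (⟨z, hzS⟩ : ↥S) ∈ (T : Subgroup ↥S) := hT (mem_zpowers _)
  haveI : Nontrivial ↥(T : Subgroup ↥S) := ⟨⟨⟨⟨z, hzS⟩, hzT⟩, 1, fun h => c.z_ne
    (congrArg (fun w : ↥(T : Subgroup ↥S) => ((w : ↥S) : G)) h)⟩⟩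
  haveI := T.isPGroup'.center_nontrivial
  obtain ⟨s, hs⟩ : ∃ s : ↥(center ↥(T : Subgroup ↥S)), orderOf s = 2 := by
    refine exists_prime_orderOf_dvd_card' 2 ?_
    obtain ⟨n, hn⟩ := IsPGroup.iff_card.1 (T.isPGroup'.to_subgroup (center ↥(T : Subgroup ↥S)))
    rw [hn]
    refine dvd_pow_self 2 fun h0 => ?_
    have := Finite.one_lt_card (α := ↥(center ↥(T : Subgroup ↥S)))
    rw [hn, h0, pow_zero] at this
    omega
  rw [← Subgroup.orderOf_coe, ← Subgroup.orderOf_coe, ← Subgroup.orderOf_coe] at hs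
  have hsz : (((s : ↥(T : Subgroup ↥S)) : ↥S) : G) = z := by
    refine c.eq_z_of_comm_eleven hx ho hs (mem_centralizer_singleton_iff.2 ?_)
      (mem_centralizer_singleton_iff.1 ((s : ↥(T : Subgroup ↥S)) : ↥S).2)
    exact congrArg (fun w : ↥(T : Subgroup ↥S) => ((w : ↥S) : G)) (mem_center_iff.1 s.2 ⟨_, hzT⟩).symm
  -- every element of the Sylow subgroup commutes with `z`
  have hcomm : ∀ t ∈ (T : Subgroup ↥S), (t : G) * z = z * t := by
    intro t ht
    have h := congrArg (fun w : ↥(T : Subgroup ↥S) => ((w : ↥S) : G)) (mem_center_iff.1 s.2 ⟨t, ht⟩)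
    simp only [Subgroup.coe_mul] at h
    rwa [hsz] at h
  obtain ⟨T', hT'⟩ := (IsPGroup.of_card (p := 2) (n := 1) (show Nat.card ↥(zpowers (⟨v, hvS⟩ : ↥S)) = 2 ^ 1 by
    rw [Nat.card_zpowers, Subgroup.orderOf_mk, hv, pow_one])).exists_le_sylow
  obtain ⟨g, hg⟩ := MulAction.exists_smul_eq ↥S T' T
  have hgv : g * ⟨v, hvS⟩ * g⁻¹ ∈ (T : Subgroup ↥S) := by
    rw [← hg, Sylow.coe_subgroup_smul]
    exact ⟨⟨v, hvS⟩, hT' (mem_zpowers _), rfl⟩
  have h := c.eq_z_of_comm_eleven hx ho (u := (g : G) * v * (g : G)⁻¹) (CfsgLib.Invol.invol_conj hv _)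
    (mem_centralizer_singleton_iff.2 (hcomm _ hgv))
    (mem_centralizer_singleton_iff.1 (g * ⟨v, hvS⟩ * g⁻¹ : ↥S).2)
  exact (isConj_iff.2 ⟨(g : G), h⟩).symm

omit hx ho in
/-- The order is divisible by the square of eleven. -/
theorem sq_eleven_dvd_card (hs : c.Split) (he : Extra J I R) : 11 ^ 2 ∣ Nat.card G := by
  haveI : Fact (Nat.Prime 11) := ⟨by norm_num⟩
  obtain ⟨x, hx, ho⟩ := c.exists_ord_eleven
  obtain ⟨t, y, ht, htz, hy, hyt⟩ := c.exists_second_eleven hs he
  by_contra h121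
  have hp11 : Nat.Prime 11 := by norm_num
  have hfac : (Nat.card G).factorization 11 = 1 := by
    have h1 : 11 ∣ Nat.card G := ho ▸ orderOf_dvd_natCard _
    have h2 := (hp11.dvd_iff_one_le_factorization Nat.card_pos.ne').1 h1
    by_contra hne
    exact h121 ((hp11.pow_dvd_iff_le_factorization Nat.card_pos.ne').2 (by omega))
  have hcz : ∀ {v : G}, orderOf v = 11 → Nat.card ↥(zpowers v) = 11 ^ (Nat.card G).factorization 11 := fun h => by
    rw [hfac, pow_one, Nat.card_zpowers, h]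
  obtain ⟨g, hg⟩ := MulAction.exists_smul_eq G (Sylow.ofCard (zpowers x) (hcz ho))
    (Sylow.ofCard (zpowers y) (hcz hy))
  have hmap : g * x * g⁻¹ ∈ zpowers y := by
    have h1 := congrArg (fun S : Sylow 11 G => (S : Subgroup G)) hg
    simp only [Sylow.coe_subgroup_smul, Sylow.coe_ofCard] at h1
    rw [← h1]
    exact ⟨x, mem_zpowers x, rfl⟩
  have hc : g * x * g⁻¹ * t = t * (g * x * g⁻¹) := by
    obtain ⟨i, hi⟩ := mem_zpowers_iff.1 hmap
    rw [← hi]
    exact ((show Commute y t from hyt).zpow_left i).eq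
  have h := c.isConj_z_of_comm_eleven hx ho (v := g⁻¹ * t * g) (by
    have := CfsgLib.Invol.invol_conj ht g⁻¹
    rwa [inv_inv] at this) (by
    calc g⁻¹ * t * g * x = g⁻¹ * (t * (g * x * g⁻¹)) * g := by group
      _ = g⁻¹ * (g * x * g⁻¹ * t) * g := by rw [hc]
      _ = _ := by group)
  exact htz (h.trans (isConj_iff.2 ⟨g, by group⟩))

/-- The centralizer of the element has order divisible by the square of eleven. -/
theorem sq_eleven_dvd_centralizer (hs : c.Split) (he : Extra J I R) :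
    11 ^ 2 ∣ Nat.card ↥(centralizer ({x} : Set G)) := by
  classical
  haveI : Fact (Nat.Prime 11) := ⟨by norm_num⟩
  have hp11 : Nat.Prime 11 := by norm_num
  obtain ⟨S, hS⟩ := (IsPGroup.of_card (p := 11) (n := 1) (show Nat.card ↥(zpowers x) = 11 ^ 1 by
    rw [Nat.card_zpowers, ho, pow_one])).exists_le_sylow
  have hxS : x ∈ (S : Subgroup G) := hS (mem_zpowers x)
  set L := (S : Subgroup G) ⊓ centralizer ({x} : Set G)
  have hxL : x ∈ L := ⟨hxS, mem_centralizer_singleton_iff.2 rfl⟩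
  obtain ⟨k, hk⟩ := IsPGroup.iff_card.1 (S.isPGroup'.to_le (show L ≤ (S : Subgroup G) from inf_le_left))
  suffices 2 ≤ k from (pow_dvd_pow 11 this).trans (hk ▸ card_dvd_of_le inf_le_right)
  by_contra hk2
  have hL : L = zpowers x := by
    refine (eq_of_le_of_card_ge (zpowers_le.2 hxL) ?_).symm
    rw [hk, Nat.card_zpowers, ho]
    exact (Nat.pow_le_pow_right (by norm_num) (by omega : k ≤ 1)).trans (by norm_num)
  have hSc : 11 ^ 2 ∣ Nat.card ↥(S : Subgroup G) := S.pow_dvd_card_of_pow_dvd_card (c.sq_eleven_dvd_card hs he)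
  -- a central element is a power of the element
  haveI : Nontrivial ↥(S : Subgroup G) := ⟨⟨⟨x, hxS⟩, 1, fun h => by
    have hx1 : x = 1 := congrArg Subtype.val h
    rw [hx1, orderOf_one] at ho
    omega⟩⟩
  haveI := S.isPGroup'.center_nontrivial
  obtain ⟨y, hy⟩ := exists_ne (1 : ↥(center ↥(S : Subgroup G)))
  have hyL : ((y : ↥(S : Subgroup G)) : G) ∈ L := ⟨(y : ↥(S : Subgroup G)).2, mem_centralizer_singleton_iff.2
    (congrArg Subtype.val (mem_center_iff.1 y.2 ⟨x, hxS⟩)).symm⟩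
  rw [hL] at hyL
  -- so the Sylow subgroup centralizes it
  have hSL : (S : Subgroup G) ≤ L := by
    refine le_inf le_rfl fun s hs' => mem_centralizer_singleton_iff.2 ?_
    obtain ⟨i, hi⟩ := mem_zpowers_iff.1 hyL
    have hgen : x ∈ zpowers ((y : ↥(S : Subgroup G)) : G) := by
      have hne : ((y : ↥(S : Subgroup G)) : G) ≠ 1 := fun h => hy (Subtype.ext (Subtype.ext h))
      have hcard : Nat.card ↥(zpowers x) ≤ Nat.card ↥(zpowers ((y : ↥(S : Subgroup G)) : G)) := by
        rw [Nat.card_zpowers, Nat.card_zpowers, ho]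
        rcases (Nat.dvd_prime hp11).1 (ho ▸ orderOf_dvd_of_mem_zpowers hyL) with h | h
        · exact absurd (orderOf_eq_one_iff.1 h) hne
        · rw [h]
      rw [eq_of_le_of_card_ge (zpowers_le.2 hyL) hcard]
      exact mem_zpowers x
    obtain ⟨j, hj⟩ := mem_zpowers_iff.1 hgen
    rw [← hj]
    exact ((show Commute s ((y : ↥(S : Subgroup G)) : G) from
      congrArg Subtype.val (mem_center_iff.1 y.2 ⟨s, hs'⟩)).zpow_right j).eq
  have h := Nat.le_of_dvd Nat.card_pos (hSc.trans (card_dvd_of_le hSL))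
  rw [hL, Nat.card_zpowers, ho] at h
  omega

omit hx ho in
/-- The order is divisible by the cube of eleven. -/
theorem cube_eleven_dvd_card (hs : c.Split) (he : Extra J I R) : 11 ^ 3 ∣ Nat.card G := by
  classical
  haveI : Fact (Nat.Prime 11) := ⟨by norm_num⟩
  haveI : Fact (Nat.Prime 2) := ⟨Nat.prime_two⟩
  obtain ⟨x, hx, ho⟩ := c.exists_ord_eleven
  set S := centralizer ({x} : Set G)
  have hzS : z ∈ S := mem_centralizer_singleton_iff.2 (c.comm_z hx.1).symm
  obtain ⟨e, heE, f, hfE, hex, hfx, hef⟩ := c.exists_comm_pair hx ho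
  have heS : e ∈ S := mem_centralizer_singleton_iff.2 hex
  have hfS : f ∈ S := mem_centralizer_singleton_iff.2 hfx
  have hiso : Cfsg.IsIsolatedInvolution (⟨z, hzS⟩ : ↥S) := by
    refine ⟨by rw [Subgroup.orderOf_mk, c.ord], fun g hg => Subtype.ext ?_⟩
    refine c.eq_z_of_comm_eleven hx ho (CfsgLib.Invol.invol_conj c.ord _)
      (mem_centralizer_singleton_iff.2 (congrArg Subtype.val hg.eq).symm)
      (mem_centralizer_singleton_iff.1 (g * ⟨z, hzS⟩ * g⁻¹ : ↥S).2)
  have h := cube_dvd_card (p := 11) (L := ↥S) (x := ⟨x, mem_centralizer_singleton_iff.2 rfl⟩) (z := ⟨z, hzS⟩)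
    (T := c.E.subgroupOf S) (e := ⟨e, heS⟩) (f := ⟨f, hfS⟩)
    (mem_center_iff.2 fun g => Subtype.ext (mem_centralizer_singleton_iff.1 g.2))
    (by rw [Subgroup.orderOf_mk, ho]) (by norm_num) hiso.1 (CfsgLib.Invol.zstar hiso)
    (c.E_isPGroup.comap_subtype) (mem_subgroupOf.2 heE) (mem_subgroupOf.2 hfE) (mem_subgroupOf.2 c.z_mem_E)
    (Subtype.ext (c.comm_z (c.E_le heE))) (Subtype.ext (c.comm_z (c.E_le hfE))) (Subtype.ext hef) ?_
    (c.sq_eleven_dvd_centralizer hx ho hs he)
  · exact h.trans (card_subgroup_dvd_card S)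
  · intro hd
    have hle : Nat.card ↥(centralizer ({(⟨z, hzS⟩ : ↥S)} : Set ↥S)) ∣ Nat.card ↥c.H := by
      rw [Nat.card_congr (equivMapOfInjective _ S.subtype S.subtype_injective).toEquiv]
      refine card_dvd_of_le ?_
      rintro _ ⟨g, hg, rfl⟩
      exact mem_centralizer_singleton_iff.2 (congrArg Subtype.val (mem_centralizer_singleton_iff.1 hg))
    have := hd.trans hle
    rw [c.card_H_local] at this
    norm_num at this

omit hx ho in
/-- The square of eleven divides the number of conjugates of `z`. -/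
theorem sq_eleven_dvd_zclass (hs : c.Split) (he : Extra J I R) : 11 ^ 2 ∣ c.zclass := by
  have h := c.cube_eleven_dvd_card hs he
  rw [c.card_eq_zclass, c.card_H_local, show 3 * 2 ^ 13 * (2 * 443520) = 11 * 1981808640 by norm_num,
    show (11 : ℕ) ^ 3 = 11 * 11 ^ 2 by norm_num, mul_left_comm c.zclass] at h
  exact (show Nat.Coprime (11 ^ 2) 1981808640 by norm_num).dvd_of_dvd_mul_right
    (Nat.dvd_of_mul_dvd_mul_left (show 0 < 11 by norm_num) h)

end CfsgLib.Spor.JFourType.Ctx
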