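import Cfsg.Agent.Lib.Spor.JFourType.InvolOuter

/-!
# The involutions of `J`

Each lies in exactly one of the 77 conjugates of `I`.
-/

set_option autoImplicit false
set_option linter.style.haveILetI false

namespace CfsgLib.Spor.JFourType.Ctx

open Subgroup

universe u

variable {G : Type u} [Group G] [Finite G] {A : Type} [Group A] {J I R : Subgroup A}
  {z : G} {P : Subgroup G} (c : Ctx J I R z P)
include c

/-- An involution of `J` is `g i g⁻¹` for a unique coset `g N(I)` and, `g` given, a unique `i` of `I`. -/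
theorem card_invol_J (hs : c.Split) (hNI : 11520 ≤ Nat.card ↥(normalizer (I : Set A))) :
    {x : A | x ∈ J ∧ orderOf x = 2}.ncard = 1155 := by
  classical
  haveI := c.finite_A
  haveI := c.J_normal
  set N := normalizer (I : Set A) with hN
  have hcount : Nat.card (A ⧸ N) = 77 := by
    have h := N.card_mul_index
    rw [c.card_normalizer_I hs hNI, c.card_A, Subgroup.index] at h
    norm_num at h
    omega
  have h15 : ({i : A | i ∈ I} \ {1}).ncard = 15 := by
    show ((I : Set A) \ {1}).ncard = 15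
    rw [Set.ncard_sdiff_singleton_of_mem I.one_mem, ← Nat.card_coe_set_eq, SetLike.coe_sort_coe, c.facts.card_I]
  rw [← Nat.card_coe_set_eq]
  let f : (A ⧸ N) × ↥({i : A | i ∈ I} \ {1}) → ↥{x : A | x ∈ J ∧ orderOf x = 2} := fun p =>
    ⟨p.1.out * p.2.1 * p.1.out⁻¹, c.J_normal.conj_mem _ (c.facts.I_le p.2.2.1) _, by
      refine orderOf_eq_prime ?_ fun h => p.2.2.2 (conj_eq_one_iff.1 h)
      rw [conj_pow, c.facts.ea_I.2 _ p.2.2.1, mul_one, mul_inv_cancel]⟩
  have hf : Function.Bijective f := by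
    constructor
    · rintro ⟨q, i, hi, hi1⟩ ⟨r, j, hj, hj1⟩ h
      have h := congrArg Subtype.val h
      change q.out * i * q.out⁻¹ = r.out * j * r.out⁻¹ at h
      have hqr : q = r := by
        rw [← q.out_eq', ← r.out_eq']
        refine QuotientGroup.eq.2 (c.normalizer_of_inv (a := ⟨i, hi⟩) (fun e => hi1 (congrArg Subtype.val e)) ?_)
        show (q.out⁻¹ * r.out)⁻¹ * i * (q.out⁻¹ * r.out) ∈ I
        rw [show (q.out⁻¹ * r.out)⁻¹ * i * (q.out⁻¹ * r.out) = r.out⁻¹ * (q.out * i * q.out⁻¹) * r.out by group, h]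
        simpa [mul_assoc] using hj
      subst hqr
      have := mul_left_cancel (mul_right_cancel h)
      subst this; rfl
    · rintro ⟨x, hxJ, hx⟩
      obtain ⟨g, -, hg⟩ := c.facts.invol_I x hxJ hx
      set q : A ⧸ N := QuotientGroup.mk g⁻¹ with hq
      obtain ⟨⟨n, hn⟩, hqn⟩ := QuotientGroup.mk_out_eq_mul N g⁻¹
      have hni : n⁻¹ * (g * x * g⁻¹) * n ∈ I := by
        have := (mem_normalizer_iff.1 (inv_mem hn) _).1 hg
        rwa [inv_inv] at this
      refine ⟨(q, ⟨n⁻¹ * (g * x * g⁻¹) * n, hni, fun h => ?_⟩), Subtype.ext ?_⟩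
      · have h1 : g * x * g⁻¹ = 1 := by
          have := congrArg (fun y => n * y * n⁻¹) (show n⁻¹ * (g * x * g⁻¹) * n = 1 from h)
          simpa [mul_assoc] using this
        rw [conj_eq_one_iff.1 h1, orderOf_one] at hx
        norm_num at hx
      · show q.out * (n⁻¹ * (g * x * g⁻¹) * n) * q.out⁻¹ = x
        rw [hq, hqn]
        simp [mul_assoc]
  rw [← Nat.card_eq_of_bijective f hf, Nat.card_prod, hcount, Nat.card_coe_set_eq, h15]

end CfsgLib.Spor.JFourType.Ctx
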