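import Cfsg.Agent.Lib.Spor.JFourType.Order.ElevenCube
import Cfsg.Agent.Lib.Spor.JFourType.Order.InvolJ
import Cfsg.Agent.Lib.Spor.JFourType.SevenLocal
import Cfsg.Agent.Lib.Spor.JFourType.FiveStructure
import Cfsg.Agent.Lib.Spor.JFourType.LocalThree

/-!
# The residues of the number of conjugates of `z` at the odd primes of the local files

The Sylow congruences at five and seven, the fixed points of a group of order 27 on the conjugates of `z`, the
normalizer of `W` at 23, and eleven squared.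
-/

set_option autoImplicit false
set_option linter.style.haveILetI false
set_option linter.unusedSectionVars false

namespace CfsgLib.Spor.JFourType.Ctx

open Subgroup

universe u

variable {G : Type u} [Group G] [Finite G] {A : Type} [Group A] {J I R : Subgroup A}
  {z : G} {P : Subgroup G} (c : Ctx J I R z P)

omit [Finite G] in
/-- The congruence for a Sylow subgroup of prime order. -/
theorem index_normalizer_mod [Finite G] {p : ℕ} (hp : p.Prime) {Q : Subgroup G} (hQ : Nat.card ↥Q = p)
    (h2 : ¬ p ^ 2 ∣ Nat.card G) : (normalizer (Q : Set G)).index % p = 1 := by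
  haveI : Fact p.Prime := ⟨hp⟩
  have h1 : p ∣ Nat.card G := hQ ▸ card_subgroup_dvd_card Q
  have hfac : (Nat.card G).factorization p = 1 := by
    have h := (hp.dvd_iff_one_le_factorization Nat.card_pos.ne').1 h1
    by_contra hne
    exact h2 ((hp.pow_dvd_iff_le_factorization Nat.card_pos.ne').2 (by omega))
  let S : Sylow p G := Sylow.ofCard Q (by rw [hfac, pow_one, hQ])
  have h := card_sylow_modEq_one p G
  rw [S.card_eq_index_normalizer, Nat.ModEq, Nat.mod_eq_of_lt hp.one_lt] at h
  exact h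

include c

/-- Twenty-three divides the number of conjugates of `z`. -/
theorem dvd_23_zclass (hs : c.Split) (he : Extra J I R) : 23 ∣ c.zclass := by
  have h : 23 ∣ Nat.card G := by
    refine dvd_trans ?_ (card_subgroup_dvd_card (normalizer (c.W : Set G)))
    rw [c.card_normalizer_W hs he.card_NI]
    norm_num
  rw [c.card_eq_zclass] at h
  exact ((show Nat.Prime 23 by norm_num).dvd_mul.1 h).resolve_right c.not_dvd_card_H

/-- The residue at five. -/
theorem zclass_mod_5 (hs : c.Split) (F : FiveSeven J I R) : c.zclass % 5 = 2 := by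
  obtain ⟨x, n, s, h₀, f, -⟩ := c.exists_fiveFull F
  have hmod := index_normalizer_mod (p := 5) (by norm_num) (Q := zpowers x)
    (by rw [Nat.card_zpowers, f.base.ord_x]) (by simpa using f.not_dvd hs)
  have h := (normalizer (zpowers x : Set G)).index_mul_card
  rw [(f.card_normalizer hs).1, c.card_eq_zclass, c.card_H_local,
    show c.zclass * (3 * 2 ^ 13 * (2 * 443520)) = c.zclass * 811008 * 26880 by
      rw [mul_assoc c.zclass]; norm_num] at h
  have hi := Nat.eq_of_mul_eq_mul_right (show 0 < 26880 by norm_num) h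
  rw [hi, Nat.mul_mod] at hmod
  have := Nat.mod_lt c.zclass (show 5 > 0 by norm_num)
  generalize c.zclass % 5 = r at hmod this ⊢
  interval_cases r <;> simp at hmod ⊢

/-- The residue at seven. -/
theorem zclass_mod_7 (hs : c.Split) (F : FiveSeven J I R) (he : Extra J I R) : c.zclass % 7 = 3 := by
  haveI : Fact (Nat.Prime 7) := ⟨by norm_num⟩
  obtain ⟨h49, hloc⟩ := c.seven_local hs F he
  have h7 : 7 ∣ Nat.card G := by
    refine dvd_trans ?_ (card_subgroup_dvd_card c.H)
    rw [c.card_H_local]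
    norm_num
  obtain ⟨w, hw⟩ := exists_prime_orderOf_dvd_card' (G := G) 7 h7
  have hmod := index_normalizer_mod (p := 7) (by norm_num) (Q := zpowers w)
    (by rw [Nat.card_zpowers, hw]) (by simpa using h49)
  have h := (normalizer (zpowers w : Set G)).index_mul_card
  rw [(hloc w hw).card_normalizer, c.card_eq_zclass, c.card_H_local,
    show c.zclass * (3 * 2 ^ 13 * (2 * 443520)) = c.zclass * 8650752 * 2520 by
      rw [mul_assoc c.zclass]; norm_num] at h
  have hi := Nat.eq_of_mul_eq_mul_right (show 0 < 2520 by norm_num) h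
  rw [hi, Nat.mul_mod] at hmod
  have := Nat.mod_lt c.zclass (show 7 > 0 by norm_num)
  generalize c.zclass % 7 = r at hmod this ⊢
  interval_cases r <;> simp at hmod ⊢

/-- Over each involution of `J` lies one conjugate of `z` in `C0`; one lies over the identity. -/
theorem card_conj_C0 (hs : c.Split) (he : Extra J I R) : {u : G | u ∈ c.C0 ∧ IsConj z u}.ncard = 1156 := by
  classical
  set T := {u : G | u ∈ c.C0 ∧ IsConj z u}
  have hinv : ∀ {u}, IsConj z u → u * u = 1 ∧ u ≠ 1 := by
    intro u hu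
    obtain ⟨g, rfl⟩ := isConj_iff.1 hu
    exact ⟨by rw [conj_mul, c.zz, mul_one, mul_inv_cancel], fun h => c.z_ne (conj_eq_one_iff.1 h)⟩
  -- involutions of `C0` over the same element differ by a power of `z`
  have hfib : ∀ u ∈ c.C0, ∀ v ∈ c.C0, u * u = 1 → v * v = 1 → c.im u = c.im v → v = u ∨ v = u * z := by
    intro u hu v hv hu2 hv2 him
    obtain ⟨q, hq, e⟩ := c.ker_C0 (mul_mem hu hv) (by
      rw [← c.im_eq, c.im_mul hu.1 hv.1, ← him, ← c.im_mul hu.1 hu.1, hu2, c.im_one])
    have hv' : ∀ w, u * v = w → v = u * w := fun w hw => by rw [← hw, ← mul_assoc, hu2, one_mul]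
    have hq2 : ∀ w, v = u * w → u * w = w * u → w * w = 1 := fun w hw hc => by
      rw [hw] at hv2
      calc w * w = u * u * (w * w) := by rw [hu2, one_mul]
        _ = u * (w * u) * w := by rw [← hc]; group
        _ = 1 := by rw [← hv2]; group
    have hq3 : q ^ 3 = 1 := by
      have h := pow_card_eq_one' (G := ↥P) (x := ⟨q, hq⟩)
      rw [c.card_P] at h
      exact congrArg Subtype.val h
    have huq : u * q = q * u := (c.comm_P hu hq).symm
    have huz : u * z = z * u := c.comm_z hu.1
    rcases e with e | e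
    · left
      have h2 := hq2 q (hv' _ e) huq
      rw [pow_succ, pow_two, h2, one_mul] at hq3
      rw [hv' _ e, hq3, mul_one]
    · right
      have hzq : z * q = q * z := (c.comm_z (c.P_le_C0 hq).1).symm
      have h2 : z * q * (z * q) = 1 := hq2 (z * q) (hv' _ e) (by
        rw [← mul_assoc, huz, mul_assoc, huq, ← mul_assoc])
      have h2' : q * q = 1 := by
        calc q * q = z * z * (q * q) := by rw [c.zz, one_mul]
          _ = z * (q * z) * q := by rw [← hzq]; group
          _ = 1 := by rw [← h2]; group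
      rw [pow_succ, pow_two, h2', one_mul] at hq3
      rw [hv' _ e, hq3, mul_one]
  -- exactly one of a lift of an involution and its product with `z` is conjugate to `z`
  have hsingle : ∀ j ∈ J, orderOf j = 2 →
      ∃ u, (u ∈ c.C0 ∧ u * u = 1 ∧ c.im u = j) ∧ (IsConj z u ↔ ¬ IsConj z (u * z)) := by
    intro j hj hjo
    obtain ⟨g, hg, hgi⟩ := c.facts.invol_I j hj hjo
    obtain ⟨k, hk, hki⟩ := c.exists_C0_im hg
    set i : ↥I := ⟨g * j * g⁻¹, hgi⟩
    have hi1 : c.im (c.lv i) ≠ 1 := by
      rw [c.im_lv]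
      intro h
      have h' : j = 1 := by
        calc j = g⁻¹ * (g * j * g⁻¹) * g := by group
          _ = 1 := by rw [show g * j * g⁻¹ = 1 from h]; group
      rw [h', orderOf_one] at hjo
      norm_num at hjo
    have hl : c.lv i ∈ c.C0 := c.L0_le (c.lv_mem i)
    refine ⟨k⁻¹ * c.lv i * k, ⟨mul_mem (mul_mem (inv_mem hk) hl) hk, ?_, ?_⟩, ?_⟩
    · calc k⁻¹ * c.lv i * k * (k⁻¹ * c.lv i * k) = k⁻¹ * (c.lv i * c.lv i) * k := by group
        _ = 1 := by rw [c.lv_sq]; group
    · rw [c.im_mul (mul_mem (inv_mem hk.1) (c.lv_H i)) hk.1, c.im_mul (inv_mem hk.1) (c.lv_H i), c.im_lv,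
        c.im_inv hk.1, hki]
      show g⁻¹ * (g * j * g⁻¹) * g = j
      group
    · have h1 : k⁻¹ * c.lv i * k = k⁻¹ * c.lv i * (k⁻¹)⁻¹ := by rw [inv_inv]
      have h2 : k⁻¹ * c.lv i * k * z = k⁻¹ * (c.lv i * z) * (k⁻¹)⁻¹ := by
        rw [inv_inv, mul_assoc (k⁻¹ * c.lv i), c.comm_z hk.1]
        group
      rw [h2, h1, c.isConj_z_conj, c.isConj_z_conj]
      exact hs.L0_single _ (c.lv_mem i) hi1
  set U := {j : A | j ∈ J ∧ orderOf j = 2}
  have hU : U.ncard = 1155 := c.card_invol_J hs he.card_NI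
  have h1U : (1 : A) ∉ U := fun h => by simpa using h.2
  haveI := c.finite_A_local
  have hbij : T.ncard = (insert 1 U).ncard := by
    refine Set.ncard_congr (fun u _ => c.im u) ?_ ?_ ?_
    · rintro u ⟨hu, huz⟩
      by_cases h : c.im u = 1
      · exact Set.mem_insert_iff.2 (Or.inl h)
      · refine Set.mem_insert_iff.2 (Or.inr ⟨c.im_C0 hu, orderOf_eq_prime ?_ h⟩)
        rw [pow_two, ← c.im_mul hu.1 hu.1, (hinv huz).1, c.im_one]
    · rintro u v ⟨hu, huz⟩ ⟨hv, hvz⟩ h
      rcases hfib u hu v hv (hinv huz).1 (hinv hvz).1 h with e | e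
      · exact e.symm
      · exfalso
        by_cases h1 : c.im u = 1
        · rcases hfib 1 (one_mem _) u hu (one_mul 1) (hinv huz).1 (by rw [h1, c.im_one]) with e1 | e1
          · exact (hinv huz).2 e1
          · exact (hinv hvz).2 (by rw [e, e1, one_mul, c.zz])
        · obtain ⟨w, ⟨hw, hw2, hwi⟩, hiff⟩ := hsingle (c.im u) (c.im_C0 hu) (orderOf_eq_prime (by
            rw [pow_two, ← c.im_mul hu.1 hu.1, (hinv huz).1, c.im_one]) h1)
          rcases hfib w hw u hu hw2 (hinv huz).1 hwi with e1 | e1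
          · rw [e, e1] at hvz
            exact hiff.1 (e1 ▸ huz) hvz
          · rw [e, e1, mul_assoc, c.zz, mul_one] at hvz
            exact hiff.1 hvz (e1 ▸ huz)
    · intro j hj
      rcases Set.mem_insert_iff.1 hj with rfl | ⟨hjJ, hjo⟩
      · exact ⟨z, ⟨c.z_mem_C0, IsConj.refl z⟩, (c.im_E c.z_mem_E)⟩
      · obtain ⟨w, ⟨hw, hw2, hwi⟩, hiff⟩ := hsingle j hjJ hjo
        by_cases hc : IsConj z w
        · exact ⟨w, ⟨hw, hc⟩, hwi⟩
        · exact ⟨w * z, ⟨mul_mem hw c.z_mem_C0, not_not.1 fun h => hc (hiff.2 h)⟩, by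
            rw [c.im_mul hw.1 c.z_mem_H, (c.im_E c.z_mem_E), mul_one, hwi]⟩
  rw [hbij, Set.ncard_insert_of_notMem h1U, hU]

/-- The residue at 27. -/
theorem zclass_mod_27 (hs : c.Split) (he : Extra J I R) : c.zclass % 27 = 22 := by
  classical
  obtain ⟨Q, -, -, hQ, -⟩ := c.exists_three_facts
  letI : MulAction ↥Q {u : G // IsConj z u} :=
    { smul := fun q u => ⟨(q : G) * u * (q : G)⁻¹, (c.isConj_z_conj _ _).2 u.2⟩
      one_smul := fun u => Subtype.ext (show ((1 : ↥Q) : G) * u * ((1 : ↥Q) : G)⁻¹ = _ by simp)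
      mul_smul := fun q q' u => Subtype.ext (by
        show ((q : G) * q') * u * ((q : G) * q')⁻¹ = (q : G) * ((q' : G) * u * (q' : G)⁻¹) * (q : G)⁻¹
        group) }
  have hfix : ∀ q : ↥Q, q ≠ 1 → Nat.card (MulAction.fixedBy {u : G // IsConj z u} q) = 1156 := by
    intro q hq
    have hqo : orderOf (q : G) = 3 := orderOf_eq_prime (c.three_exp hQ q.2) fun h => hq (Subtype.ext h)
    haveI : Fact (Nat.Prime 3) := ⟨Nat.prime_three⟩
    obtain ⟨g, hg⟩ := isConj_iff.1 (c.isConj_three hs hqo c.ord_pg)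
    rw [← c.card_conj_C0 hs he, ← Nat.card_coe_set_eq]
    have hC : ∀ u, u ∈ c.C0 ↔ u * c.pg = c.pg * u := fun u => by
      rw [← c.centralizer_P_eq hs]
      exact ⟨fun h => (mem_centralizer_iff.1 h c.pg c.pg_mem).symm, fun h => mem_centralizer_iff.2 fun p hp => by
        obtain ⟨i, hi⟩ := mem_zpowers_iff.1 (c.zpowers_pg.symm ▸ hp : p ∈ zpowers c.pg)
        rw [← hi]
        exact ((show Commute u c.pg from h).zpow_right i).eq.symm⟩
    have hmove : ∀ u : G, g * u * g⁻¹ * c.pg = c.pg * (g * u * g⁻¹) ↔ (q : G) * u * (q : G)⁻¹ = u := fun u => by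
      rw [← hg, conj_mul, conj_mul, mul_left_inj, mul_right_inj, mul_inv_eq_iff_eq_mul]
      exact eq_comm
    refine Nat.card_congr
      { toFun := fun u => ⟨g * u.1.1 * g⁻¹, ⟨(hC _).2 ((hmove _).2 (congrArg Subtype.val u.2)),
          (c.isConj_z_conj g _).2 u.1.2⟩⟩
        invFun := fun v => ⟨⟨g⁻¹ * v.1 * g, by
          have h := (c.isConj_z_conj g⁻¹ v.1).2 v.2.2
          rwa [inv_inv] at h⟩, Subtype.ext ((hmove (g⁻¹ * v.1 * g)).1 (by
            rw [show g * (g⁻¹ * v.1 * g) * g⁻¹ = v.1 by group]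
            exact (hC _).1 v.2.1))⟩
        left_inv := fun u => Subtype.ext (Subtype.ext (show g⁻¹ * (g * u.1.1 * g⁻¹) * g = u.1.1 by group))
        right_inv := fun v => Subtype.ext (show g * (g⁻¹ * v.1 * g) * g⁻¹ = v.1 by group) }
  haveI := Fintype.ofFinite ↥Q
  haveI : Fintype (Quotient (MulAction.orbitRel ↥Q {u : G // IsConj z u})) := Fintype.ofFinite _
  haveI : ∀ q : ↥Q, Fintype (MulAction.fixedBy {u : G // IsConj z u} q) := fun q => Fintype.ofFinite _
  have h := MulAction.sum_card_fixedBy_eq_card_orbits_mul_card_group ↥Q {u : G // IsConj z u}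
  rw [← Finset.sum_erase_add _ _ (Finset.mem_univ (1 : ↥Q))] at h
  have h1 : Fintype.card (MulAction.fixedBy {u : G // IsConj z u} (1 : ↥Q)) = c.zclass := by
    rw [← Nat.card_eq_fintype_card]
    exact (Nat.card_congr (Equiv.subtypeUnivEquiv fun u => one_smul ↥Q u)).trans (Nat.card_coe_set_eq {u : G | IsConj z u})
  have h2 : ∀ q ∈ (Finset.univ : Finset ↥Q).erase 1,
      Fintype.card (MulAction.fixedBy {u : G // IsConj z u} q) = 1156 := fun q hq => by
    rw [← Nat.card_eq_fintype_card]
    exact hfix q (Finset.mem_erase.1 hq).1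
  rw [Finset.sum_congr rfl h2, Finset.sum_const, Finset.card_erase_of_mem (Finset.mem_univ _), Finset.card_univ,
    h1, smul_eq_mul, ← Nat.card_eq_fintype_card (α := ↥Q), hQ.card] at h
  omega

/-- The residues. -/
theorem residues (hs : c.Split) (F : FiveSeven J I R) (he : Extra J I R) : c.Residues :=
  ⟨c.sq_eleven_dvd_zclass hs he, c.dvd_23_zclass hs he, c.zclass_mod_27 hs he, c.zclass_mod_5 hs F,
    c.zclass_mod_7 hs F he⟩

end CfsgLib.Spor.JFourType.Ctx
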