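import Cfsg.Agent.Lib.Spor.JFourType.Order.Census

/-!
# Orbit counting on the conjugates of `z`

For `W` and for the core the orbit counting lemma gives two congruences to powers of two.
-/

set_option autoImplicit false
set_option linter.style.haveILetI false

namespace CfsgLib.Spor.JFourType

universe u

open MulAction in
/-- The orbit counting lemma for conjugation on a class. -/
theorem card_dvd_setSum_class {G : Type u} [Group G] [Finite G] (K : Subgroup G) (z : G) :
    Nat.card ↥K ∣ setSum (K : Set G) fun k => {x | IsConj z x ∧ x * k = k * x}.ncard := by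
  classical
  haveI := Fintype.ofFinite G
  letI : MulAction ↥K {x : G // IsConj z x} :=
    { smul := fun k x => ⟨(k : G) * x * (k : G)⁻¹, x.2.trans (isConj_iff.2 ⟨k, rfl⟩)⟩
      one_smul := fun x => Subtype.ext (show ((1 : ↥K) : G) * x * ((1 : ↥K) : G)⁻¹ = x by simp)
      mul_smul := fun a b x => Subtype.ext
        (show ((a * b : ↥K) : G) * x * ((a * b : ↥K) : G)⁻¹ = (a : G) * (b * x * (b : G)⁻¹) * (a : G)⁻¹ by
          rw [Subgroup.coe_mul]; group) }
  have h := sum_card_fixedBy_eq_card_orbits_mul_card_group ↥K {x : G // IsConj z x}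
  have hsum : setSum (K : Set G) (fun k => {x | IsConj z x ∧ x * k = k * x}.ncard) =
      ∑ k : ↥K, Fintype.card ↥(fixedBy {x : G // IsConj z x} k) := by
    rw [setSum, Finset.sum_subtype (F := inferInstanceAs (Fintype ↥K)) (K : Set G).toFinite.toFinset
      (fun x => by simp : ∀ x, x ∈ (K : Set G).toFinite.toFinset ↔ x ∈ K) _]
    refine Finset.sum_congr rfl fun k _ => ?_
    rw [← Nat.card_eq_fintype_card, ← Nat.card_coe_set_eq]
    refine Nat.card_congr ⟨fun y => ⟨⟨y.1, y.2.1⟩, ?_⟩, fun y => ⟨y.1.1, y.1.2, ?_⟩, fun _ => rfl, fun _ => rfl⟩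
    · refine Subtype.ext ?_
      show (k : G) * y.1 * (k : G)⁻¹ = y.1
      rw [← y.2.2, mul_inv_cancel_right]
    · have h2 : (k : G) * y.1.1 * (k : G)⁻¹ = y.1.1 := congrArg Subtype.val y.2
      exact (mul_inv_eq_iff_eq_mul.1 h2).symm
  rw [hsum, h, Nat.card_eq_fintype_card]
  exact dvd_mul_left _ _

namespace Ctx

open Subgroup

variable {G : Type u} [Group G] [Finite G] {A : Type} [Group A] {J I R : Subgroup A}
  {z : G} {P : Subgroup G} (c : Ctx J I R z P)
include c

/-- The conjugates of `z` commuting with an element. -/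
noncomputable def fixZ (_ : Ctx J I R z P) (w : G) : ℕ := {x | IsConj z x ∧ x * w = w * x}.ncard

theorem fixZ_conj (g w : G) : c.fixZ (g * w * g⁻¹) = c.fixZ w := by
  rw [fixZ, fixZ, ← Set.ncard_image_of_injective {x | IsConj z x ∧ x * w = w * x} (MulAut.conj g).injective]
  congr 1
  ext y
  simp only [Set.mem_image, MulAut.conj_apply]
  constructor
  · rintro ⟨hy, hc⟩
    refine ⟨g⁻¹ * y * g, ⟨hy.trans (isConj_iff.2 ⟨g⁻¹, by group⟩), ?_⟩, by group⟩
    calc g⁻¹ * y * g * w = g⁻¹ * (y * (g * w * g⁻¹)) * g := by group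
      _ = g⁻¹ * (g * w * g⁻¹ * y) * g := by rw [hc]
      _ = w * (g⁻¹ * y * g) := by group
  · rintro ⟨x, ⟨hx, hc⟩, rfl⟩
    exact ⟨hx.trans (isConj_iff.2 ⟨g, rfl⟩), by rw [conj_mul, conj_mul, hc]⟩

theorem fixZ_one : c.fixZ 1 = c.zclass := by
  rw [fixZ, zclass]
  congr 1
  ext x
  simp

theorem fixZ_z {w : G} (h : IsConj z w) : c.fixZ w = c.ZH := by
  obtain ⟨g, rfl⟩ := isConj_iff.1 h
  rw [c.fixZ_conj, fixZ, ZH]
  congr 1
  ext x
  exact ⟨fun h => ⟨mem_centralizer_singleton_iff.2 h.2, h.1⟩, fun h => ⟨h.2, c.comm_z h.1⟩⟩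

/-- All involutions that are not conjugate to `z` have the same number. -/
theorem fixZ_t (hs : c.Split) (he : Extra J I R) {w t : G} (hw : w * w = 1) (h1 : w ≠ 1) (hc : ¬ IsConj z w)
    (ht : t ∈ c.Tset) : c.fixZ w = c.fixZ t := by
  obtain ⟨g, hg⟩ := c.exists_conj_Tset hs he (orderOf_eq_prime (by rw [pow_two, hw]) h1) hc
  obtain ⟨n, -, hn⟩ := c.trans_Tset hs hg ht
  rw [← c.fixZ_conj g w, ← c.fixZ_conj n (g * w * g⁻¹), hn]

/-- The congruence from `W`. -/
theorem burnside_W (hs : c.Split) (he : Extra J I R) {t : G} (ht : t ∈ c.Tset) :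
    2048 ∣ c.zclass + 1771 * c.ZH + 276 * c.fixZ t := by
  have h : Nat.card ↥c.W ∣ setSum (c.W : Set G) c.fixZ := card_dvd_setSum_class c.W z
  have e : (c.W : Set G) = ({1} ∪ {x | x ∈ c.W ∧ IsConj z x}) ∪ c.Tset := by
    ext x
    constructor
    · intro hx
      by_cases h1 : x = 1
      · exact Or.inl (Or.inl h1)
      · by_cases hc : IsConj z x
        · exact Or.inl (Or.inr ⟨hx, hc⟩)
        · exact Or.inr ⟨hx, h1, hc⟩
    · rintro ((rfl | h) | h)
      exacts [one_mem c.W, h.1, h.1]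
  rw [setSum_congr e (fun x _ => rfl), setSum_union (Set.disjoint_union_left.2
      ⟨Set.disjoint_singleton_left.2 fun h => h.2.1 rfl, Set.disjoint_left.2 fun x h h' => h'.2.2 h.2⟩),
    setSum_union (Set.disjoint_singleton_left.2 fun h => c.not_isConj_z_one h.2),
    setSum_const (S := ({1} : Set G)) (fun x hx => congrArg c.fixZ hx),
    setSum_const (S := {x | x ∈ c.W ∧ IsConj z x}) (fun x hx => c.fixZ_z hx.2),
    setSum_const (S := c.Tset) (fun x hx => c.fixZ_t hs he (c.W_sq hx.1) hx.2.1 hx.2.2 ht),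
    Set.ncard_singleton, hs.card_conj, c.card_Tset hs, one_mul, c.fixZ_one, c.card_W] at h
  exact h

/-- The congruence from the core. -/
theorem burnside_E (hs : c.Split) (he : Extra J I R) {t : G} (ht : t ∈ c.Tset) :
    8192 ∣ c.zclass + 1387 * c.ZH + 2772 * c.fixZ t + c.NFour := by
  classical
  have h : Nat.card ↥c.E ∣ setSum (c.E : Set G) c.fixZ := card_dvd_setSum_class c.E z
  set S4 := {q | q ∈ c.E ∧ q * q ≠ 1} with hS4
  set SZ := {e | e ∈ c.E ∧ e * e = 1 ∧ e ≠ 1 ∧ e ≠ z ∧ IsConj z e} with hSZ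
  set ST := {e | e ∈ c.E ∧ e * e = 1 ∧ e ≠ 1 ∧ e ≠ z ∧ ¬ IsConj z e} with hST
  have e : (c.E : Set G) = ((({1} ∪ {z}) ∪ SZ) ∪ ST) ∪ S4 := by
    ext x
    constructor
    · intro hx
      by_cases h2 : x * x = 1
      · left
        by_cases h1 : x = 1
        · exact Or.inl (Or.inl (Or.inl h1))
        · by_cases hz : x = z
          · exact Or.inl (Or.inl (Or.inr hz))
          · by_cases hc : IsConj z x
            · exact Or.inl (Or.inr ⟨hx, h2, h1, hz, hc⟩)
            · exact Or.inr ⟨hx, h2, h1, hz, hc⟩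
      · exact Or.inr ⟨hx, h2⟩
    · rintro ((((rfl | rfl) | h) | h) | h)
      exacts [one_mem c.E, c.z_mem_E, h.1, h.1, h.1]
  have d1 : Disjoint ({1} : Set G) {z} := Set.disjoint_singleton.2 c.z_ne.symm
  have d2 : Disjoint (({1} : Set G) ∪ {z}) SZ := Set.disjoint_union_left.2
    ⟨Set.disjoint_singleton_left.2 fun h => h.2.2.1 rfl, Set.disjoint_singleton_left.2 fun h => h.2.2.2.1 rfl⟩
  have d3 : Disjoint ((({1} : Set G) ∪ {z}) ∪ SZ) ST := Set.disjoint_union_left.2
    ⟨Set.disjoint_union_left.2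
      ⟨Set.disjoint_singleton_left.2 fun h => h.2.2.1 rfl, Set.disjoint_singleton_left.2 fun h => h.2.2.2.1 rfl⟩,
      Set.disjoint_left.2 fun x h h' => h'.2.2.2.2 h.2.2.2.2⟩
  have d4 : Disjoint (((({1} : Set G) ∪ {z}) ∪ SZ) ∪ ST) S4 := Set.disjoint_left.2 fun x h h' => h'.2 (by
    rcases h with ((rfl | rfl) | h) | h
    exacts [mul_one 1, c.zz, h.2.1, h.2.1])
  rw [setSum_congr e (fun x _ => rfl), setSum_union d4, setSum_union d3, setSum_union d2, setSum_union d1,
    setSum_const (S := ({1} : Set G)) (fun x hx => congrArg c.fixZ hx),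
    setSum_const (S := ({z} : Set G)) (fun x hx => (congrArg c.fixZ hx).trans (c.fixZ_z (IsConj.refl z))),
    setSum_const (S := SZ) (fun x hx => c.fixZ_z hx.2.2.2.2),
    setSum_const (S := ST) (fun x hx => c.fixZ_t hs he hx.2.1 hx.2.2.1 hx.2.2.2.2 ht),
    Set.ncard_singleton, Set.ncard_singleton, c.card_E_zz hs he, c.card_E_tt hs he, c.fixZ_one, c.card_E] at h
  have hN : setSum S4 c.fixZ = c.NFour := by
    have hf : ∀ q ∈ S4, c.fixZ q = {x | x ∈ c.H ∧ IsConj z x ∧ x * q = q * x}.ncard := by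
      intro q hq
      rw [fixZ]
      congr 1
      ext x
      refine ⟨fun hx => ⟨mem_centralizer_singleton_iff.2 ?_, hx⟩, fun hx => hx.2⟩
      have hqz : q * q = z := (c.sq_E hq.1).resolve_left hq.2
      rw [← hqz, ← mul_assoc, hx.2, mul_assoc, hx.2, mul_assoc]
    rw [setSum_congr rfl hf, NFour, setSum, setSum]
    simp only [four]
    have hcard : ∀ (p : G → Prop) (s : Finset G) [DecidablePred p], {y | y ∈ (s : Set G) ∧ p y}.ncard = (s.filter p).card :=
      fun p s _ => by rw [← Set.ncard_coe_finset, Finset.coe_filter]; rfl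
    have key := Finset.sum_card_bipartiteAbove_eq_sum_card_bipartiteBelow (fun q x : G => x * q = q * x)
      (s := S4.toFinite.toFinset) (t := {x | x ∈ c.H ∧ IsConj z x}.toFinite.toFinset)
    simp only [Finset.bipartiteAbove, Finset.bipartiteBelow, ← hcard, Set.Finite.coe_toFinset] at key
    refine Eq.trans ?_ (key.trans ?_) <;> refine Finset.sum_congr rfl fun y _ => congrArg Set.ncard ?_ <;> ext w
    · exact ⟨fun h => ⟨⟨h.1, h.2.1⟩, h.2.2⟩, fun h => ⟨h.1.1, h.1.2, h.2⟩⟩
    · exact ⟨fun h => ⟨h.1.1, h.1.2, h.2.symm⟩, fun h => ⟨⟨h.1, h.2.1⟩, h.2.2.symm⟩⟩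
  rw [hN] at h
  simp only [one_mul] at h
  rwa [show c.zclass + 1387 * c.ZH + 2772 * c.fixZ t + c.NFour =
    c.zclass + c.ZH + 1386 * c.ZH + 2772 * c.fixZ t + c.NFour by ring]

end Ctx

end CfsgLib.Spor.JFourType
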