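import Cfsg.Agent.Lib.Spor.JFourType.InvolCore

/-!
# Counting in the core

There are 2080 vectors of square zero; 693 nonzero ones come from conjugates of `z`.  The part orthogonal to a
nonzero one contains 992 vectors of square one.
-/

set_option autoImplicit false
set_option linter.style.haveILetI false

namespace CfsgLib.Spor.JFourType

open Subgroup

universe u

/-- A finite additive group of exponent two is halved by a map that an element flips. -/
theorem ncard_half {V : Type*} [AddCommGroup V] [Finite V] (h2 : ∀ v : V, v + v = 0) (S : Set V) (f : V → ZMod 2)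
    (u : V) (hS : ∀ v ∈ S, v + u ∈ S) (hf : ∀ v ∈ S, f (v + u) = f v + 1) (a : ZMod 2) :
    2 * {v | v ∈ S ∧ f v = a}.ncard = S.ncard := by
  classical
  have hz : ∀ x : ZMod 2, x = a ∨ x = a + 1 := by revert a; decide
  have hinj : Function.Injective fun v : V => v + u := fun x y h => add_right_cancel h
  have e : (fun v => v + u) '' {v | v ∈ S ∧ f v = a} = {v | v ∈ S ∧ f v = a + 1} := by
    ext w
    constructor
    · rintro ⟨v, ⟨hv, hv'⟩, rfl⟩
      exact ⟨hS v hv, by rw [hf v hv, hv']⟩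
    · rintro ⟨hw, hw'⟩
      refine ⟨w + u, ⟨hS w hw, ?_⟩, by simp [add_assoc, h2]⟩
      rw [hf w hw, hw', add_assoc, show (1 : ZMod 2) + 1 = 0 by decide, add_zero]
  have hcard := Set.ncard_image_of_injective {v | v ∈ S ∧ f v = a} hinj
  rw [e] at hcard
  have hu : {v | v ∈ S ∧ f v = a} ∪ {v | v ∈ S ∧ f v = a + 1} = S := by
    ext v
    simp only [Set.mem_union, Set.mem_setOf_eq]
    exact ⟨fun h => h.elim And.left And.left, fun h => (hz (f v)).imp (fun e => ⟨h, e⟩) fun e => ⟨h, e⟩⟩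
  have hd : Disjoint {v | v ∈ S ∧ f v = a} {v | v ∈ S ∧ f v = a + 1} := by
    rw [Set.disjoint_left]
    rintro v ⟨-, h1⟩ ⟨-, h2'⟩
    exact (by decide : ∀ x : ZMod 2, x ≠ x + 1) a (h1.symm.trans h2')
  conv_rhs => rw [← hu]
  rw [Set.ncard_union_eq hd (Set.toFinite _) (Set.toFinite _), hcard, two_mul]

namespace Ctx

variable {G : Type u} [Group G] [Finite G] {A : Type} [Group A] {J I R : Subgroup A}
  {z : G} {P : Subgroup G} (c : Ctx J I R z P)
include c

/-- Over a set of vectors lie twice as many elements of the core. -/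
theorem ncard_over (S : Set c.Vs) : {e | e ∈ c.E ∧ c.pv e ∈ S}.ncard = 2 * S.ncard := by
  classical
  choose a ha hav using c.pv_surj
  have e : {e | e ∈ c.E ∧ c.pv e ∈ S} = a '' S ∪ (fun v => z * a v) '' S := by
    ext x
    constructor
    · rintro ⟨hx, hxS⟩
      rcases (c.pv_eq_iff hx (ha (c.pv x))).1 (hav _).symm with h | h
      · exact Or.inl ⟨_, hxS, h.symm⟩
      · exact Or.inr ⟨_, hxS, h.symm⟩
    · rintro (⟨v, hv, rfl⟩ | ⟨v, hv, rfl⟩)
      · exact ⟨ha v, (hav v).symm ▸ hv⟩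
      · exact ⟨mul_mem c.z_mem_E (ha v), by rwa [c.pv_mul c.z_mem_E (ha v), c.pv_z, zero_add, hav v]⟩
  have hinj : Function.Injective a := fun v w h => by rw [← hav v, h, hav]
  have hinj' : Function.Injective fun v => z * a v := fun v w h => hinj (mul_left_cancel h)
  have hd : Disjoint (a '' S) ((fun v => z * a v) '' S) := by
    rw [Set.disjoint_left]
    rintro _ ⟨v, hv, rfl⟩ ⟨w, hw, h⟩
    have hvw : v = w := by
      rw [← hav v, ← hav w, ← h, c.pv_mul c.z_mem_E (ha w), c.pv_z, zero_add]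
    subst hvw
    exact c.z_ne (mul_eq_right.1 h)
  rw [e, Set.ncard_union_eq hd (Set.toFinite _) (Set.toFinite _), Set.ncard_image_of_injective _ hinj,
    Set.ncard_image_of_injective _ hinj', two_mul]

theorem zn_disjoint (hs : c.Split) : Disjoint c.Zvec c.Nvec := by
  rw [Set.disjoint_left]
  rintro _ ⟨u, hu, -, huc, rfl⟩ ⟨h, hh, w, hw, hw'⟩
  have hu' : h⁻¹ * u * h ∈ c.E := c.conj_E' hh hu
  have hp : c.pv (h⁻¹ * u * h) = w := by
    have := c.pv_conj (inv_mem hh) hu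
    rw [inv_inv, ← hw', c.act_inv_apply hh] at this
    exact this
  have hT := c.mem_TU hs (t := h⁻¹ * u * h) ⟨hu', hp.symm ▸ hw.1⟩ (hp.symm ▸ hw)
  refine hT.1.2.2 ?_
  have := (c.isConj_z_conj h⁻¹ u).2 huc
  rwa [inv_inv] at this

/-- The nonzero vectors of square zero. -/
def Sing : Set c.Vs := {v | c.Sf v = 0 ∧ v ≠ 0}

theorem zn_subset : c.Zvec ∪ c.Nvec ⊆ c.Sing := by
  rintro v (⟨u, hu, huz, huc, rfl⟩ | ⟨h, hh, w, hw, rfl⟩)
  · obtain ⟨g, rfl⟩ := isConj_iff.1 huc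
    refine ⟨(c.Sf_sq hu).2 ?_, fun h => ((c.pv_eq_zero hu).1 h).elim (fun h => c.not_isConj_z_one (h ▸ huc)) huz⟩
    rw [conj_mul, c.zz, mul_one, mul_inv_cancel]
  · exact ⟨(c.Sf_act hh w).trans (c.Sf_U hw.1),
      fun h0 => hw.2.1 (c.act_injective hh (h0.trans (map_zero _).symm))⟩

/-- The two kinds of singular vectors. -/
theorem sing_census (hs : c.Split) (he : Extra J I R) :
    c.Zvec ∪ c.Nvec = c.Sing ∧ c.Zvec.ncard = 693 ∧ c.Nvec.ncard = 1386 ∧ c.Sing.ncard = 2079 := by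
  have h1 := Set.ncard_le_ncard c.zn_subset (Set.toFinite _)
  rw [Set.ncard_union_eq (c.zn_disjoint hs) (Set.toFinite _) (Set.toFinite _)] at h1
  have h2 := c.card_singular_le
  have h3 := c.card_Zvec hs he
  have h4 := c.card_Nvec hs
  rw [show {v : c.Vs | c.Sf v = 0 ∧ v ≠ 0} = c.Sing from rfl] at h2
  refine ⟨Set.eq_of_subset_of_ncard_le c.zn_subset ?_ (Set.toFinite _), by omega, by omega, by omega⟩
  rw [Set.ncard_union_eq (c.zn_disjoint hs) (Set.toFinite _) (Set.toFinite _)]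
  omega

theorem card_sq_zero (hs : c.Split) (he : Extra J I R) : {v : c.Vs | c.Sf v = 0}.ncard = 2080 := by
  have h0 : (0 : c.Vs) ∉ c.Sing := fun h => h.2 rfl
  have e : {v : c.Vs | c.Sf v = 0} = insert 0 c.Sing := by
    ext v
    by_cases hv : v = 0
    · subst hv
      simp only [Set.mem_setOf_eq, Set.mem_insert_iff, true_or, iff_true]
      exact c.Sf_U (zero_mem _)
    · simp [Sing, hv]
  rw [e, Set.ncard_insert_of_notMem h0 (Set.toFinite _), (c.sing_census hs he).2.2.2]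

/-- There are 4032 elements of order four in the core. -/
theorem card_E_four (hs : c.Split) (he : Extra J I R) : {e | e ∈ c.E ∧ e * e ≠ 1}.ncard = 4032 := by
  have e : {e | e ∈ c.E ∧ e * e ≠ 1} = {e | e ∈ c.E ∧ c.pv e ∈ {v | c.Sf v = 0}ᶜ} := by
    ext x
    simp only [Set.mem_setOf_eq, Set.mem_compl_iff]
    exact ⟨fun h => ⟨h.1, fun h' => h.2 ((c.Sf_sq h.1).1 h')⟩, fun h => ⟨h.1, fun h' => h.2 ((c.Sf_sq h.1).2 h')⟩⟩
  rw [e, c.ncard_over, Set.ncard_compl, c.card_sq_zero hs he, c.card_V]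
  norm_num

/-- The vectors of square one orthogonal to a nonzero singular vector. -/
theorem card_nonsing_perp (hs : c.Split) (he : Extra J I R) {v : c.Vs} (hv : v ∈ c.Sing) :
    {w : c.Vs | c.Bf v w = 0 ∧ c.Sf w = 1}.ncard = 992 := by
  classical
  obtain ⟨p, hp⟩ : ∃ p, c.Bf v p ≠ 0 := by
    by_contra hcon
    push Not at hcon
    exact hv.2 (c.Bf_nondeg hcon)
  have h01 : ∀ x : ZMod 2, x = 0 ∨ x = 1 := by decide
  have hp1 : c.Bf v p = 1 := (h01 _).resolve_left hp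
  have hhalf := ncard_half c.two_V (Set.univ : Set c.Vs) (c.Bf v) p (fun _ _ => Set.mem_univ _)
    (fun w _ => by rw [c.Bf_add_right, hp1])
  have hB : ∀ b, {w : c.Vs | c.Bf v w = b}.ncard = 2048 := fun b => by
    have h := hhalf b
    simp only [Set.mem_univ, true_and, Set.ncard_univ, c.card_V] at h
    omega
  have hflip := ncard_half c.two_V {w : c.Vs | c.Bf v w = 1} c.Sf v
    (fun w hw => by
      simp only [Set.mem_setOf_eq] at hw ⊢
      rw [c.Bf_add_right, c.Bf_self, add_zero, hw])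
    (fun w hw => by
      simp only [Set.mem_setOf_eq] at hw
      rw [c.Sf_add, hv.1, add_zero, c.Bf_symm, hw]) 0
  simp only [Set.mem_setOf_eq, hB] at hflip
  have e1 : {w : c.Vs | c.Sf w = 0} = {w | c.Bf v w = 1 ∧ c.Sf w = 0} ∪ {w | c.Bf v w = 0 ∧ c.Sf w = 0} := by
    ext w
    simp only [Set.mem_setOf_eq, Set.mem_union]
    rcases h01 (c.Bf v w) with h | h <;> simp [h]
  have e2 : {w : c.Vs | c.Bf v w = 0} = {w | c.Bf v w = 0 ∧ c.Sf w = 1} ∪ {w | c.Bf v w = 0 ∧ c.Sf w = 0} := by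
    ext w
    simp only [Set.mem_setOf_eq, Set.mem_union]
    rcases h01 (c.Sf w) with h | h <;> simp [h]
  have t1 := congrArg Set.ncard e1
  rw [c.card_sq_zero hs he, Set.ncard_union_eq (Set.disjoint_left.2 fun w a b => by
    have := a.1.symm.trans b.1; exact absurd this (by decide)) (Set.toFinite _) (Set.toFinite _)] at t1
  have t2 := congrArg Set.ncard e2
  rw [hB, Set.ncard_union_eq (Set.disjoint_left.2 fun w a b => by
    have := a.2.symm.trans b.2; exact absurd this (by decide)) (Set.toFinite _) (Set.toFinite _)] at t2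
  omega

/-- The order four elements of the core commuting with an involution of the core. -/
theorem card_E_four_comm (hs : c.Split) (he : Extra J I R) {u : G} (hu : u ∈ c.E) (h2 : u * u = 1) (h1 : u ≠ 1)
    (hz : u ≠ z) : {e | e ∈ c.E ∧ e * e ≠ 1 ∧ e * u = u * e}.ncard = 1984 := by
  have hv : c.pv u ∈ c.Sing := ⟨(c.Sf_sq hu).2 h2, fun h => ((c.pv_eq_zero hu).1 h).elim h1 hz⟩
  have h01 : ∀ x : ZMod 2, x = 0 ∨ x = 1 := by decide
  have e : {e | e ∈ c.E ∧ e * e ≠ 1 ∧ e * u = u * e} =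
      {e | e ∈ c.E ∧ c.pv e ∈ {w | c.Bf (c.pv u) w = 0 ∧ c.Sf w = 1}} := by
    ext x
    simp only [Set.mem_setOf_eq]
    refine and_congr_right fun hx => ?_
    constructor
    · rintro ⟨h4, hc⟩
      exact ⟨(c.Bf_comm hu hx).2 hc.symm, (h01 _).resolve_left fun h => h4 ((c.Sf_sq hx).1 h)⟩
    · rintro ⟨hB, hS⟩
      exact ⟨fun h => by rw [(c.Sf_sq hx).2 h] at hS; exact absurd hS (by decide), ((c.Bf_comm hu hx).1 hB).symm⟩
  rw [e, c.ncard_over, c.card_nonsing_perp hs he hv]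

/-- Type and count of the involutions of the core. -/
theorem E_invol_type (hs : c.Split) (he : Extra J I R) {e : G} (heE : e ∈ c.E) (h2 : e * e = 1) (h1 : e ≠ 1)
    (hz : e ≠ z) : (IsConj z e ↔ c.pv e ∈ c.Zvec) ∧ (IsConj z (e * z) ↔ IsConj z e) := by
  refine ⟨⟨fun h => ⟨e, heE, hz, h, rfl⟩, fun ⟨u, hu, huz, huc, hpu⟩ => ?_⟩, ?_⟩
  · rcases (c.pv_eq_iff heE hu).1 hpu.symm with h | h
    · exact h ▸ huc
    · exact h ▸ huc.trans (c.isConj_mul_z hu (fun e => c.not_isConj_z_one (e ▸ huc)) huz)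
  · have hc := c.isConj_mul_z heE h1 hz
    rw [c.comm_z (c.E_le heE)]
    exact ⟨fun h => h.trans hc.symm, fun h => h.trans hc⟩

theorem card_E_zz (hs : c.Split) (he : Extra J I R) :
    {e | e ∈ c.E ∧ e * e = 1 ∧ e ≠ 1 ∧ e ≠ z ∧ IsConj z e}.ncard = 1386 := by
  have e : {e | e ∈ c.E ∧ e * e = 1 ∧ e ≠ 1 ∧ e ≠ z ∧ IsConj z e} = {e | e ∈ c.E ∧ c.pv e ∈ c.Zvec} := by
    ext x
    simp only [Set.mem_setOf_eq]
    refine and_congr_right fun hx => ⟨fun ⟨h2, h1, hz, hc⟩ => ((c.E_invol_type hs he hx h2 h1 hz).1).1 hc,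
      fun hv => ?_⟩
    have hv' := c.zn_subset (Or.inl hv)
    have h2 := (c.Sf_sq hx).1 hv'.1
    have h1 : x ≠ 1 := fun h => hv'.2 (by rw [h, c.pv_one])
    have hz : x ≠ z := fun h => hv'.2 (by rw [h, c.pv_z])
    exact ⟨h2, h1, hz, ((c.E_invol_type hs he hx h2 h1 hz).1).2 hv⟩
  rw [e, c.ncard_over, (c.sing_census hs he).2.1]

theorem card_E_tt (hs : c.Split) (he : Extra J I R) :
    {e | e ∈ c.E ∧ e * e = 1 ∧ e ≠ 1 ∧ e ≠ z ∧ ¬ IsConj z e}.ncard = 2772 := by
  have e : {e | e ∈ c.E ∧ e * e = 1 ∧ e ≠ 1 ∧ e ≠ z ∧ ¬ IsConj z e} = {e | e ∈ c.E ∧ c.pv e ∈ c.Nvec} := by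
    ext x
    simp only [Set.mem_setOf_eq]
    refine and_congr_right fun hx => ⟨fun ⟨h2, h1, hz, hc⟩ => ?_, fun hv => ?_⟩
    · exact ((c.sing_census hs he).1.ge
        (show c.pv x ∈ c.Sing from ⟨(c.Sf_sq hx).2 h2, fun h => ((c.pv_eq_zero hx).1 h).elim h1 hz⟩)).resolve_left
          fun hZ => hc (((c.E_invol_type hs he hx h2 h1 hz).1).2 hZ)
    · have hv' := c.zn_subset (Or.inr hv)
      have h2 := (c.Sf_sq hx).1 hv'.1
      have h1 : x ≠ 1 := fun h => hv'.2 (by rw [h, c.pv_one])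
      have hz : x ≠ z := fun h => hv'.2 (by rw [h, c.pv_z])
      exact ⟨h2, h1, hz, fun hc => Set.disjoint_left.1 (c.zn_disjoint hs)
        (((c.E_invol_type hs he hx h2 h1 hz).1).1 hc) hv⟩
  rw [e, c.ncard_over, (c.sing_census hs he).2.2.1]

end Ctx

end CfsgLib.Spor.JFourType
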