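import Cfsg.Agent.Lib.Spor.JFourType.Order.CensusDef
import Cfsg.Agent.Lib.Spor.JFourType.Order.Singular
import Cfsg.Agent.Lib.Spor.JFourType.InvolOuter

/-!
# The census over an outer involution

Over an outer involution of the quotient there are 384 involutions, each conjugate by `H` to a given one `x` or to
`x * z`; none commutes with an element of order four of the core.
-/

set_option autoImplicit false
set_option linter.style.haveILetI false

namespace CfsgLib.Spor.JFourType.Ctx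

open Subgroup

universe u

variable {G : Type u} [Group G] [Finite G] {A : Type} [Group A] {J I R : Subgroup A}
  {z : G} {P : Subgroup G} (c : Ctx J I R z P)
include c

/-- The displacement of an element. -/
noncomputable def disp (x : G) : c.Vs →+ c.Vs :=
  AddMonoidHom.mk' (fun v => c.act x v + v) fun a b => by rw [map_add, add_add_add_comm]

theorem disp_apply (x : G) (v : c.Vs) : c.disp x v = c.act x v + v := rfl

theorem act_act_invol {x : G} (hx : x ∈ c.H) (hx2 : x * x = 1) (v : c.Vs) : c.act x (c.act x v) = v := by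
  rw [← c.act_apply_mul hx hx, hx2, c.act_one]; rfl

theorem outer_fix_eq_range {x : G} (hx : x ∈ c.H) (hxM : x ∉ c.M) (hx2 : x * x = 1) :
    (c.disp x).range = c.fix {x} ∧ Nat.card ↥(c.fix {x}) = 64 := by
  have hxx := c.act_act_invol hx hx2
  have hker : (c.disp x).ker = c.fix {x} := by
    ext v
    rw [AddMonoidHom.mem_ker, c.disp_apply, c.mem_fix_singleton]
    exact ⟨fun h => c.add_eq_zero_V h, fun h => by rw [h, c.two_V]⟩
  have hle : (c.disp x).range ≤ c.fix {x} := by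
    rintro _ ⟨v, rfl⟩
    rw [c.mem_fix_singleton, c.disp_apply, map_add, hxx, add_comm]
  have h64 := c.card_fix_outer hx hxM
  have hcard := (c.disp x).ker.card_mul_index
  rw [AddSubgroup.index_ker, hker, c.card_V] at hcard
  have hler := AddSubgroup.card_le_of_le hle
  have hk : Nat.card ↥(c.fix {x}) = 64 := by
    refine le_antisymm (by simpa using h64) ?_
    by_contra hlt
    push Not at hlt
    have := Nat.mul_le_mul (Nat.le_of_lt_succ (Nat.lt_succ_of_lt hlt)) hler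
    have h2 : Nat.card ↥(c.fix {x}) * Nat.card ↥(c.fix {x}) < 64 * 64 :=
      Nat.mul_lt_mul_of_le_of_lt hlt.le hlt (by norm_num)
    nlinarith
  refine ⟨AddSubgroup.eq_of_le_of_card_ge hle ?_, hk⟩
  rw [hk] at hcard ⊢
  omega

/-- An element of the core over the fixed space is inverted by the involution. -/
theorem outer_inverts_E {x : G} (hx : x ∈ c.H) (hxM : x ∉ c.M) (hx2 : x * x = 1) {e : G} (he : e ∈ c.E)
    (hf : c.pv e ∈ c.fix {x}) :
    x * e * x = e⁻¹ ∧ ∃ f ∈ c.E, e * x = f * x * f⁻¹ ∨ e * x = f * (x * z) * f⁻¹ := by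
  obtain ⟨p, hp⟩ := (c.outer_fix_eq_range hx hxM hx2).1.ge hf
  obtain ⟨f, hfE, rfl⟩ := c.pv_surj p
  have hxi : x⁻¹ = x := inv_eq_of_mul_eq_one_left hx2
  set w := f * (x * f⁻¹ * x) with hw
  have hcon : x * f⁻¹ * x ∈ c.E := by
    have := c.conj_E hx (inv_mem hfE)
    rwa [hxi] at this
  have hwE : w ∈ c.E := mul_mem hfE hcon
  have hwv : c.pv w = c.pv e := by
    rw [hw, c.pv_mul hfE hcon, show x * f⁻¹ * x = x * f⁻¹ * x⁻¹ by rw [hxi], c.pv_conj hx (inv_mem hfE),
      c.pv_inv hfE, ← hp, c.disp_apply, add_comm]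
  have hwx : x * w * x = w⁻¹ := by
    refine eq_inv_of_mul_eq_one_left ?_
    calc x * w * x * w = (x * f * (x * f⁻¹ * (x * x))) * (f * (x * f⁻¹ * x)) := by rw [hw]; group
      _ = x * f * (x * f⁻¹) * (f * (x * f⁻¹ * x)) := by rw [hx2, mul_one]
      _ = x * f * (x * x) * f⁻¹ * x := by group
      _ = x * x := by rw [hx2, mul_one, mul_inv_cancel_right]; exact hx2
      _ = 1 := hx2
  have hwc : w * x = f * x * f⁻¹ := by rw [hw, mul_assoc, mul_assoc (x * f⁻¹), hx2, mul_one, ← mul_assoc]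
  rcases (c.pv_eq_iff he hwE).1 hwv.symm with rfl | rfl
  · exact ⟨hwx, f, hfE, Or.inl hwc⟩
  · refine ⟨?_, f, hfE, Or.inr ?_⟩
    · calc x * (z * w) * x = (x * z) * w * x := by group
        _ = z * (x * w * x) := by rw [c.comm_z hx]; group
        _ = w⁻¹ * z := by rw [hwx, ← c.comm_z (inv_mem (c.E_le hwE))]
        _ = (z * w)⁻¹ := by rw [mul_inv_rev z w, inv_eq_of_mul_eq_one_left c.zz]
    · rw [mul_assoc z w x, hwc, c.comm_z hx]
      calc z * (f * x * f⁻¹) = (z * f) * x * f⁻¹ := by group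
        _ = f * (z * x) * f⁻¹ := by rw [← c.comm_z (c.E_le hfE)]; group

/-- The elements over the image of `x` with the action of `x` turned by a power of `om`. -/
def turn (x : G) (k : ℕ) : Set G :=
  {t | t ∈ c.invFib (c.im x) ∧ ∀ v, c.act t v = (c.om ^ k) (c.act x v)}

theorem om_pow_succ (k : ℕ) (v : c.Vs) : (c.om ^ (k + 1)) v = c.om ((c.om ^ k) v) := by
  rw [pow_succ']; rfl

theorem turn_zero_iff {x t : G} : t ∈ c.turn x 0 ↔ t ∈ c.invFib (c.im x) ∧ c.act t = c.act x :=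
  ⟨fun h => ⟨h.1, DFunLike.ext _ _ fun v => by rw [h.2 v, pow_zero]; rfl⟩,
    fun h => ⟨h.1, fun v => by rw [h.2, pow_zero]; rfl⟩⟩

theorem turn_zero {x : G} (hx : x ∈ c.H) (hxM : x ∉ c.M) (hx2 : x * x = 1) :
    c.turn x 0 = (fun e => e * x) '' {e | e ∈ c.E ∧ c.pv e ∈ c.fix {x}} := by
  have hxi : x⁻¹ = x := inv_eq_of_mul_eq_one_left hx2
  ext t
  rw [c.turn_zero_iff]
  constructor
  · rintro ⟨⟨ht, ht2, -⟩, hact⟩
    have hee : t * x ∈ c.E := (c.act_eq_one (mul_mem ht hx)).1 (DFunLike.ext _ _ fun v => by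
      rw [c.act_apply_mul ht hx, hact, c.act_act_invol hx hx2]; rfl)
    refine ⟨t * x, ⟨hee, c.mem_fix_singleton.2 ?_⟩, by show t * x * x = t; rw [mul_assoc, hx2, mul_one]⟩
    have h : x * (t * x) * x⁻¹ = (t * x)⁻¹ := by
      rw [hxi, mul_inv_rev, hxi, inv_eq_of_mul_eq_one_left ht2, mul_assoc, mul_assoc, hx2, mul_one]
    rw [← c.pv_conj hx hee, h, c.pv_inv hee]
  · rintro ⟨e, ⟨he, hf⟩, rfl⟩
    refine ⟨⟨mul_mem (c.E_le he) hx, ?_, by rw [c.im_mul (c.E_le he) hx, c.im_E he, one_mul]⟩, ?_⟩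
    · calc e * x * (e * x) = e * (x * e * x) := by group
        _ = 1 := by rw [(c.outer_inverts_E hx hxM hx2 he hf).1, mul_inv_cancel]
    · rw [c.act_mul (c.E_le he) hx, (c.act_eq_one (c.E_le he)).2 he, one_mul]

theorem turn_conj {x : G} (hx : x ∈ c.H) (hxM : x ∉ c.M) {t : G} {k : ℕ} (ht : t ∈ c.turn x k) :
    c.pg * t * c.pg⁻¹ ∈ c.turn x (k + 2) := by
  refine ⟨?_, fun v => ?_⟩
  · have := (conj_invFib (c := c) c.pg_H).2 ht.1
    rwa [show c.im c.pg = 1 by
      rw [c.im_eq c.pg_H]; exact c.pr_P c.pg_mem, one_mul, inv_one, mul_one] at this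
  · rw [c.act_apply_mul (mul_mem c.pg_H ht.1.1) (inv_mem c.pg_H), c.act_apply_mul c.pg_H ht.1.1, c.act_pg_inv, ht.2]
    show c.om _ = _
    have h1 : ∀ w, c.act x (c.om (c.om w)) = c.om (c.act x w) := fun w => by
      rw [c.om_outer hx hxM, c.om_outer hx hxM, c.om_cube]
    rw [h1, show k + 2 = (k + 1) + 1 from rfl, c.om_pow_succ, pow_succ]
    rfl

theorem turn_add_three {x : G} (k : ℕ) : c.turn x (k + 3) = c.turn x k := by
  ext t
  refine and_congr_right fun _ => forall_congr' fun v => ?_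
  rw [show k + 3 = ((k + 1) + 1) + 1 from rfl, c.om_pow_succ, c.om_pow_succ, c.om_pow_succ, c.om_cube]

theorem turn_disjoint {x : G} (hx : x ∈ c.H) (k : ℕ) :
    Disjoint (c.turn x k) (c.turn x (k + 1)) ∧ Disjoint (c.turn x k) (c.turn x (k + 2)) := by
  have key : ∀ (k j : ℕ) (w : c.Vs), (c.om ^ (k + j)) w = (c.om ^ j) ((c.om ^ k) w) := fun k j w => by
    rw [add_comm, pow_add]; rfl
  obtain ⟨v, hv⟩ : ∃ v : c.Vs, v ≠ 0 := by
    haveI : Nontrivial c.Vs := Finite.one_lt_card_iff_nontrivial.1 (by rw [c.card_V]; norm_num)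
    exact exists_ne 0
  have hne : ∀ k, (c.om ^ k) v ≠ 0 := by
    intro k
    induction k with
    | zero => simpa using hv
    | succ k ih => rw [c.om_pow_succ]; exact c.om_ne_zero ih
  constructor <;>
  · rw [Set.disjoint_left]
    intro t h h'
    have e := (h.2 (c.act x⁻¹ v)).symm.trans (h'.2 (c.act x⁻¹ v))
    rw [c.act_apply_inv hx, key] at e
    refine hne k (c.om_fixed ?_)
    first
      | exact e.symm
      | (have e2 := congrArg c.om e
         rw [show (c.om ^ 2) ((c.om ^ k) v) = c.om (c.om ((c.om ^ k) v)) from rfl, c.om_cube] at e2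
         exact e2)

/-- The fibre over an outer image. -/
theorem outer_fib {x : G} (hx : x ∈ c.H) (hxM : x ∉ c.M) (hx2 : x * x = 1) :
    (c.invFib (c.im x)).ncard = 384 ∧
      ∀ t ∈ c.invFib (c.im x), ∃ h ∈ c.H, h * t * h⁻¹ = x ∨ h * t * h⁻¹ = x * z := by
  have hcov : c.invFib (c.im x) = c.turn x 0 ∪ c.turn x 1 ∪ c.turn x 2 := by
    refine Set.Subset.antisymm (fun t ht => ?_) ?_
    · obtain ⟨htH, ht2, hti⟩ := ht
      have hk : t * x ∈ c.H := mul_mem htH hx
      have hk1 : c.pr ⟨t * x, hk⟩ = 1 := by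
        rw [← c.im_eq hk, c.im_mul htH hx, hti, ← c.im_mul hx hx, hx2, c.im_one]
      obtain ⟨e, hee, q, hq, hkq⟩ := c.ker_decomp hk hk1
      have hqH : q ∈ c.H := (c.P_le_C0 hq).1
      have htq : ∀ v, c.act t v = c.act q (c.act x v) := fun v => by
        rw [show t = e * q * x by rw [← hkq, mul_assoc, hx2, mul_one],
          c.act_apply_mul (mul_mem (c.E_le hee) hqH) hx, c.act_apply_mul (c.E_le hee) hqH,
          (c.act_eq_one (c.E_le hee)).2 hee]
        rfl
      rcases c.mem_P hq with rfl | rfl | rfl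
      · exact Or.inl (Or.inl ⟨⟨htH, ht2, hti⟩, fun v => by rw [htq, c.act_one, pow_zero]⟩)
      · exact Or.inl (Or.inr ⟨⟨htH, ht2, hti⟩, fun v => by rw [htq, pow_one]; rfl⟩)
      · exact Or.inr ⟨⟨htH, ht2, hti⟩, fun v => by rw [htq, c.act_pg_inv]; rfl⟩
    · rintro t ((h | h) | h) <;> exact h.1
  have hinj : Function.Injective fun t => c.pg * t * c.pg⁻¹ := (MulAut.conj c.pg).injective
  have hle : ∀ k, (c.turn x k).ncard ≤ (c.turn x (k + 2)).ncard := fun k =>
    Set.ncard_le_ncard_of_injOn (fun t => c.pg * t * c.pg⁻¹) (fun t ht => c.turn_conj hx hxM ht) hinj.injOn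
      (Set.toFinite _)
  have h02 := hle 0
  have h21 : (c.turn x 2).ncard ≤ (c.turn x 1).ncard := (hle 2).trans_eq (by rw [c.turn_add_three 1])
  have h10 : (c.turn x 1).ncard ≤ (c.turn x 0).ncard := (hle 1).trans_eq (by rw [c.turn_add_three 0])
  have h0 : (c.turn x 0).ncard = 128 := by
    rw [c.turn_zero hx hxM hx2, Set.ncard_image_of_injective _ (mul_left_injective x)]
    rw [show {e | e ∈ c.E ∧ c.pv e ∈ c.fix {x}} = {e | e ∈ c.E ∧ c.pv e ∈ (c.fix {x} : Set c.Vs)} from rfl,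
      c.ncard_over, ← Nat.card_coe_set_eq, SetLike.coe_sort_coe, (c.outer_fix_eq_range hx hxM hx2).2]
  have h0rep : ∀ t ∈ c.turn x 0, ∃ h ∈ c.H, h * t * h⁻¹ = x ∨ h * t * h⁻¹ = x * z := by
    intro t ht
    rw [c.turn_zero hx hxM hx2] at ht
    obtain ⟨e, ⟨he, hf⟩, rfl⟩ := ht
    obtain ⟨-, f, hfE, h⟩ := c.outer_inverts_E hx hxM hx2 he hf
    refine ⟨f⁻¹, inv_mem (c.E_le hfE), ?_⟩
    rcases h with h | h
    · left; show f⁻¹ * (e * x) * f⁻¹⁻¹ = x; rw [h]; group
    · right; show f⁻¹ * (e * x) * f⁻¹⁻¹ = x * z; rw [h]; group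
  refine ⟨?_, fun t ht => ?_⟩
  · rw [hcov, Set.ncard_union_eq (Set.disjoint_union_left.2 ⟨(c.turn_disjoint hx 0).2, (c.turn_disjoint hx 1).1⟩)
      (Set.toFinite _) (Set.toFinite _), Set.ncard_union_eq (c.turn_disjoint hx 0).1 (Set.toFinite _) (Set.toFinite _)]
    simp only [Nat.zero_add] at *
    omega
  · have hone : ∀ {r t : G} {k : ℕ}, r ∈ c.H → c.turn x k = c.turn x 0 → r * t * r⁻¹ ∈ c.turn x k →
        ∃ h ∈ c.H, h * t * h⁻¹ = x ∨ h * t * h⁻¹ = x * z := by
      intro r t k hr hk hmem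
      obtain ⟨h, hh, e⟩ := h0rep _ (hk ▸ hmem)
      refine ⟨h * r, mul_mem hh hr, ?_⟩
      rwa [show h * r * t * (h * r)⁻¹ = h * (r * t * r⁻¹) * h⁻¹ by group]
    rw [hcov] at ht
    rcases ht with (h | h) | h
    · exact h0rep t h
    · exact hone c.pg_H (c.turn_add_three 0) (c.turn_conj hx hxM h)
    · have h4 := c.turn_conj hx hxM (c.turn_conj hx hxM h)
      refine hone (r := c.pg * c.pg) (mul_mem c.pg_H c.pg_H)
        (((c.turn_add_three 3).trans (c.turn_add_three 0) : c.turn x (2 + 2 + 2) = c.turn x 0)) ?_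
      rwa [show c.pg * c.pg * t * (c.pg * c.pg)⁻¹ = c.pg * (c.pg * t * c.pg⁻¹) * c.pg⁻¹ by group]

/-- When exactly one of each pair is conjugate to `z`. -/
theorem outer_census_half {a : A} (hcard : (c.invFib a).ncard = 384)
    (hne : ∀ t ∈ c.invFib a, IsConj z (t * z) ↔ ¬ IsConj z t) :
    c.nZZ a = 0 ∧ c.nZT a = 192 ∧ c.nTT a = 0 := by
  have hz : ∀ t : G, t * z * z = t := fun t => by rw [mul_assoc, c.zz, mul_one]
  refine ⟨?_, ?_, ?_⟩
  · rw [nZZ, Set.ncard_eq_zero (Set.toFinite _), Set.eq_empty_iff_forall_notMem]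
    exact fun t ht => (hne t ht.1).1 ht.2.2 ht.2.1
  · set S := {t | t ∈ c.invFib a ∧ c.TyZT t} with hS
    set T := {t | t ∈ c.invFib a ∧ ¬ IsConj z t} with hT
    have e : (fun t => t * z) '' S = T := by
      ext t
      constructor
      · rintro ⟨y, ⟨hy, -, hy2⟩, rfl⟩
        exact ⟨invFib_mul_z hy, hy2⟩
      · rintro ⟨ht, ht1⟩
        exact ⟨t * z, ⟨invFib_mul_z ht, (hne t ht).2 ht1, by rwa [hz]⟩, hz t⟩
    have hu : c.invFib a = S ∪ T := by
      ext t
      refine ⟨fun ht => ?_, fun h => h.elim And.left And.left⟩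
      by_cases hc : IsConj z t
      · exact Or.inl ⟨ht, hc, fun h => (hne t ht).1 h hc⟩
      · exact Or.inr ⟨ht, hc⟩
    have hd : Disjoint S T := Set.disjoint_left.2 fun t h h' => h'.2 h.2.1
    have h := congrArg Set.ncard hu
    rw [Set.ncard_union_eq hd (Set.toFinite _) (Set.toFinite _), hcard, ← e,
      Set.ncard_image_of_injective _ (mul_left_injective z)] at h
    show S.ncard = 192
    omega
  · rw [nTT, Set.ncard_eq_zero (Set.toFinite _), Set.eq_empty_iff_forall_notMem]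
    exact fun t ht => ht.2.2 ((hne t ht.1).2 ht.2.1)

/-- The numbers over an outer image. -/
theorem outer_census (hs : c.Split) (he : Extra J I R) {a : A} (ha : a ∉ J) (ha2 : a * a = 1) :
    ((c.nZZ a = 384 ∧ c.nZT a = 0 ∧ c.nTT a = 0) ∨ (c.nZZ a = 0 ∧ c.nZT a = 192 ∧ c.nTT a = 0) ∨
      (c.nZZ a = 0 ∧ c.nZT a = 0 ∧ c.nTT a = 384)) ∧ c.sFour a = 0 := by
  obtain ⟨x, g, hx, hx2, rfl, -, -⟩ := c.exists_outer_in_core hs he ha ha2
  have hxM : x ∉ c.M := fun h => ha ((c.mem_M_iff_im hx).1 h)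
  obtain ⟨hcard, hrep⟩ := c.outer_fib hx hxM hx2
  have hxzz : x * z * z = x := by rw [mul_assoc, c.zz, mul_one]
  have hty : ∀ t ∈ c.invFib (c.im x), ((IsConj z t ↔ IsConj z x) ∧ (IsConj z (t * z) ↔ IsConj z (x * z))) ∨
      ((IsConj z t ↔ IsConj z (x * z)) ∧ (IsConj z (t * z) ↔ IsConj z x)) := by
    intro t ht
    obtain ⟨h, hh, e⟩ := hrep t ht
    rw [← c.isConj_z_conj h t, ← c.isConj_z_conj h (t * z), ← conj_mul_z hh t]
    rcases e with e | e <;> rw [e]
    · exact Or.inl ⟨Iff.rfl, Iff.rfl⟩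
    · rw [hxzz]; exact Or.inr ⟨Iff.rfl, Iff.rfl⟩
  have hfour : ∀ t ∈ c.invFib (c.im x), c.four t = 0 := by
    intro t ht
    obtain ⟨h, hh, e⟩ := hrep t ht
    rw [← four_conj (c := c) hh t, four, Set.ncard_eq_zero (Set.toFinite _), Set.eq_empty_iff_forall_notMem]
    rintro f ⟨hf, hf4, hfc⟩
    have hfx : f * x = x * f := by
      rcases e with e | e <;> rw [e] at hfc
      · exact hfc
      · refine mul_right_cancel (b := z) ?_
        calc f * x * z = f * (x * z) := mul_assoc _ _ _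
          _ = x * z * f := hfc
          _ = x * (z * f) := mul_assoc _ _ _
          _ = x * f * z := by rw [← c.comm_z (c.E_le hf), mul_assoc]
    refine hf4 ?_
    have hfix : c.pv f ∈ c.fix {x} := c.mem_fix_singleton.2 (by
      rw [← c.pv_conj hx hf, ← hfx, mul_inv_cancel_right])
    have h1 := (c.outer_inverts_E hx hxM hx2 hf hfix).1
    rw [← hfx, mul_assoc, hx2, mul_one] at h1
    exact eq_inv_iff_mul_eq_one.1 h1
  refine ⟨?_, by rw [sFour, setSum_const fun t ht => hfour t ht.1, mul_zero]⟩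
  have hempty : ∀ p : G → Prop, (∀ t ∈ c.invFib (c.im x), ¬ p t) → {t | t ∈ c.invFib (c.im x) ∧ p t}.ncard = 0 :=
    fun p hp => by
      rw [Set.ncard_eq_zero (Set.toFinite _), Set.eq_empty_iff_forall_notMem]; exact fun t ht => hp t ht.1 ht.2
  have hall : ∀ p : G → Prop, (∀ t ∈ c.invFib (c.im x), p t) → {t | t ∈ c.invFib (c.im x) ∧ p t}.ncard = 384 :=
    fun p hp => by
      rw [← hcard]
      congr 1
      ext t
      exact ⟨And.left, fun h => ⟨h, hp t h⟩⟩
  by_cases h1 : IsConj z x <;> by_cases h2 : IsConj z (x * z)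
  · left
    have h : ∀ t ∈ c.invFib (c.im x), c.TyZZ t := fun t ht => by
      rcases hty t ht with ⟨a, b⟩ | ⟨a, b⟩ <;> exact ⟨a.2 ‹_›, b.2 ‹_›⟩
    exact ⟨hall _ h, hempty _ fun t ht h' => h'.2 (h t ht).2, hempty _ fun t ht h' => h'.1 (h t ht).1⟩
  · exact Or.inr (Or.inl (c.outer_census_half hcard fun t ht => by
      rcases hty t ht with ⟨a, b⟩ | ⟨a, b⟩ <;> rw [a, b] <;>
        first
        | exact iff_of_true ‹_› ‹_›
        | exact iff_of_false ‹_› (not_not.2 ‹_›)))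
  · exact Or.inr (Or.inl (c.outer_census_half hcard fun t ht => by
      rcases hty t ht with ⟨a, b⟩ | ⟨a, b⟩ <;> rw [a, b] <;>
        first
        | exact iff_of_true ‹_› ‹_›
        | exact iff_of_false ‹_› (not_not.2 ‹_›)))
  · right; right
    have h : ∀ t ∈ c.invFib (c.im x), c.TyTT t := fun t ht => by
      rcases hty t ht with ⟨a, b⟩ | ⟨a, b⟩ <;> exact ⟨fun h => ‹¬ _› (a.1 h), fun h => ‹¬ _› (b.1 h)⟩
    exact ⟨hempty _ fun t ht h' => (h t ht).1 h'.1, hempty _ fun t ht h' => (h t ht).1 h'.1, hall _ h⟩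

end CfsgLib.Spor.JFourType.Ctx
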