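import Mathlib

/-!
# The hypothesis on the outer involutions of the automorphism group
-/

set_option autoImplicit false

namespace CfsgLib.Spor.JFourType

universe u

/-- The involutions outside `J` form two classes, of 330 and of 1386 members. -/
def OuterTwo {A : Type u} [Group A] (J : Subgroup A) : Prop :=
  ∃ a b : A, a ∉ J ∧ a * a = 1 ∧ b ∉ J ∧ b * b = 1 ∧ {x : A | IsConj a x}.ncard = 1386 ∧
    {x : A | IsConj b x}.ncard = 330 ∧ ∀ x, x ∉ J → x * x = 1 → IsConj a x ∨ IsConj b x

end CfsgLib.Spor.JFourType
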