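import Cfsg.Agent.Lib.Spor.JFourType.Order.InnerCensus
import Cfsg.Agent.Lib.Spor.JFourType.Order.Outer
import Cfsg.Agent.Lib.Spor.JFourType.Order.InvolJ
import Cfsg.Agent.Lib.Spor.JFourType.Order.OuterDef

/-!
# The census of the involutions of the centralizer

The images are `1`, the 1155 involutions of `J` and the two classes outside `J`.
-/

set_option autoImplicit false
set_option linter.style.haveILetI false

namespace CfsgLib.Spor.JFourType

universe u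

theorem setSum_one {α : Type u} [Finite α] (S : Set α) : setSum S (fun _ => 1) = S.ncard := by
  rw [setSum_const fun _ _ => rfl, mul_one]

namespace Ctx

open Subgroup

variable {G : Type u} [Group G] [Finite G] {A : Type} [Group A] {J I R : Subgroup A}
  {z : G} {P : Subgroup G} (c : Ctx J I R z P)
include c

/-- Involutions of `H`, and `1`, of type `ZZ`. -/
noncomputable def cZ : ℕ := {x | x ∈ c.H ∧ x * x = 1 ∧ c.TyZZ x}.ncard

/-- Involutions of `H` of type `ZT`. -/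
noncomputable def cM : ℕ := {x | x ∈ c.H ∧ x * x = 1 ∧ c.TyZT x}.ncard

/-- Involutions of `H` of type `TT`. -/
noncomputable def cT : ℕ := {x | x ∈ c.H ∧ x * x = 1 ∧ c.TyTT x}.ncard

/-- The conjugates of `z` in `H`. -/
noncomputable def ZH : ℕ := {x | x ∈ c.H ∧ IsConj z x}.ncard

/-- The involutions of `H` not conjugate to `z`. -/
noncomputable def TH : ℕ := {x | x ∈ c.H ∧ x * x = 1 ∧ x ≠ 1 ∧ ¬ IsConj z x}.ncard

/-- The sum of `four` over the conjugates of `z` in `H`. -/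
noncomputable def NFour : ℕ := setSum {x | x ∈ c.H ∧ IsConj z x} c.four

theorem sq_of_conj {x : G} (h : IsConj z x) : x * x = 1 := by
  obtain ⟨g, rfl⟩ := isConj_iff.1 h
  rw [conj_mul, c.zz, mul_one, mul_inv_cancel]

theorem ne_one_of_conj {x : G} (h : IsConj z x) : x ≠ 1 := fun e => c.not_isConj_z_one (e ▸ h)

theorem ZH_eq : c.ZH = c.cZ + c.cM := by
  rw [ZH, cZ, cM, ← Set.ncard_union_eq (Set.disjoint_left.2 fun x h h' => h'.2.2.2 h.2.2.2) (Set.toFinite _)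
    (Set.toFinite _)]
  congr 1
  ext x
  constructor
  · rintro ⟨hx, hc⟩
    by_cases h : IsConj z (x * z)
    · exact Or.inl ⟨hx, c.sq_of_conj hc, hc, h⟩
    · exact Or.inr ⟨hx, c.sq_of_conj hc, hc, h⟩
  · rintro (h | h) <;> exact ⟨h.1, h.2.2.1⟩

theorem mul_z_sq {x : G} (hx : x ∈ c.H) (h : x * x = 1) : x * z * (x * z) = 1 :=
  (invFib_mul_z (a := c.im x) ⟨hx, h, rfl⟩).2.1

theorem TH_eq : c.TH + 1 = c.cT + c.cM := by
  have hz : ∀ x : G, x * z * z = x := fun x => by rw [mul_assoc, c.zz, mul_one]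
  set T' := {x | x ∈ c.H ∧ x * x = 1 ∧ ¬ IsConj z x ∧ IsConj z (x * z)} with hT'
  have hT'card : T'.ncard = c.cM := by
    rw [cM, ← Set.ncard_image_of_injective T' (mul_left_injective z)]
    congr 1
    ext y
    constructor
    · rintro ⟨x, ⟨hx, h2, hc, hcz⟩, rfl⟩
      exact ⟨mul_mem hx c.z_mem_H, c.mul_z_sq hx h2, hcz, by rwa [hz]⟩
    · rintro ⟨hy, h2, hc, hcz⟩
      exact ⟨y * z, ⟨mul_mem hy c.z_mem_H, c.mul_z_sq hy h2, hcz, by rwa [hz]⟩, hz y⟩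
  have h1 : (1 : G) ∉ {x | x ∈ c.H ∧ x * x = 1 ∧ x ≠ 1 ∧ ¬ IsConj z x} := fun h => h.2.2.1 rfl
  rw [TH, ← Set.ncard_insert_of_notMem h1 (Set.toFinite _), cT, ← hT'card,
    ← Set.ncard_union_eq (Set.disjoint_left.2 fun x h h' => h.2.2.2 h'.2.2.2) (Set.toFinite _) (Set.toFinite _)]
  congr 1
  ext x
  constructor
  · rintro (rfl | ⟨hx, h2, -, hc⟩)
    · exact Or.inr ⟨one_mem _, mul_one 1, c.not_isConj_z_one, by rw [one_mul]⟩
    · by_cases h : IsConj z (x * z)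
      · exact Or.inr ⟨hx, h2, hc, h⟩
      · exact Or.inl ⟨hx, h2, hc, h⟩
  · intro h
    by_cases hx1 : x = 1
    · exact Or.inl hx1
    · right
      rcases h with ⟨hx, h2, hc, -⟩ | ⟨hx, h2, hc, -⟩ <;> exact ⟨hx, h2, hx1, hc⟩

/-- A sum over the elements of square one, sorted by the image. -/
theorem sum_by_image (p : G → Prop) (f : G → ℕ) :
    haveI := c.finite_A
    setSum {x | x ∈ c.H ∧ x * x = 1 ∧ p x} f =
      setSum (Set.univ : Set A) fun a => setSum {x | x ∈ c.invFib a ∧ p x} f := by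
  classical
  haveI := c.finite_A
  set S := {x | x ∈ c.H ∧ x * x = 1 ∧ p x} with hS
  have hT : ∀ a, setSum {x | x ∈ c.invFib a ∧ p x} f = ∑ x ∈ S.toFinite.toFinset.filter (fun x => c.im x = a), f x := by
    intro a
    refine Finset.sum_congr ?_ fun _ _ => rfl
    ext x
    simp only [Set.Finite.mem_toFinset, Finset.mem_filter, hS, Set.mem_setOf_eq, invFib]
    tauto
  simp only [hT]
  rw [setSum, setSum]
  exact (Finset.sum_fiberwise_of_maps_to (fun x _ => by simp) f).symm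

theorem conj_invol_J {i a : A} (hi : i ∈ I) (hi1 : i ≠ 1) (ha : a ∈ J) (ha2 : orderOf a = 2) : IsConj i a := by
  obtain ⟨g, -, hg⟩ := c.facts.invol_I a ha ha2
  have hg1 : g * a * g⁻¹ ≠ 1 := fun h => by simp [conj_eq_one_iff.1 h] at ha2
  obtain ⟨k, -, -, hk⟩ := c.facts.I_trans i hi _ hg hi1 hg1
  exact (isConj_iff.2 ⟨k, hk⟩).trans (isConj_iff.2 ⟨g⁻¹, by group⟩)

/-- A class function of the image. -/
theorem sum_classes (hs : c.Split) (he : Extra J I R) {i a b : A} (hi : i ∈ I) (hi1 : i ≠ 1)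
    (ha : a ∉ J) (ha2 : a * a = 1) (hb : b ∉ J) (hb2 : b * b = 1) (hca : {x : A | IsConj a x}.ncard = 1386)
    (hcb : {x : A | IsConj b x}.ncard = 330) (hout : ∀ x, x ∉ J → x * x = 1 → IsConj a x ∨ IsConj b x)
    (F : A → ℕ) (hconj : ∀ g x, F (g * x * g⁻¹) = F x) (h0 : ∀ x, x * x ≠ 1 → F x = 0) :
    haveI := c.finite_A
    setSum (Set.univ : Set A) F = F 1 + 1155 * F i + 1386 * F a + 330 * F b := by
  classical
  haveI := c.finite_A
  haveI := c.J_normal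
  have hF : ∀ {x y : A}, IsConj x y → F y = F x := fun h => by
    obtain ⟨g, rfl⟩ := isConj_iff.1 h
    exact hconj g _
  have hsq : ∀ {x y : A}, IsConj x y → x * x = 1 → y * y = 1 := fun h h2 => by
    obtain ⟨g, rfl⟩ := isConj_iff.1 h
    rw [conj_mul, h2, mul_one, mul_inv_cancel]
  have hJc : ∀ {x y : A}, IsConj x y → x ∉ J → y ∉ J := fun h hx hy => by
    obtain ⟨g, rfl⟩ := isConj_iff.1 h
    exact hx (by simpa [mul_assoc] using Subgroup.Normal.conj_mem inferInstance _ hy g⁻¹)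
  set Si := {x : A | x ∈ J ∧ orderOf x = 2} with hSi
  set Sa := {x : A | IsConj a x} with hSa
  set Sb := {x : A | IsConj b x} with hSb
  have hab : Disjoint Sa Sb := Set.disjoint_left.2 fun x h h' => by
    have e : Sa = Sb := by
      ext y
      exact ⟨fun hy => (h'.trans h.symm).trans hy, fun hy => (h.trans h'.symm).trans hy⟩
    rw [e, hcb] at hca
    norm_num at hca
  have h1i : (1 : A) ∉ Si := fun h => by simp [hSi] at h
  have h1a : ∀ {w : A}, w ∉ J → ¬ IsConj w 1 := fun hw h => hJc h hw (one_mem J)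
  rw [setSum_split (Set.univ : Set A) (fun x => x * x = 1) F,
    setSum_const (f := F) (a := 0) (S := {x | x ∈ (Set.univ : Set A) ∧ ¬ x * x = 1}) (fun x hx => h0 x hx.2),
    mul_zero, add_zero]
  have e : {x | x ∈ (Set.univ : Set A) ∧ x * x = 1} = (({1} ∪ Si) ∪ Sa) ∪ Sb := by
    ext x
    simp only [Set.mem_setOf_eq, Set.mem_univ, true_and, Set.mem_union, Set.mem_singleton_iff, hSi, hSa, hSb]
    constructor
    · intro h2
      by_cases hJ : x ∈ J
      · by_cases h1 : x = 1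
        · exact Or.inl (Or.inl (Or.inl h1))
        · exact Or.inl (Or.inl (Or.inr ⟨hJ, orderOf_eq_prime (by rw [pow_two, h2]) h1⟩))
      · rcases hout x hJ h2 with h | h
        exacts [Or.inl (Or.inr h), Or.inr h]
    · rintro (((rfl | ⟨-, h⟩) | h) | h)
      · exact mul_one 1
      · rw [← pow_two, ← h, pow_orderOf_eq_one]
      · exact hsq h ha2
      · exact hsq h hb2
  have d1 : Disjoint ({1} : Set A) Si := Set.disjoint_singleton_left.2 h1i
  have d2 : Disjoint (({1} : Set A) ∪ Si) Sa := Set.disjoint_union_left.2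
    ⟨Set.disjoint_singleton_left.2 (h1a ha), Set.disjoint_left.2 fun x h h' => hJc h' ha h.1⟩
  have d3 : Disjoint ((({1} : Set A) ∪ Si) ∪ Sa) Sb := Set.disjoint_union_left.2
    ⟨Set.disjoint_union_left.2
      ⟨Set.disjoint_singleton_left.2 (h1a hb), Set.disjoint_left.2 fun x h h' => hJc h' hb h.1⟩, hab⟩
  rw [e, setSum_union d3, setSum_union d2, setSum_union d1,
    setSum_const (S := ({1} : Set A)) (fun x hx => congrArg F hx), setSum_const (S := Si) (a := F i)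
      (fun x hx => hF (c.conj_invol_J hi hi1 hx.1 hx.2)), setSum_const (S := Sa) (fun x hx => hF hx),
    setSum_const (S := Sb) (fun x hx => hF hx), Set.ncard_singleton, c.card_invol_J hs he.card_NI, hca, hcb, one_mul]

theorem invFib_empty {a : A} (h : a * a ≠ 1) : c.invFib a = ∅ :=
  Set.eq_empty_iff_forall_notMem.2 fun x ⟨hx, h2, hi⟩ => h (by rw [← hi, ← c.im_mul hx hx, h2, c.im_one])

/-- Over the trivial image. -/
theorem one_census (hs : c.Split) (he : Extra J I R) :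
    c.nZZ 1 = 1386 ∧ c.nZT 1 = 1 ∧ c.nTT 1 = 2772 ∧ c.sFour 1 = 4032 + 1386 * 1984 := by
  have hmem : ∀ x, x ∈ c.invFib 1 ↔ x ∈ c.E ∧ x * x = 1 := fun x =>
    ⟨fun ⟨hx, h2, hi⟩ => ⟨c.mem_E_of_im hx hi (a := 1) (by rw [pow_one, pow_two, h2]), h2⟩,
      fun ⟨hx, h2⟩ => ⟨c.E_le hx, h2, c.im_E hx⟩⟩
  have hzz : ¬ IsConj z (z * z) := by rw [c.zz]; exact c.not_isConj_z_one
  have hty : ∀ x ∈ c.invFib 1, x ≠ 1 → x ≠ z → (IsConj z (x * z) ↔ IsConj z x) := fun x hx h1 hz =>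
    (c.E_invol_type hs he ((hmem x).1 hx).1 ((hmem x).1 hx).2 h1 hz).2
  have eZZ : {x | x ∈ c.invFib 1 ∧ c.TyZZ x} = {e | e ∈ c.E ∧ e * e = 1 ∧ e ≠ 1 ∧ e ≠ z ∧ IsConj z e} := by
    ext x
    constructor
    · rintro ⟨hx, hc, hcz⟩
      exact ⟨((hmem x).1 hx).1, ((hmem x).1 hx).2, c.ne_one_of_conj hc, fun e => hzz (e ▸ hcz), hc⟩
    · rintro ⟨hx, h2, h1, hz, hc⟩
      exact ⟨(hmem x).2 ⟨hx, h2⟩, hc, (hty x ((hmem x).2 ⟨hx, h2⟩) h1 hz).2 hc⟩
  have eZT : {x | x ∈ c.invFib 1 ∧ c.TyZT x} = {z} := by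
    ext x
    constructor
    · rintro ⟨hx, hc, hcz⟩
      by_contra hz
      exact hcz ((hty x hx (c.ne_one_of_conj hc) hz).2 hc)
    · rintro rfl
      exact ⟨(hmem _).2 ⟨c.z_mem_E, c.zz⟩, IsConj.refl _, hzz⟩
  have eTT : {x | x ∈ c.invFib 1 ∧ c.TyTT x} = {e | e ∈ c.E ∧ e * e = 1 ∧ e ≠ 1 ∧ e ≠ z ∧ ¬ IsConj z e} := by
    ext x
    constructor
    · rintro ⟨hx, hc, hcz⟩
      exact ⟨((hmem x).1 hx).1, ((hmem x).1 hx).2, fun e => hcz (by rw [e, one_mul]),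
        fun e => hc (by rw [e]), hc⟩
    · rintro ⟨hx, h2, h1, hz, hc⟩
      exact ⟨(hmem x).2 ⟨hx, h2⟩, hc, fun h => hc ((hty x ((hmem x).2 ⟨hx, h2⟩) h1 hz).1 h)⟩
  refine ⟨by rw [nZZ, eZZ, c.card_E_zz hs he], by rw [nZT, eZT, Set.ncard_singleton],
    by rw [nTT, eTT, c.card_E_tt hs he], ?_⟩
  have e : {x | x ∈ c.invFib 1 ∧ IsConj z x} =
      {z} ∪ {e | e ∈ c.E ∧ e * e = 1 ∧ e ≠ 1 ∧ e ≠ z ∧ IsConj z e} := by
    ext x
    constructor
    · rintro ⟨hx, hc⟩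
      by_cases hz : x = z
      · exact Or.inl hz
      · exact Or.inr ⟨((hmem x).1 hx).1, ((hmem x).1 hx).2, c.ne_one_of_conj hc, hz, hc⟩
    · rintro (rfl | ⟨hx, h2, -, -, hc⟩)
      · exact ⟨(hmem _).2 ⟨c.z_mem_E, c.zz⟩, IsConj.refl _⟩
      · exact ⟨(hmem x).2 ⟨hx, h2⟩, hc⟩
  rw [sFour, e, setSum_union (Set.disjoint_singleton_left.2 fun h => h.2.2.2.1 rfl),
    setSum_const (S := ({z} : Set G)) (a := 4032) (fun x hx => ?_),
    setSum_const (f := c.four) (a := 1984) (fun x hx => c.card_E_four_comm hs he hx.1 hx.2.1 hx.2.2.1 hx.2.2.2.1),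
    Set.ncard_singleton, c.card_E_zz hs he]
  rw [Set.mem_singleton_iff.1 hx, four, ← c.card_E_four hs he]
  congr 1
  ext e
  exact ⟨fun h => ⟨h.1, h.2.1⟩, fun h => ⟨h.1, h.2, c.comm_z (c.E_le h.1)⟩⟩

/-- The three possibilities over an outer image. -/
def Opt (p : ℕ × ℕ × ℕ) : Prop := p = (384, 0, 0) ∨ p = (0, 192, 0) ∨ p = (0, 0, 384)

/-- The census at given representatives of the outer classes. -/
theorem census_at (hs : c.Split) (he : Extra J I R) {a b : A} (ha : a ∉ J) (ha2 : a * a = 1) (hb : b ∉ J)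
    (hb2 : b * b = 1) (hca : {x : A | IsConj a x}.ncard = 1386) (hcb : {x : A | IsConj b x}.ncard = 330)
    (hout : ∀ x, x ∉ J → x * x = 1 → IsConj a x ∨ IsConj b x) :
    ∃ k m, (k = 0 ∨ k = 192) ∧ Opt (c.nZZ a, c.nZT a, c.nTT a) ∧ Opt (c.nZZ b, c.nZT b, c.nTT b) ∧
      c.cZ = 1386 + 1155 * (96 + k) + 1386 * c.nZZ a + 330 * c.nZZ b ∧
      c.cM = 1 + 1155 * 16 + 1386 * c.nZT a + 330 * c.nZT b ∧
      c.cT = 2772 + 1155 * (192 - k) + 1386 * c.nTT a + 330 * c.nTT b ∧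
      c.NFour = 4032 + 1386 * 1984 + 1155 * (9216 + k * (32 * m)) := by
  haveI := c.finite_A
  obtain ⟨i, hi⟩ : ∃ i : ↥I, i ≠ 1 := by
    haveI : Nontrivial ↥I := Finite.one_lt_card_iff_nontrivial.1 (by rw [c.facts.card_I]; norm_num)
    exact exists_ne 1
  have hi' : (i : A) ≠ 1 := fun h => hi (Subtype.ext h)
  obtain ⟨k, m, hk, i1, i2, i3, i4⟩ := c.inner_census hs hi
  obtain ⟨h1, h2, h3, h4⟩ := c.one_census hs he
  obtain ⟨oa, a4⟩ := c.outer_census hs he ha ha2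
  obtain ⟨ob, b4⟩ := c.outer_census hs he hb hb2
  have hopt : ∀ {x : A}, ((c.nZZ x = 384 ∧ c.nZT x = 0 ∧ c.nTT x = 0) ∨ (c.nZZ x = 0 ∧ c.nZT x = 192 ∧ c.nTT x = 0) ∨
      (c.nZZ x = 0 ∧ c.nZT x = 0 ∧ c.nTT x = 384)) → Opt (c.nZZ x, c.nZT x, c.nTT x) := by
    rintro x (⟨e1, e2, e3⟩ | ⟨e1, e2, e3⟩ | ⟨e1, e2, e3⟩) <;> simp [Opt, e1, e2, e3]
  refine ⟨k, m, hk, hopt oa, hopt ob, ?_⟩
  have key : ∀ (p : G → Prop) (f : G → ℕ) (N : A → ℕ), (∀ x, N x = setSum {y | y ∈ c.invFib x ∧ p y} f) →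
      (∀ h ∈ c.H, ∀ x, N (c.im h * x * (c.im h)⁻¹) = N x) →
      setSum {x | x ∈ c.H ∧ x * x = 1 ∧ p x} f = N 1 + 1155 * N i + 1386 * N a + 330 * N b := by
    intro p f N hN hconj
    rw [c.sum_by_image p f]
    refine (setSum_congr rfl fun x _ => (hN x).symm).trans
      (c.sum_classes hs he i.2 hi' ha ha2 hb hb2 hca hcb hout N (fun g x => ?_) fun x hx => ?_)
    · obtain ⟨h, hh, rfl⟩ := c.exists_H_im g
      exact hconj h hh x
    · rw [hN, c.invFib_empty hx, setSum_const (a := 0) (fun y hy => absurd hy.1 (Set.notMem_empty y)), mul_zero]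
  refine ⟨?_, ?_, ?_, ?_⟩
  · rw [cZ, ← setSum_one, key c.TyZZ _ c.nZZ (fun x => (setSum_one _).symm) (fun h hh => nZZ_conj hh), h1, i1]
  · rw [cM, ← setSum_one, key c.TyZT _ c.nZT (fun x => (setSum_one _).symm) (fun h hh => nZT_conj hh), h2, i2]
  · rw [cT, ← setSum_one, key c.TyTT _ c.nTT (fun x => (setSum_one _).symm) (fun h hh => nTT_conj hh), h3, i3]
  · have e : {x | x ∈ c.H ∧ IsConj z x} = {x | x ∈ c.H ∧ x * x = 1 ∧ IsConj z x} := by
      ext x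
      exact ⟨fun h => ⟨h.1, c.sq_of_conj h.2, h.2⟩, fun h => ⟨h.1, h.2.2⟩⟩
    rw [NFour, e, key (IsConj z) _ c.sFour (fun x => rfl) (fun h hh => sFour_conj hh), h4, i4, a4, b4]
    norm_num

/-- The census. -/
theorem census (hs : c.Split) (he : Extra J I R) (ho : OuterTwo J) :
    ∃ k m p q, (k = 0 ∨ k = 192) ∧ Opt p ∧ Opt q ∧
      c.cZ = 1386 + 1155 * (96 + k) + 1386 * p.1 + 330 * q.1 ∧
      c.cM = 1 + 1155 * 16 + 1386 * p.2.1 + 330 * q.2.1 ∧
      c.cT = 2772 + 1155 * (192 - k) + 1386 * p.2.2 + 330 * q.2.2 ∧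
      c.NFour = 4032 + 1386 * 1984 + 1155 * (9216 + k * (32 * m)) := by
  obtain ⟨a, b, ha, ha2, hb, hb2, hca, hcb, hout⟩ := ho
  obtain ⟨k, m, hk, hp, hq, h⟩ := c.census_at hs he ha ha2 hb hb2 hca hcb hout
  exact ⟨k, m, _, _, hk, hp, hq, h⟩

end Ctx

end CfsgLib.Spor.JFourType
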