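import Cfsg.Agent.Lib.Spor.JFourType.Order.Defs

/-!
# Involutions of the centralizer by their image and type

The type of an involution `x` of `H` says whether `x` and `x * z` are conjugate to `z`.
-/

set_option autoImplicit false
set_option linter.style.haveILetI false

namespace CfsgLib.Spor.JFourType

universe u

/-- The sum of `f` over a set of a finite type. -/
noncomputable def setSum {α : Type u} [Finite α] (S : Set α) (f : α → ℕ) : ℕ := ∑ x ∈ S.toFinite.toFinset, f x

theorem setSum_congr {α : Type u} [Finite α] {S T : Set α} (h : S = T) {f g : α → ℕ} (hf : ∀ x ∈ T, f x = g x) :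
    setSum S f = setSum T g := by
  subst h
  exact Finset.sum_congr rfl fun x hx => hf x ((Set.Finite.mem_toFinset _).1 hx)

theorem setSum_const {α : Type u} [Finite α] {S : Set α} {f : α → ℕ} {a : ℕ} (hf : ∀ x ∈ S, f x = a) :
    setSum S f = S.ncard * a := by
  rw [setSum, Finset.sum_congr rfl fun x hx => hf x ((Set.Finite.mem_toFinset _).1 hx), Finset.sum_const,
    Set.ncard_eq_toFinset_card S, smul_eq_mul]

theorem setSum_union {α : Type u} [Finite α] {S T : Set α} (h : Disjoint S T) (f : α → ℕ) :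
    setSum (S ∪ T) f = setSum S f + setSum T f := by
  classical
  rw [setSum, setSum, setSum, ← Finset.sum_union (Set.Finite.disjoint_toFinset.2 h)]
  exact Finset.sum_congr (by ext; simp) fun _ _ => rfl

theorem setSum_image {α : Type u} [Finite α] (g : α ≃ α) (S : Set α) (f : α → ℕ) :
    setSum (g '' S) f = setSum S fun x => f (g x) := by
  classical
  rw [setSum, setSum, ← Finset.sum_image (f := f) (g := g) fun a _ b _ h => g.injective h]
  refine Finset.sum_congr (Finset.coe_injective ?_) fun _ _ => rfl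
  rw [Finset.coe_image, Set.Finite.coe_toFinset, Set.Finite.coe_toFinset]

theorem setSum_split {α : Type u} [Finite α] (S : Set α) (p : α → Prop) (f : α → ℕ) :
    setSum S f = setSum {x | x ∈ S ∧ p x} f + setSum {x | x ∈ S ∧ ¬ p x} f := by
  rw [← setSum_union (Set.disjoint_left.2 fun x h h' => h'.2 h.2)]
  refine setSum_congr ?_ fun _ _ => rfl
  ext x
  simp only [Set.mem_union, Set.mem_setOf_eq]
  tauto

theorem dvd_setSum {α : Type u} [Finite α] {S : Set α} {f : α → ℕ} {m : ℕ} (hf : ∀ x ∈ S, m ∣ f x) :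
    m ∣ setSum S f := Finset.dvd_sum fun x hx => hf x ((Set.Finite.mem_toFinset _).1 hx)

namespace Ctx

open Subgroup

variable {G : Type u} [Group G] [Finite G] {A : Type} [Group A] {J I R : Subgroup A}
  {z : G} {P : Subgroup G} (c : Ctx J I R z P)

/-- The elements of square one with image `a`. -/
def invFib (a : A) : Set G := {x | x ∈ c.H ∧ x * x = 1 ∧ c.im x = a}

omit [Finite G] in
/-- Both `x` and `x * z` are conjugate to `z`. -/
def TyZZ (_ : Ctx J I R z P) (x : G) : Prop := IsConj z x ∧ IsConj z (x * z)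

omit [Finite G] in
/-- Only `x` is conjugate to `z`. -/
def TyZT (_ : Ctx J I R z P) (x : G) : Prop := IsConj z x ∧ ¬ IsConj z (x * z)

omit [Finite G] in
/-- Neither is conjugate to `z`. -/
def TyTT (_ : Ctx J I R z P) (x : G) : Prop := ¬ IsConj z x ∧ ¬ IsConj z (x * z)

/-- The number of elements of order four of the core commuting with `x`. -/
noncomputable def four (x : G) : ℕ := {e | e ∈ c.E ∧ e * e ≠ 1 ∧ e * x = x * e}.ncard

/-- The numbers attached to an image. -/
noncomputable def nZZ (a : A) : ℕ := {x | x ∈ c.invFib a ∧ c.TyZZ x}.ncard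

/-- The numbers attached to an image. -/
noncomputable def nZT (a : A) : ℕ := {x | x ∈ c.invFib a ∧ c.TyZT x}.ncard

/-- The numbers attached to an image. -/
noncomputable def nTT (a : A) : ℕ := {x | x ∈ c.invFib a ∧ c.TyTT x}.ncard

/-- The sum of `four` over the conjugates of `z` with image `a`. -/
noncomputable def sFour (a : A) : ℕ := setSum {x | x ∈ c.invFib a ∧ IsConj z x} c.four

variable {c}

theorem invFib_mul_z {a : A} {x : G} (hx : x ∈ c.invFib a) : x * z ∈ c.invFib a := by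
  obtain ⟨hH, h2, hi⟩ := hx
  refine ⟨mul_mem hH c.z_mem_H, ?_, by rw [c.im_mul hH c.z_mem_H, c.im_E c.z_mem_E, mul_one, hi]⟩
  calc x * z * (x * z) = x * (z * x) * z := by group
    _ = x * (x * z) * z := by rw [c.comm_z hH]
    _ = (x * x) * (z * z) := by group
    _ = 1 := by rw [h2, c.zz, one_mul]

theorem conj_invFib {h : G} (hh : h ∈ c.H) {a : A} {x : G} :
    h * x * h⁻¹ ∈ c.invFib (c.im h * a * (c.im h)⁻¹) ↔ x ∈ c.invFib a := by
  have key : ∀ {h : G}, h ∈ c.H → ∀ {a : A} {x : G}, x ∈ c.invFib a →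
      h * x * h⁻¹ ∈ c.invFib (c.im h * a * (c.im h)⁻¹) := by
    intro h hh a x hx
    exact ⟨mul_mem (mul_mem hh hx.1) (inv_mem hh), by rw [conj_mul, hx.2.1, mul_one, mul_inv_cancel],
      by rw [c.im_conj hh hx.1, hx.2.2]⟩
  refine ⟨fun hx => ?_, key hh⟩
  have := key (inv_mem hh) hx
  rwa [c.im_inv hh, show h⁻¹ * (h * x * h⁻¹) * h⁻¹⁻¹ = x by group,
    show (c.im h)⁻¹ * (c.im h * a * (c.im h)⁻¹) * (c.im h)⁻¹⁻¹ = a by group] at this

theorem conj_mul_z {h : G} (hh : h ∈ c.H) (x : G) : h * x * h⁻¹ * z = h * (x * z) * h⁻¹ := by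
  rw [mul_assoc (h * x) h⁻¹, c.comm_z (inv_mem hh)]
  group

theorem ncard_conj {h : G} (hh : h ∈ c.H) (a : A) (p : G → Prop) (hp : ∀ x, p (h * x * h⁻¹) ↔ p x) :
    {x | x ∈ c.invFib (c.im h * a * (c.im h)⁻¹) ∧ p x}.ncard = {x | x ∈ c.invFib a ∧ p x}.ncard := by
  rw [← Set.ncard_image_of_injective {x | x ∈ c.invFib a ∧ p x} (MulAut.conj h).injective]
  congr 1
  ext y
  simp only [Set.mem_image, Set.mem_setOf_eq, MulAut.conj_apply]
  constructor
  · rintro ⟨hy, hpy⟩
    refine ⟨h⁻¹ * y * h, ⟨(conj_invFib hh).1 ?_, (hp _).1 ?_⟩, by group⟩ <;>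
      rwa [show h * (h⁻¹ * y * h) * h⁻¹ = y by group]
  · rintro ⟨x, ⟨hx, hpx⟩, rfl⟩
    exact ⟨(conj_invFib hh).2 hx, (hp _).2 hpx⟩

theorem nZZ_conj {h : G} (hh : h ∈ c.H) (a : A) : c.nZZ (c.im h * a * (c.im h)⁻¹) = c.nZZ a :=
  ncard_conj hh a _ fun x => by simp only [TyZZ, conj_mul_z hh, c.isConj_z_conj]

theorem nZT_conj {h : G} (hh : h ∈ c.H) (a : A) : c.nZT (c.im h * a * (c.im h)⁻¹) = c.nZT a :=
  ncard_conj hh a _ fun x => by simp only [TyZT, conj_mul_z hh, c.isConj_z_conj]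

theorem nTT_conj {h : G} (hh : h ∈ c.H) (a : A) : c.nTT (c.im h * a * (c.im h)⁻¹) = c.nTT a :=
  ncard_conj hh a _ fun x => by simp only [TyTT, conj_mul_z hh, c.isConj_z_conj]

theorem four_conj {h : G} (hh : h ∈ c.H) (x : G) : c.four (h * x * h⁻¹) = c.four x := by
  rw [four, four, ← Set.ncard_image_of_injective {e | e ∈ c.E ∧ e * e ≠ 1 ∧ e * x = x * e} (MulAut.conj h).injective]
  congr 1
  ext y
  simp only [Set.mem_image, Set.mem_setOf_eq, MulAut.conj_apply]
  constructor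
  · rintro ⟨hy, hy2, hyc⟩
    refine ⟨h⁻¹ * y * h, ⟨c.conj_E' hh hy, fun e => hy2 ?_, ?_⟩, by group⟩
    · calc y * y = h * (h⁻¹ * y * h * (h⁻¹ * y * h)) * h⁻¹ := by group
        _ = 1 := by rw [e, mul_one, mul_inv_cancel]
    · calc h⁻¹ * y * h * x = h⁻¹ * (y * (h * x * h⁻¹)) * h := by group
        _ = h⁻¹ * (h * x * h⁻¹ * y) * h := by rw [hyc]
        _ = x * (h⁻¹ * y * h) := by group
  · rintro ⟨e, ⟨he, he2, hec⟩, rfl⟩
    refine ⟨c.conj_E hh he, fun h' => he2 ?_, by rw [conj_mul, conj_mul, hec]⟩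
    rw [conj_mul] at h'
    exact conj_eq_one_iff.1 h'

theorem sFour_conj {h : G} (hh : h ∈ c.H) (a : A) : c.sFour (c.im h * a * (c.im h)⁻¹) = c.sFour a := by
  have e : {x | x ∈ c.invFib (c.im h * a * (c.im h)⁻¹) ∧ IsConj z x} =
      (MulAut.conj h).toEquiv '' {x | x ∈ c.invFib a ∧ IsConj z x} := by
    ext y
    simp only [Set.mem_image, Set.mem_setOf_eq, MulEquiv.toEquiv_eq_coe, MulEquiv.coe_toEquiv, MulAut.conj_apply]
    constructor
    · rintro ⟨hy, hyc⟩
      refine ⟨h⁻¹ * y * h, ⟨(conj_invFib hh).1 ?_, (c.isConj_z_conj h _).1 ?_⟩, by group⟩ <;>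
        rwa [show h * (h⁻¹ * y * h) * h⁻¹ = y by group]
    · rintro ⟨x, ⟨hx, hxc⟩, rfl⟩
      exact ⟨(conj_invFib hh).2 hx, (c.isConj_z_conj h x).2 hxc⟩
  rw [sFour, sFour, e, setSum_image]
  exact setSum_congr rfl fun x _ => four_conj hh x

end Ctx

end CfsgLib.Spor.JFourType
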