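import Cfsg.Agent.Lib.Spor.JFourType.Order.Census
import Cfsg.Agent.Lib.Spor.JFourType.CentT
import Cfsg.Agent.Lib.Spor.JFourType.CodeM24
import Cfsg.Agent.Lib.Spor.JFourType.Facts22.Group

/-!
# The involutions of the centralizer of a non-conjugate

Modulo `W` it fixes a pair of stars, so maps to the stabilizer of a pair in `M24`.
-/

set_option autoImplicit false
set_option linter.style.haveILetI false

namespace CfsgLib.Spor.JFourType

open Subgroup Cfsg

universe u

namespace Ctx

variable {G : Type u} [Group G] [Finite G] {A : Type} [Group A] {J I R : Subgroup A}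
  {z : G} {P : Subgroup G} (c : Ctx J I R z P)
include c

/-- The centralizer of `t` modulo `W` embeds in the stabilizer of a pair. -/
theorem exists_hom_Gam (hs : c.Split) (he : Extra J I R) {t : G} (ht : t ∈ c.Tset) :
    ∃ ψ : ↥(centralizer ({t} : Set G)) →* ↥Gam, ∀ x, ψ x = 1 → (x : G) ∈ c.W := by
  obtain ⟨φ, e, hker, -, -, hφ⟩ := c.exists_hom_M24 hs he.card_NI
  obtain ⟨a, b, hab, hA, hB, -⟩ := c.inc_two hs ht
  let a' : c.Star := ⟨a, hA.1⟩
  let b' : c.Star := ⟨b, hB.1⟩
  have hab' : a' ≠ b' := fun h => hab (congrArg Subtype.val h)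
  have htau : c.tau hs a' b' = t := c.tau_eq hs hab' hA hB
  obtain ⟨g, hg, hgm⟩ := OuterAut.exists_map (n := 2) (by norm_num) ![e a', e b'] ![none, some 0]
    (by intro i j; fin_cases i <;> fin_cases j <;> simp [hab', Ne.symm hab'])
    (by intro i j; fin_cases i <;> fin_cases j <;> simp)
  have hga : g (e a') = none := hgm 0
  have hgb : g (e b') = some 0 := hgm 1
  have hga' : g⁻¹ none = e a' := Equiv.Perm.inv_eq_iff_eq.2 hga.symm
  have hgb' : g⁻¹ (some 0) = e b' := Equiv.Perm.inv_eq_iff_eq.2 hgb.symm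
  let incl : ↥(centralizer ({t} : Set G)) →* ↥(normalizer (c.W : Set G)) :=
    Subgroup.inclusion (c.cent_Tset_le hs ht)
  let f : ↥(centralizer ({t} : Set G)) →* Equiv.Perm GolayPt :=
    (MulAut.conj g).toMonoidHom.comp ((M24.subtype.comp φ).comp incl)
  have hf : ∀ x p, f x p = g (((φ (incl x) : ↥M24) : Equiv.Perm GolayPt) (g⁻¹ p)) := fun _ _ => rfl
  have hmem : ∀ x, f x ∈ Gam := by
    intro x
    have hx : (x : G) * t * (x : G)⁻¹ = t :=
      mul_inv_eq_iff_eq_mul.2 (mem_centralizer_singleton_iff.1 x.2)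
    have h := c.tau_starHom hs he.card_NI (incl x) a' b'
    replace h : c.tau hs (c.starHom hs he.card_NI (incl x) a') (c.starHom hs he.card_NI (incl x) b') =
        c.tau hs a' b' := h.trans ((congrArg (fun w => (x : G) * w * (x : G)⁻¹) htau).trans (hx.trans htau.symm))
    have hne : c.starHom hs he.card_NI (incl x) a' ≠ c.starHom hs he.card_NI (incl x) b' :=
      fun h' => hab' ((c.starHom hs he.card_NI (incl x)).injective h')
    refine mem_Gam.2 ⟨mul_mem (mul_mem hg (φ (incl x)).2) (inv_mem hg), ?_⟩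
    rw [hf, hf, hga', hgb', hφ, hφ]
    rcases c.tau_inj hs hne hab' h with ⟨h1, h2⟩ | ⟨h1, h2⟩ <;> rw [h1, h2]
    · exact Or.inl ⟨hga, hgb⟩
    · exact Or.inr ⟨hgb, hga⟩
  refine ⟨f.codRestrict Gam hmem, fun x hx => ?_⟩
  have h1 : f x = 1 := congrArg Subtype.val hx
  have h2 : φ (incl x) = 1 := by
    refine Subtype.ext (Equiv.ext fun p => g.injective ?_)
    have h := congrArg (fun σ : Equiv.Perm GolayPt => σ (g p)) h1
    simpa [hf] using h
  have h3 : incl x ∈ φ.ker := h2
  rw [hker] at h3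
  exact mem_subgroupOf.1 h3

/-- At most 2048 elements of square one over each of the pair stabilizer. -/
theorem invol_cent_le (hs : c.Split) (he : Extra J I R) {t : G} (ht : t ∈ c.Tset) :
    {x | x ∈ centralizer ({t} : Set G) ∧ x * x = 1}.ncard ≤ 2048 * {y : ↥Gam | y * y = 1}.ncard := by
  classical
  obtain ⟨ψ, hψ⟩ := c.exists_hom_Gam hs he ht
  haveI := Fintype.ofFinite ↥(centralizer ({t} : Set G))
  set S : Finset ↥(centralizer ({t} : Set G)) := Finset.univ.filter fun x => x * x = 1 with hS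
  have h1 : {x | x ∈ centralizer ({t} : Set G) ∧ x * x = 1}.ncard = S.card := by
    rw [← Set.ncard_coe_finset, ← Set.ncard_image_of_injective (S : Set ↥(centralizer ({t} : Set G)))
      Subtype.val_injective]
    congr 1
    ext x
    constructor
    · rintro ⟨hx, h2⟩
      refine ⟨⟨x, hx⟩, Finset.mem_coe.2 (Finset.mem_filter.2 ⟨Finset.mem_univ _, Subtype.ext h2⟩), rfl⟩
    · rintro ⟨y, hy, rfl⟩
      simp only [hS, Finset.coe_filter, Finset.mem_univ, true_and] at hy
      exact ⟨y.2, congrArg Subtype.val hy⟩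
  have h2 : S.card ≤ 2048 * (S.image ψ).card := by
    refine Finset.card_le_mul_card_image S _ fun y hy => ?_
    obtain ⟨x0, -, rfl⟩ := Finset.mem_image.1 hy
    rw [show (2048 : ℕ) = (c.W : Set G).ncard from ((Nat.card_coe_set_eq _).symm.trans c.card_W).symm,
      ← Set.ncard_coe_finset]
    refine Set.ncard_le_ncard_of_injOn (fun x : ↥(centralizer ({t} : Set G)) => ((x * x0⁻¹ :
      ↥(centralizer ({t} : Set G))) : G)) (fun x hx => ?_) (fun x _ y _ h => mul_right_cancel (Subtype.ext h))
      (Set.toFinite _)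
    refine hψ _ ?_
    rw [map_mul, map_inv, (Finset.mem_filter.1 hx).2, mul_inv_cancel]
  have h3 : (S.image ψ).card ≤ {y : ↥Gam | y * y = 1}.ncard := by
    rw [← Set.ncard_coe_finset]
    refine Set.ncard_le_ncard (fun y hy => ?_) (Set.toFinite _)
    obtain ⟨x, hx, rfl⟩ := Finset.mem_image.1 hy
    show ψ x * ψ x = 1
    rw [← map_mul, (Finset.mem_filter.1 hx).2, map_one]
  rw [h1]
  exact h2.trans (Nat.mul_le_mul_left _ h3)

/-- The elements of square one of `A`. -/
theorem card_sq_A (hs : c.Split) (he : Extra J I R) (ho : OuterTwo J) : {x : A | x * x = 1}.ncard = 2872 := by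
  classical
  haveI := c.finite_A
  obtain ⟨a, b, ha, ha2, hb, hb2, hca, hcb, hout⟩ := ho
  obtain ⟨i, hi⟩ : ∃ i : ↥I, i ≠ 1 := by
    haveI : Nontrivial ↥I := Finite.one_lt_card_iff_nontrivial.1 (by rw [c.facts.card_I]; norm_num)
    exact exists_ne 1
  have hi2 : (i : A) * i = 1 := by
    have := c.facts.ea_I.2 _ i.2
    rwa [pow_two] at this
  have h := c.sum_classes hs he i.2 (fun h => hi (Subtype.ext h)) ha ha2 hb hb2 hca hcb hout
    (fun x => if x * x = 1 then 1 else 0) (fun g x => by simp only [conj_mul, conj_eq_one_iff])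
    (fun x hx => if_neg hx)
  rw [setSum_split (Set.univ : Set A) (fun x => x * x = 1), setSum_const (a := 1) (fun x hx => if_pos hx.2),
    setSum_const (a := 0) (fun x hx => if_neg hx.2), if_pos (mul_one (1 : A)), if_pos hi2, if_pos ha2, if_pos hb2] at h
  simpa using h

end Ctx

end CfsgLib.Spor.JFourType
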