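import Cfsg.Agent.Lib.Spor.JFourType.Orbit276

/-!
# The conjugates of `z`: the number that gives the order of the group

`zclass` is the number of conjugates of `z`.  The local files give its residues (`Residues`); the census of the
involutions of `H` gives the residues to the powers of two and a bound.
-/

set_option autoImplicit false
set_option linter.style.haveILetI false

namespace CfsgLib.Spor.JFourType.Ctx

open Subgroup

universe u

variable {G : Type u} [Group G] [Finite G] {A : Type} [Group A] {J I R : Subgroup A}
  {z : G} {P : Subgroup G} (c : Ctx J I R z P)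
include c

/-- The number of conjugates of `z`. -/
noncomputable def zclass (_ : Ctx J I R z P) : ℕ := {u : G | IsConj z u}.ncard

/-- The order of `G`. -/
theorem card_eq_zclass : Nat.card G = c.zclass * Nat.card ↥c.H := by
  have h := ncard_orbit_mul (⊤ : Subgroup G) z
  rw [top_inf_eq, Subgroup.card_top] at h
  rw [← h, zclass]
  congr 2
  ext y
  constructor
  · rintro ⟨g, -, hg⟩
    exact isConj_iff.2 ⟨g, hg⟩
  · intro hy
    obtain ⟨g, hg⟩ := isConj_iff.1 hy
    exact ⟨g, mem_top _, hg⟩

/-- What the local structure at the odd primes says about `zclass`. -/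
structure Residues : Prop where
  dvd_sq : 11 ^ 2 ∣ c.zclass
  dvd_23 : 23 ∣ c.zclass
  mod_27 : c.zclass % 27 = 22
  mod_5 : c.zclass % 5 = 2
  mod_7 : c.zclass % 7 = 3

end CfsgLib.Spor.JFourType.Ctx
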