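import Mathlib

/-!
# Two involutions that are not conjugate
-/

set_option autoImplicit false

namespace CfsgLib.Spor.JFourType

universe u

/-- Two non-conjugate involutions centralize a third element of order two of the group they generate; multiplied
by it they lie in the same two classes, either straight or crossed. -/
theorem exists_middle {G : Type u} [Group G] [Finite G] {t u : G} (ht : t * t = 1) (hu : u * u = 1) (hu1 : u ≠ 1)
    (hnc : ¬ IsConj t u) :
    ∃ x : G, x * x = 1 ∧ x ≠ 1 ∧ x ≠ t ∧ x * t = t * x ∧ x * u = u * x ∧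
      ((IsConj (t * x) t ∧ IsConj (u * x) u) ∨ (IsConj (t * x) u ∧ IsConj (u * x) t)) := by
  have hti : t⁻¹ = t := inv_eq_of_mul_eq_one_left ht
  have hui : u⁻¹ = u := inv_eq_of_mul_eq_one_left hu
  set w := t * u with hw
  have hwi : w⁻¹ = u * t := by rw [hw, mul_inv_rev, hti, hui]
  have htw : ∀ n : ℕ, t * w ^ n = (w ^ n)⁻¹ * t := by
    intro n
    induction n with
    | zero => simp
    | succ n ih =>
      have hb : t * w = w⁻¹ * t := by rw [hwi, hw, ← mul_assoc, ht, one_mul, mul_assoc, ht, mul_one]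
      rw [pow_succ, ← mul_assoc, ih, mul_assoc, hb, ← mul_assoc, ← mul_inv_rev, ← pow_succ', pow_succ]
  have ht2 : ∀ k : ℕ, IsConj (t * w ^ (2 * k)) t := fun k => isConj_iff.2 ⟨w ^ k, by
    rw [two_mul, pow_add, ← mul_assoc t, htw]; group⟩
  have hu2 : ∀ k : ℕ, IsConj (t * w ^ (2 * k + 1)) u := fun k => isConj_iff.2 ⟨w ^ k, by
    have htwu : t * w = u := by rw [hw, ← mul_assoc, ht, one_mul]
    rw [show 2 * k + 1 = k + (1 + k) by ring, pow_add, ← mul_assoc t, htw, pow_add, pow_one,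
      show (w ^ k)⁻¹ * t * (w * w ^ k) = (w ^ k)⁻¹ * (t * w) * w ^ k by group, htwu]
    group⟩
  have ho : ¬ Odd (orderOf w) := by
    rintro ⟨m, hm⟩
    refine hnc (((ht2 (m + 1)).symm.trans ?_))
    have h1 : w ^ (2 * (m + 1)) = w := by
      rw [show 2 * (m + 1) = orderOf w + 1 by omega, pow_succ, pow_orderOf_eq_one, one_mul]
    rw [h1, hw, ← mul_assoc, ht, one_mul]
  obtain ⟨n, hn⟩ := Nat.not_odd_iff_even.1 ho
  have hwpos := orderOf_pos w
  have hx2 : w ^ n * w ^ n = 1 := by rw [← pow_add, ← hn, pow_orderOf_eq_one]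
  have hxi : (w ^ n)⁻¹ = w ^ n := inv_eq_of_mul_eq_one_left hx2
  have hx1 : w ^ n ≠ 1 := fun h => by
    have := orderOf_le_of_pow_eq_one (by omega) h
    omega
  have hxt : w ^ n * t = t * w ^ n := by rw [htw, hxi]
  have hxw : w ^ n * w = w * w ^ n := (Commute.pow_self w n).eq
  have hxu : w ^ n * u = u * w ^ n := by
    have hu' : u = t * w := by rw [hw, ← mul_assoc, ht, one_mul]
    calc w ^ n * u = w ^ n * t * w := (congrArg (w ^ n * ·) hu').trans (mul_assoc _ _ _).symm
      _ = t * (w ^ n * w) := by rw [hxt, mul_assoc]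
      _ = t * w * w ^ n := by rw [hxw, ← mul_assoc]
      _ = u * w ^ n := congrArg (· * w ^ n) hu'.symm
  refine ⟨w ^ n, hx2, hx1, fun e => ?_, hxt, hxu, ?_⟩
  · rw [e] at hxw
    have h1 : w = w⁻¹ := by
      have h := htw 1
      rw [pow_one, hxw] at h
      exact mul_right_cancel h
    have hn1 : n = 1 := by
      have hw2 : w ^ 2 = 1 := by rw [pow_two]; nth_rw 2 [h1]; rw [mul_inv_cancel]
      have := orderOf_le_of_pow_eq_one (by norm_num) hw2
      omega
    rw [hn1, pow_one, hw] at e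
    exact hu1 (mul_eq_left.1 e)
  · have hux : u * w ^ n = t * w ^ (n + 1) := by
      rw [pow_succ', ← mul_assoc, hw, ← mul_assoc, ht, one_mul]
    rw [hux]
    rcases Nat.even_or_odd' n with ⟨k, rfl | rfl⟩
    · exact Or.inl ⟨ht2 k, hu2 k⟩
    · exact Or.inr ⟨hu2 k, by rw [show 2 * k + 1 + 1 = 2 * (k + 1) by ring]; exact ht2 (k + 1)⟩

end CfsgLib.Spor.JFourType
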