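import Cfsg.Agent.Lib.Spor.JFourType.Order.Burnside
import Cfsg.Agent.Lib.Spor.JFourType.Order.Dihedral
import Cfsg.Agent.Lib.Spor.JFourType.CentT
import Cfsg.Agent.Lib.Spor.JFourType.CodeM24

/-!
# Counting commuting pairs and the bound on the class of `z`

There are twelve times as many conjugates of `t` as of `z`; so the census of the centralizer of `z` gives the
numbers of the two kinds of conjugates of `z` commuting with `t`.  A conjugate `u` of `z` and `t` centralize a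
third involution `x` of the group they generate, and the classes of `t * x` and `u * x` differ: this bounds the
class of `z`.
-/

set_option autoImplicit false
set_option linter.style.haveILetI false

namespace CfsgLib.Spor.JFourType

universe u

theorem setSum_le {α : Type u} [Finite α] {S : Set α} {f : α → ℕ} {a : ℕ} (hf : ∀ x ∈ S, f x ≤ a) :
    setSum S f ≤ S.ncard * a := by
  rw [setSum, Set.ncard_eq_toFinset_card S]
  exact (Finset.sum_le_card_nsmul _ _ _ fun x hx => hf x ((Set.Finite.mem_toFinset _).1 hx)).trans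
    (le_of_eq (smul_eq_mul _ _))

theorem setSum_swap {α : Type u} [Finite α] (S T : Set α) (r : α → α → Prop) :
    setSum S (fun a => {b | b ∈ T ∧ r a b}.ncard) = setSum T fun b => {a | a ∈ S ∧ r a b}.ncard := by
  classical
  have hcard : ∀ (p : α → Prop) (s : Finset α),
      {y | y ∈ (s : Set α) ∧ p y}.ncard = (s.filter p).card :=
    fun p s => by rw [← Set.ncard_coe_finset, Finset.coe_filter]; rfl
  have key := Finset.sum_card_bipartiteAbove_eq_sum_card_bipartiteBelow r (s := S.toFinite.toFinset)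
    (t := T.toFinite.toFinset)
  simp only [Finset.bipartiteAbove, Finset.bipartiteBelow, ← hcard, Set.Finite.coe_toFinset] at key
  exact key

theorem conj_eq_conj {G : Type u} [Group G] (g a b : G) : g * a * g⁻¹ = g * b * g⁻¹ ↔ a = b :=
  (MulAut.conj g).injective.eq_iff

namespace Ctx

open Subgroup

variable {G : Type u} [Group G] [Finite G] {A : Type} [Group A] {J I R : Subgroup A}
  {z : G} {P : Subgroup G} (c : Ctx J I R z P)
include c

/-- The involutions not conjugate to `z`. -/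
def tclass (_ : Ctx J I R z P) : Set G := {y | y * y = 1 ∧ y ≠ 1 ∧ ¬ IsConj z y}

/-- The conjugates of `z` commuting with `t` whose product with it is one. -/
noncomputable def mOne (_ : Ctx J I R z P) (t : G) : ℕ :=
  {x | IsConj z x ∧ x * t = t * x ∧ IsConj z (x * t)}.ncard

/-- The conjugates of `z` commuting with `t` whose product with it is not one. -/
noncomputable def mTwo (_ : Ctx J I R z P) (t : G) : ℕ :=
  {x | IsConj z x ∧ x * t = t * x ∧ ¬ IsConj z (x * t)}.ncard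

theorem Tset_tclass {t : G} (ht : t ∈ c.Tset) : t ∈ c.tclass := ⟨c.W_sq ht.1, ht.2.1, ht.2.2⟩

theorem conj_of_tclass (hs : c.Split) (he : Extra J I R) {t y : G} (ht : t ∈ c.Tset) (hy : y ∈ c.tclass) :
    IsConj t y := by
  obtain ⟨g, hg⟩ := c.exists_conj_Tset hs he (orderOf_eq_prime (by rw [pow_two, hy.1]) hy.2.1) hy.2.2
  obtain ⟨n, -, hn⟩ := c.trans_Tset hs ht hg
  exact (isConj_iff.2 ⟨n, hn⟩).trans (isConj_iff.2 ⟨g⁻¹, by group⟩)

theorem card_centralizer_t (hs : c.Split) (he : Extra J I R) {t : G} (ht : t ∈ c.Tset) :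
    Nat.card ↥(centralizer ({t} : Set G)) = 2048 * 887040 := by
  have h := ncard_orbit_mul (normalizer (c.W : Set G)) t
  rw [show {y | ∃ k ∈ normalizer (c.W : Set G), k * t * k⁻¹ = y} = c.Tset from ?_, c.card_Tset hs,
    inf_eq_right.2 (c.cent_Tset_le hs ht), c.card_normalizer_W hs he.card_NI] at h
  · omega
  · ext y
    exact ⟨fun ⟨k, hk, e⟩ => e ▸ c.conj_Tset hk ht, fun hy => c.trans_Tset hs ht hy⟩

theorem card_tclass (hs : c.Split) (he : Extra J I R) (hH : Nat.card ↥c.H = 21799895040) {t : G} (ht : t ∈ c.Tset) :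
    c.tclass.ncard = 12 * c.zclass := by
  have h := ncard_orbit_mul (⊤ : Subgroup G) t
  rw [top_inf_eq, Subgroup.card_top, c.card_centralizer_t hs he ht, c.card_eq_zclass, hH,
    show {y | ∃ k ∈ (⊤ : Subgroup G), k * t * k⁻¹ = y} = c.tclass from ?_] at h
  · omega
  · ext y
    constructor
    · rintro ⟨g, -, rfl⟩
      exact ⟨by rw [conj_mul, c.W_sq ht.1, mul_one, mul_inv_cancel], fun e => ht.2.1 (conj_eq_one_iff.1 e),
        fun e => ht.2.2 ((c.isConj_z_conj g t).1 e)⟩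
    · intro hy
      obtain ⟨g, hg⟩ := isConj_iff.1 (c.conj_of_tclass hs he ht hy)
      exact ⟨g, mem_top _, hg⟩

/-- Counting related pairs from both sides. -/
theorem double_count (hs : c.Split) (he : Extra J I R) (hH : Nat.card ↥c.H = 21799895040) {t : G} (ht : t ∈ c.Tset)
    (Q : G → G → Prop) (hQ : ∀ g a b, Q (g * a * g⁻¹) (g * b * g⁻¹) ↔ Q a b) :
    {b | b ∈ c.tclass ∧ Q z b}.ncard = 12 * {a | IsConj z a ∧ Q a t}.ncard := by
  have htc : ∀ g b, g * b * g⁻¹ ∈ c.tclass ↔ b ∈ c.tclass := fun g b => by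
    show _ ∧ _ ∧ _ ↔ _ ∧ _ ∧ _
    rw [conj_mul, ne_eq, conj_eq_one_iff, conj_eq_one_iff, c.isConj_z_conj]
  have key : ∀ (p : G → Prop), (∀ g b, p (g * b * g⁻¹) ↔ p b) → ∀ (r : G → G → Prop),
      (∀ g a b, r (g * a * g⁻¹) (g * b * g⁻¹) ↔ r a b) → ∀ {a a' : G}, IsConj a a' →
      {b | p b ∧ r a' b}.ncard = {b | p b ∧ r a b}.ncard := by
    intro p hp r hr a a' h
    obtain ⟨g, rfl⟩ := isConj_iff.1 h
    rw [← Set.ncard_image_of_injective {b | p b ∧ r a b} (MulAut.conj g).injective]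
    congr 1
    ext y
    simp only [Set.mem_image, MulAut.conj_apply]
    constructor
    · rintro ⟨hy, hry⟩
      refine ⟨g⁻¹ * y * g, ⟨(hp g _).1 ?_, (hr g _ _).1 ?_⟩, by group⟩ <;>
        rwa [show g * (g⁻¹ * y * g) * g⁻¹ = y by group]
    · rintro ⟨b, ⟨hb, hrb⟩, rfl⟩
      exact ⟨(hp g b).2 hb, (hr g a b).2 hrb⟩
  have h := setSum_swap {a | IsConj z a} c.tclass Q
  rw [setSum_const (S := {a | IsConj z a}) (f := fun a => {b | b ∈ c.tclass ∧ Q a b}.ncard)
      (a := {b | b ∈ c.tclass ∧ Q z b}.ncard) (fun a ha => key _ htc Q hQ ha),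
    setSum_const (S := c.tclass) (f := fun b => {a | a ∈ {a | IsConj z a} ∧ Q a b}.ncard)
      (a := {a | IsConj z a ∧ Q a t}.ncard) (fun b hb => key (IsConj z) c.isConj_z_conj
      (fun b a => Q a b) (fun g b a => hQ g a b) (c.conj_of_tclass hs he ht hb)), c.card_tclass hs he hH ht] at h
  have hpos : 0 < c.zclass := Set.ncard_pos (Set.toFinite _) |>.2 ⟨z, IsConj.refl z⟩
  refine Nat.eq_of_mul_eq_mul_left hpos ?_
  calc c.zclass * _ = 12 * c.zclass * {a | IsConj z a ∧ Q a t}.ncard := h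
    _ = _ := by ring

theorem double_cT (hs : c.Split) (he : Extra J I R) (hH : Nat.card ↥c.H = 21799895040) {t : G} (ht : t ∈ c.Tset) :
    c.cT = 12 * c.mTwo t := by
  rw [mTwo, ← c.double_count hs he hH ht (fun a b => a * b = b * a ∧ ¬ IsConj z (a * b)) fun g a b => by
    rw [conj_mul, conj_mul, c.isConj_z_conj, conj_eq_conj], cT]
  congr 1
  ext x
  constructor
  · rintro ⟨hx, h2, h1, hz⟩
    exact ⟨⟨h2, fun e => hz (by rw [e, one_mul]), h1⟩, (c.comm_z hx).symm, by rwa [← c.comm_z hx]⟩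
  · rintro ⟨⟨h2, -, h1⟩, hc, hz⟩
    exact ⟨mem_centralizer_singleton_iff.2 hc.symm, h2, h1, by rwa [← hc]⟩

theorem double_cM (hs : c.Split) (he : Extra J I R) (hH : Nat.card ↥c.H = 21799895040) {t : G} (ht : t ∈ c.Tset) :
    c.cM = 12 * c.mOne t + 1 := by
  have e : (fun x => x * z) '' {b | b ∈ c.tclass ∧ (z * b = b * z ∧ IsConj z (z * b))} =
      {x | x ∈ c.H ∧ x * x = 1 ∧ c.TyZT x} \ {z} := by
    have hzz : ∀ x : G, x * z * z = x := fun x => by rw [mul_assoc, c.zz, mul_one]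
    ext x
    constructor
    · rintro ⟨b, ⟨⟨h2, h1, hb⟩, hc, hz⟩, rfl⟩
      have hbH : b ∈ c.H := mem_centralizer_singleton_iff.2 hc.symm
      refine ⟨⟨mul_mem hbH c.z_mem_H, c.mul_z_sq hbH h2, ?_, ?_⟩, fun e => h1 (mul_eq_right.1 e)⟩
      · show IsConj z (b * z)
        rwa [← hc]
      · show ¬ IsConj z (b * z * z)
        rwa [hzz]
    · rintro ⟨⟨hx, h2, hc, hcz⟩, hne⟩
      refine ⟨x * z, ⟨⟨c.mul_z_sq hx h2, fun e => hne ?_, hcz⟩, ?_, ?_⟩, hzz x⟩
      · calc x = x * z * z := (hzz x).symm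
          _ = z := by rw [e, one_mul]
      · exact (c.comm_z (mul_mem hx c.z_mem_H)).symm
      · rwa [← c.comm_z (mul_mem hx c.z_mem_H), hzz]
  have hz : z ∈ {x | x ∈ c.H ∧ x * x = 1 ∧ c.TyZT x} :=
    ⟨c.z_mem_H, c.zz, IsConj.refl z, by rw [c.zz]; exact c.not_isConj_z_one⟩
  rw [mOne, ← c.double_count hs he hH ht (fun a b => a * b = b * a ∧ IsConj z (a * b)) fun g a b => by
    rw [conj_mul, conj_mul, c.isConj_z_conj, conj_eq_conj],
    ← Set.ncard_image_of_injective _ (mul_left_injective z), e, Set.ncard_sdiff_singleton_of_mem hz, cM]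
  have := Set.ncard_pos (Set.toFinite _) |>.2 ⟨z, hz⟩
  omega

theorem fixZ_eq {t : G} : c.fixZ t = c.mOne t + c.mTwo t := by
  rw [fixZ, mOne, mTwo, ← Set.ncard_union_eq (Set.disjoint_left.2 fun x h h' => h'.2.2 h.2.2) (Set.toFinite _)
    (Set.toFinite _)]
  congr 1
  ext x
  constructor
  · rintro ⟨h, h'⟩
    by_cases hc : IsConj z (x * t)
    exacts [Or.inl ⟨h, h', hc⟩, Or.inr ⟨h, h', hc⟩]
  · rintro (h | h) <;> exact ⟨h.1, h.2.1⟩

/-- The bound. -/
theorem zclass_le (hs : c.Split) (he : Extra J I R) {t : G} (ht : t ∈ c.Tset) :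
    c.zclass ≤ c.mOne t * c.cM + c.mTwo t * c.cZ + c.mTwo t * c.mTwo t +
      {x | x ∈ centralizer ({t} : Set G) ∧ x * x = 1}.ncard * c.mOne t := by
  classical
  have htt := c.W_sq ht.1
  have htt' : ∀ x : G, x * t * t = x := fun x => by rw [mul_assoc, htt, mul_one]
  set S := {x | x * x = 1 ∧ x ≠ 1 ∧ x ≠ t ∧ x * t = t * x} with hS
  set F : G → Set G := fun x => {u | IsConj z u ∧ u * x = x * u ∧ (IsConj z (x * t) ↔ ¬ IsConj z (u * x))}
    with hF
  have hcov : c.zclass ≤ setSum S fun x => (F x).ncard := by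
    have hsub : {u | IsConj z u} ⊆ ↑(S.toFinite.toFinset.biUnion fun x => (F x).toFinite.toFinset) := by
      intro u hu
      obtain ⟨x, hx2, hx1, hxt, hct, hcu, hp⟩ := exists_middle htt (c.sq_of_conj hu) (c.ne_one_of_conj hu)
        fun h => ht.2.2 (IsConj.trans hu h.symm)
      refine Finset.mem_coe.2 (Finset.mem_biUnion.2
        ⟨x, (Set.Finite.mem_toFinset _).2 ⟨hx2, hx1, hxt, hct⟩, (Set.Finite.mem_toFinset _).2 ⟨hu, hcu.symm, ?_⟩⟩)
      rw [hct]
      have hnt : ¬ IsConj z t := ht.2.2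
      rcases hp with ⟨h1, h2⟩ | ⟨h1, h2⟩
      · exact iff_of_false (fun h => hnt (h.trans h1)) (not_not.2 (IsConj.trans hu h2.symm))
      · exact iff_of_true (IsConj.trans hu h1.symm) fun h => hnt (h.trans h2)
    refine (Set.ncard_le_ncard hsub (Set.toFinite _)).trans ?_
    rw [Set.ncard_coe_finset]
    refine Finset.card_biUnion_le.trans (le_of_eq ?_)
    rw [setSum]
    exact Finset.sum_congr rfl fun x _ => (Set.ncard_eq_toFinset_card _).symm
  have hinv : ∀ {p : G → G → Prop}, (∀ g a b, p (g * a * g⁻¹) (g * b * g⁻¹) ↔ p a b) → ∀ {x y : G}, IsConj x y →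
      {u | IsConj z u ∧ p u y}.ncard = {u | IsConj z u ∧ p u x}.ncard := by
    intro p hp x y h
    obtain ⟨g, rfl⟩ := isConj_iff.1 h
    rw [← Set.ncard_image_of_injective {u | IsConj z u ∧ p u x} (MulAut.conj g).injective]
    congr 1
    ext w
    simp only [Set.mem_image, MulAut.conj_apply]
    constructor
    · rintro ⟨hw, hpw⟩
      refine ⟨g⁻¹ * w * g, ⟨(c.isConj_z_conj g _).1 ?_, (hp g _ _).1 ?_⟩, by group⟩ <;>
        rwa [show g * (g⁻¹ * w * g) * g⁻¹ = w by group]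
    · rintro ⟨u, ⟨hu, hpu⟩, rfl⟩
      exact ⟨(c.isConj_z_conj g u).2 hu, (hp g u x).2 hpu⟩
  have hP : ∀ g a b : G, (g * a * g⁻¹ * (g * b * g⁻¹) = g * b * g⁻¹ * (g * a * g⁻¹) ∧
      IsConj z (g * a * g⁻¹ * (g * b * g⁻¹))) ↔ (a * b = b * a ∧ IsConj z (a * b)) := fun g a b => by
    rw [conj_mul, conj_mul, c.isConj_z_conj, conj_eq_conj]
  have hN : ∀ g a b : G, (g * a * g⁻¹ * (g * b * g⁻¹) = g * b * g⁻¹ * (g * a * g⁻¹) ∧
      ¬ IsConj z (g * a * g⁻¹ * (g * b * g⁻¹))) ↔ (a * b = b * a ∧ ¬ IsConj z (a * b)) := fun g a b => by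
    rw [conj_mul, conj_mul, c.isConj_z_conj, conj_eq_conj]
  have hzM : ∀ x, IsConj z x → {u | IsConj z u ∧ u * x = x * u ∧ ¬ IsConj z (u * x)}.ncard = c.cM := by
    intro x hx
    rw [hinv (p := fun a b => a * b = b * a ∧ ¬ IsConj z (a * b)) hN hx, cM]
    congr 1
    ext u
    exact ⟨fun h => ⟨mem_centralizer_singleton_iff.2 h.2.1, c.sq_of_conj h.1, h.1, h.2.2⟩,
      fun h => ⟨h.2.2.1, c.comm_z h.1, h.2.2.2⟩⟩
  have hzZ : ∀ x, IsConj z x → {u | IsConj z u ∧ u * x = x * u ∧ IsConj z (u * x)}.ncard = c.cZ := by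
    intro x hx
    rw [hinv (p := fun a b => a * b = b * a ∧ IsConj z (a * b)) hP hx, cZ]
    congr 1
    ext u
    exact ⟨fun h => ⟨mem_centralizer_singleton_iff.2 h.2.1, c.sq_of_conj h.1, h.1, h.2.2⟩,
      fun h => ⟨h.2.2.1, c.comm_z h.1, h.2.2.2⟩⟩
  have hflip : ∀ {p q : Prop}, p → (((p ↔ ¬ q)) ↔ ¬ q) := fun hp => ⟨fun h => h.1 hp, fun h => iff_of_true hp h⟩
  have hflip' : ∀ {p q : Prop}, ¬ p → (((p ↔ ¬ q)) ↔ q) :=
    fun hp => ⟨fun h => Classical.byContradiction fun hq => hp (h.2 hq), fun h => iff_of_false hp (not_not.2 h)⟩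
  refine hcov.trans ?_
  rw [setSum_split S (IsConj z), setSum_split {x | x ∈ S ∧ IsConj z x} (fun x => IsConj z (x * t)),
    setSum_split {x | x ∈ S ∧ ¬ IsConj z x} (fun x => IsConj z (x * t))]
  have hA : setSum {x | x ∈ {x | x ∈ S ∧ IsConj z x} ∧ IsConj z (x * t)} (fun x => (F x).ncard) =
      c.mOne t * c.cM := by
    rw [setSum_const (a := c.cM) (fun x hx => by simp only [hF, hflip hx.2]; exact hzM x hx.1.2)]
    congr 2
    ext x
    exact ⟨fun h => ⟨h.1.2, h.1.1.2.2.2, h.2⟩, fun h => ⟨⟨⟨c.sq_of_conj h.1, c.ne_one_of_conj h.1,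
      fun e => ht.2.2 (e ▸ h.1), h.2.1⟩, h.1⟩, h.2.2⟩⟩
  have hB : setSum {x | x ∈ {x | x ∈ S ∧ IsConj z x} ∧ ¬ IsConj z (x * t)} (fun x => (F x).ncard) =
      c.mTwo t * c.cZ := by
    rw [setSum_const (a := c.cZ) (fun x hx => by simp only [hF, hflip' hx.2]; exact hzZ x hx.1.2)]
    congr 2
    ext x
    exact ⟨fun h => ⟨h.1.2, h.1.1.2.2.2, h.2⟩, fun h => ⟨⟨⟨c.sq_of_conj h.1, c.ne_one_of_conj h.1,
      fun e => ht.2.2 (e ▸ h.1), h.2.1⟩, h.1⟩, h.2.2⟩⟩
  have hT : ∀ x, x ∈ S ∧ ¬ IsConj z x → IsConj t x := fun x hx =>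
    c.conj_of_tclass hs he ht ⟨hx.1.1, hx.1.2.1, hx.2⟩
  have hC : setSum {x | x ∈ {x | x ∈ S ∧ ¬ IsConj z x} ∧ IsConj z (x * t)} (fun x => (F x).ncard) =
      c.mTwo t * c.mTwo t := by
    rw [setSum_const (a := c.mTwo t) (fun x hx => by simp only [hF, hflip hx.2]; rw [hinv (p := fun a b => a * b = b * a ∧ ¬ IsConj z (a * b)) hN (hT x hx.1)]; rfl)]
    congr 1
    rw [mTwo, ← Set.ncard_image_of_injective {x | x ∈ {x | x ∈ S ∧ ¬ IsConj z x} ∧ IsConj z (x * t)}
      (mul_left_injective t)]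
    congr 1
    ext y
    constructor
    · rintro ⟨x, ⟨⟨⟨hx2, hx1, -, hxc⟩, hxn⟩, hxy⟩, rfl⟩
      refine ⟨hxy, ?_, ?_⟩
      · show x * t * t = t * (x * t)
        rw [← mul_assoc t x t, ← hxc]
      · show ¬ IsConj z (x * t * t)
        rwa [htt']
    · rintro ⟨hy, hyc, hyn⟩
      refine ⟨y * t, ⟨⟨⟨?_, fun e => ht.2.2 ?_, fun e => c.ne_one_of_conj hy (mul_eq_right.1 e), ?_⟩, hyn⟩, ?_⟩,
        htt' y⟩
      · calc y * t * (y * t) = y * (t * y) * t := by group
          _ = y * y * (t * t) := by rw [← hyc]; group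
          _ = 1 := by rw [c.sq_of_conj hy, htt, one_mul]
      · rw [show t = y by rw [← htt' y, e, one_mul]]; exact hy
      · rw [← mul_assoc t, ← hyc]
      · rwa [htt']
  have hD : setSum {x | x ∈ {x | x ∈ S ∧ ¬ IsConj z x} ∧ ¬ IsConj z (x * t)} (fun x => (F x).ncard) ≤
      {x | x ∈ centralizer ({t} : Set G) ∧ x * x = 1}.ncard * c.mOne t := by
    refine (setSum_le (a := c.mOne t) fun x hx => ?_).trans (Nat.mul_le_mul_right _ (Set.ncard_le_ncard
      (fun x hx => ⟨mem_centralizer_singleton_iff.2 hx.1.1.2.2.2, hx.1.1.1⟩) (Set.toFinite _)))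
    simp only [hF, hflip' hx.2]
    rw [hinv (p := fun a b => a * b = b * a ∧ IsConj z (a * b)) hP (hT x hx.1)]
    exact le_rfl
  rw [hA, hB, hC]
  omega

end Ctx

end CfsgLib.Spor.JFourType
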