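import Cfsg.Agent.Lib.Spor.JFourType.Order.Defs
import Cfsg.Agent.Lib.Spor.JFourType.LocalNormalizer

/-!
# An element of order eleven of the centralizer of `z`

It fixes a nondegenerate line of four vectors.  A two-element of `H` commuting with it lies in `E`, and the only
involution of `E` commuting with it is `z`.
-/

set_option autoImplicit false
set_option linter.style.haveILetI false
set_option linter.unusedSectionVars false

namespace CfsgLib.Spor.JFourType.Ctx

open Subgroup

universe u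

variable {G : Type u} [Group G] [Finite G] {A : Type} [Group A] {J I R : Subgroup A}
  {z : G} {P : Subgroup G} (c : Ctx J I R z P) {x : G}
include c

/-- An element of order eleven of `C0`. -/
theorem exists_ord_eleven : ∃ x ∈ c.C0, orderOf x = 11 := by
  obtain ⟨w, hw, hw11, hne⟩ := c.exists_eleven
  haveI : Fact (Nat.Prime 11) := ⟨by norm_num⟩
  exact ⟨w, hw, orderOf_eq_prime hw11 fun h => hne (by rw [h, c.im_one])⟩

variable (hx : x ∈ c.C0) (ho : orderOf x = 11)
include hx ho

theorem act_pow_eleven : c.act (x ^ 11) = 1 := by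
  rw [← ho, pow_orderOf_eq_one, c.act_one]

theorem fix_eleven_om {v : c.Vs} (hv : v ∈ c.fix {x}) : c.om v ∈ c.fix {x} :=
  c.fix_om (Set.singleton_subset_iff.2 (c.C0_le_M hx)) hv

/-- The fixed space has four vectors. -/
theorem card_fix_eleven : Nat.card ↥(c.fix {x}) = 4 := by
  haveI : Fact (Nat.Prime 11) := ⟨by norm_num⟩
  obtain ⟨k, hk, e⟩ := c.card_eq_two_pow (c.fix {x}) fun v hv => c.fix_eleven_om hx ho hv
  have hmod := c.card_fix_mod (p := 11) hx.1 (c.act_pow_eleven hx ho) ⊤ fun v _ => AddSubgroup.mem_top _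
  rw [top_inf_eq, AddSubgroup.card_top, c.card_V, e] at hmod
  obtain rfl | rfl : k = 1 ∨ k = 6 := by interval_cases k <;> omega
  · simpa using e
  · exfalso
    have htop : c.fix {x} = ⊤ := AddSubgroup.eq_top_of_card_eq _ (by rw [e, c.card_V]; norm_num)
    have hE : x ∈ c.E := (c.act_eq_one hx.1).1 (AddMonoidHom.ext fun v =>
      c.mem_fix_singleton.1 (htop ▸ AddSubgroup.mem_top v))
    obtain ⟨a, ha⟩ := (c.E_isPGroup) ⟨x, hE⟩
    have h11 : 11 ∣ 2 ^ a := ho ▸ orderOf_dvd_of_pow_eq_one (congrArg Subtype.val ha)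
    exact absurd ((Nat.Prime.dvd_of_dvd_pow (by norm_num : Nat.Prime 11) h11)) (by norm_num)

/-- The orthogonal of the fixed space has 1024 vectors and no fixed one but zero. -/
theorem card_perp_eleven : Nat.card ↥(c.perp (c.fix {x})) = 1024 := by
  have h := c.card_perp (c.fix {x})
  rw [c.card_fix_eleven hx ho] at h
  omega

theorem fix_inf_perp_eleven : c.fix {x} ⊓ c.perp (c.fix {x}) = ⊥ :=
  c.fix_inf_perp (p := 11) (by decide) hx.1 (c.act_pow_eleven hx ho)

/-- A two-element of `H` commuting with the element fixes the orthogonal of its fixed space. -/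
theorem fix_perp_of_two {g : G} (hg : g ∈ c.H) (hgx : g * x = x * g) {a : ℕ} (ha : g ^ 2 ^ a = 1) :
    c.perp (c.fix {x}) ≤ c.fix {g} := by
  haveI : Fact (Nat.Prime 11) := ⟨by norm_num⟩
  set U := c.perp (c.fix {x})
  have hcomm : ∀ v, c.act g (c.act x v) = c.act x (c.act g v) := fun v => by
    rw [← c.act_apply_mul hg hx.1, ← c.act_apply_mul hx.1 hg, hgx]
  have hUx : ∀ v ∈ U, c.act x v ∈ U := fun v hv => c.perp_fix_invariant hx.1 hv
  have hUg : ∀ h ∈ zpowers g, ∀ v ∈ U, c.act h v ∈ U := by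
    intro h hh v hv
    refine c.perp_invariant (zpowers_le.2 hg hh) (fun w hw => ?_) hv
    refine c.mem_fix_singleton.2 ?_
    have hc : Commute h x := by
      obtain ⟨i, rfl⟩ := mem_zpowers_iff.1 hh
      exact (show Commute g x from hgx).zpow_left i
    rw [← c.act_apply_mul hx.1 (inv_mem (zpowers_le.2 hg hh)), ← hc.inv_left.eq,
      c.act_apply_mul (inv_mem (zpowers_le.2 hg hh)) hx.1, c.mem_fix_singleton.1 hw]
  set W := U ⊓ c.fix {g} with hW
  have hWx : ∀ v ∈ W, c.act x v ∈ W := fun v hv =>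
    ⟨hUx v hv.1, c.mem_fix_singleton.2 (by rw [hcomm, c.mem_fix_singleton.1 hv.2])⟩
  have hne : U ≠ ⊥ := fun h => by
    have := c.card_perp_eleven hx ho
    rw [show c.perp (c.fix {x}) = U from rfl, h, AddSubgroup.card_bot] at this
    omega
  obtain ⟨v, hvU, hv0, hv⟩ := c.exists_fixed (zpowers_le.2 hg) (fun h => by
    obtain ⟨i, hi⟩ := mem_zpowers_iff.1 h.2
    refine ⟨a, Subtype.ext ?_⟩
    rw [SubgroupClass.coe_pow, OneMemClass.coe_one, ← hi, ← zpow_natCast, ← zpow_mul, mul_comm, zpow_mul,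
      zpow_natCast, ha, one_zpow]) U hUg hne
  have hvW : v ∈ W := ⟨hvU, c.mem_fix_singleton.2 (hv g (mem_zpowers g))⟩
  have hmod := c.card_fix_mod (p := 11) hx.1 (c.act_pow_eleven hx ho) W hWx
  rw [show W ⊓ c.fix {x} = ⊥ from le_bot_iff.1 ((inf_le_inf_right _ inf_le_left).trans
    (le_of_eq (by rw [inf_comm]; exact c.fix_inf_perp_eleven hx ho))), AddSubgroup.card_bot] at hmod
  obtain ⟨k, -, hk⟩ := c.card_addSubgroup W
  have hle : Nat.card ↥W ≤ 1024 := c.card_perp_eleven hx ho ▸ AddSubgroup.card_le_of_le inf_le_left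
  have h2 : 2 ≤ Nat.card ↥W := by
    by_contra hlt
    have h1 : Nat.card ↥W = 1 := by
      have := Nat.card_pos (α := ↥W)
      omega
    exact hv0 ((AddSubgroup.mem_bot).1 (AddSubgroup.card_eq_one.1 h1 ▸ hvW))
  have hk10 : k ≤ 10 := (Nat.pow_le_pow_iff_right (by norm_num : 1 < 2)).1 (hk ▸ hle : 2 ^ k ≤ 2 ^ 10)
  have h1024 : Nat.card ↥W = Nat.card ↥U := by
    rw [c.card_perp_eleven hx ho, hk]
    rw [hk] at hmod h2
    interval_cases k <;> omega
  exact (AddSubgroup.eq_of_le_of_card_ge inf_le_left h1024.ge).ge.trans inf_le_right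

/-- A two-element of `H` commuting with the element lies in `E`. -/
theorem mem_E_of_two_eleven {g : G} (hg : g ∈ c.H) (hgx : g * x = x * g) {a : ℕ} (ha : g ^ 2 ^ a = 1) :
    g ∈ c.E := by
  set F := c.fix {x}
  set U := c.perp F
  have hU := c.fix_perp_of_two hx ho hg hgx ha
  have hgM : g ∈ c.M := by
    by_contra hM
    obtain ⟨v, hv, hv0⟩ : ∃ v ∈ U, v ≠ 0 := by
      by_contra hcon
      push Not at hcon
      have := c.card_perp_eleven hx ho
      rw [show c.perp (c.fix {x}) = U from rfl, (AddSubgroup.eq_bot_iff_forall _).2 hcon,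
        AddSubgroup.card_bot] at this
      omega
    have h := c.om_outer hg hM v
    rw [c.mem_fix_singleton.1 (hU hv),
      c.mem_fix_singleton.1 (hU (c.perp_om (fun w hw => c.fix_eleven_om hx ho hw) hv))] at h
    exact hv0 (c.om_fixed (c.om_injective h).symm)
  -- the fixed vectors of the element are fixed
  have hFg : ∀ h ∈ zpowers g, ∀ v ∈ F, c.act h v ∈ F := by
    intro h hh v hv
    have hc : Commute h x := by
      obtain ⟨i, rfl⟩ := mem_zpowers_iff.1 hh
      exact (show Commute g x from hgx).zpow_left i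
    refine c.mem_fix_singleton.2 ?_
    rw [← c.act_apply_mul hx.1 (zpowers_le.2 hg hh), ← hc.eq, c.act_apply_mul (zpowers_le.2 hg hh) hx.1,
      c.mem_fix_singleton.1 hv]
  have hF : F ≤ c.fix {g} := by
    intro w hw
    obtain ⟨v, hv, hv0, hvg⟩ := c.exists_fixed (zpowers_le.2 hg) (fun h => by
      obtain ⟨i, hi⟩ := mem_zpowers_iff.1 h.2
      refine ⟨a, Subtype.ext ?_⟩
      rw [SubgroupClass.coe_pow, OneMemClass.coe_one, ← hi, ← zpow_natCast, ← zpow_mul, mul_comm, zpow_mul,
        zpow_natCast, ha, one_zpow]) F hFg (fun h => by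
      have := c.card_fix_eleven hx ho
      rw [show c.fix {x} = F from rfl, h, AddSubgroup.card_bot] at this
      omega)
    have hfv : v ∈ c.fix {g} := c.mem_fix_singleton.2 (hvg g (mem_zpowers g))
    have hom : ∀ {u}, u ∈ c.fix {g} → c.om u ∈ c.fix {g} := fun hu =>
      c.fix_om (Set.singleton_subset_iff.2 hgM) hu
    rcases c.eq_or_of_card_four (fun u hu => c.fix_eleven_om hx ho hu) (c.card_fix_eleven hx ho).le hv hv0 hw with
      h | h | h | h <;> rw [h]
    exacts [zero_mem _, hfv, hom hfv, hom (hom hfv)]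
  -- together they make up the whole space
  have htop : c.fix {g} = ⊤ := by
    refine AddSubgroup.eq_top_of_le_card _ ?_
    let f : ↥F × ↥U → ↥(c.fix {g}) := fun w => ⟨(w.1 : c.Vs) + w.2, add_mem (hF w.1.2) (hU w.2.2)⟩
    have hf : Function.Injective f := by
      rintro ⟨p, q⟩ ⟨p', q'⟩ h
      have h' : (p : c.Vs) + q = p' + q' := congrArg Subtype.val h
      have hd : (p : c.Vs) - p' = q' - q := by rw [sub_eq_sub_iff_add_eq_add, h', add_comm]
      have hm : (p : c.Vs) - p' ∈ F ⊓ U := ⟨AddSubgroup.sub_mem _ p.2 p'.2, by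
        rw [hd]; exact AddSubgroup.sub_mem _ q'.2 q.2⟩
      rw [c.fix_inf_perp_eleven hx ho, AddSubgroup.mem_bot] at hm
      have hp : p = p' := Subtype.ext (sub_eq_zero.1 hm)
      subst hp
      exact Prod.ext rfl (Subtype.ext (add_left_cancel h'))
    have h := Nat.card_le_card_of_injective f hf
    rwa [Nat.card_prod, c.card_fix_eleven hx ho, c.card_perp_eleven hx ho,
      show 4 * 1024 = 2 ^ 12 by norm_num, ← c.card_V] at h
  exact (c.act_eq_one hg).1 (AddMonoidHom.ext fun v => c.mem_fix_singleton.1 (htop ▸ AddSubgroup.mem_top v))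

omit [Finite G] in
theorem eq_of_conj_mul_z {e : G} (h : x * e * x⁻¹ = z * e) : False := by
  have hk : ∀ n : ℕ, x ^ n * e * (x ^ n)⁻¹ = z ^ n * e := by
    intro n
    induction n with
    | zero => simp
    | succ n ih =>
      calc x ^ (n + 1) * e * (x ^ (n + 1))⁻¹ = x * (x ^ n * e * (x ^ n)⁻¹) * x⁻¹ := by rw [pow_succ']; group
        _ = x * z ^ n * x⁻¹ * (x * e * x⁻¹) := by rw [ih]; group
        _ = z ^ n * (z * e) := by
          rw [show x * z ^ n = z ^ n * x from ((show Commute x z from c.comm_z hx.1).pow_right n).eq,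
            mul_inv_cancel_right, h]
        _ = _ := by rw [pow_succ, mul_assoc]
  have h11 := hk 11
  rw [show x ^ 11 = 1 by rw [← ho, pow_orderOf_eq_one], one_mul, inv_one, mul_one,
    show z ^ 11 = z by rw [show 11 = 2 * 5 + 1 from rfl, pow_succ, pow_mul, pow_two, c.zz, one_pow, one_mul]] at h11
  exact c.z_ne (mul_eq_right.1 h11.symm)

/-- A member of `E` over a fixed vector commutes with the element. -/
theorem comm_of_pv_fix {e : G} (he : e ∈ c.E) (h : c.pv e ∈ c.fix {x}) : e * x = x * e := by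
  rw [c.mem_fix_singleton, ← c.pv_conj hx.1 he, c.pv_eq_iff (c.conj_E hx.1 he) he] at h
  rcases h with h | h
  · exact (mul_inv_eq_iff_eq_mul.1 h).symm
  · exact (c.eq_of_conj_mul_z hx ho h).elim

theorem pv_fix_of_comm {e : G} (he : e ∈ c.E) (h : e * x = x * e) : c.pv e ∈ c.fix {x} := by
  rw [c.mem_fix_singleton, ← c.pv_conj hx.1 he, ← h, mul_inv_cancel_right]

/-- Two vectors of the fixed space which are not orthogonal. -/
theorem exists_fix_Bf : ∃ v ∈ c.fix {x}, ∃ w ∈ c.fix {x}, c.Bf v w ≠ 0 := by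
  obtain ⟨v, hv, hv0⟩ : ∃ v ∈ c.fix {x}, v ≠ 0 := by
    by_contra hcon
    push Not at hcon
    have := c.card_fix_eleven hx ho
    rw [(AddSubgroup.eq_bot_iff_forall _).2 hcon, AddSubgroup.card_bot] at this
    omega
  by_contra hcon
  push Not at hcon
  have hp : v ∈ c.perp (c.fix {x}) := c.mem_perp.2 fun w hw => hcon w hw v hv
  exact hv0 ((AddSubgroup.eq_bot_iff_forall _).1 (c.fix_inf_perp_eleven hx ho) v ⟨hv, hp⟩)

/-- Two members of `E` commuting with the element and not with each other. -/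
theorem exists_comm_pair : ∃ e ∈ c.E, ∃ f ∈ c.E, e * x = x * e ∧ f * x = x * f ∧ e * f = z * (f * e) := by
  obtain ⟨v, hv, w, hw, hvw⟩ := c.exists_fix_Bf hx ho
  obtain ⟨e, he, rfl⟩ := c.pv_surj v
  obtain ⟨f, hf, rfl⟩ := c.pv_surj w
  refine ⟨e, he, f, hf, c.comm_of_pv_fix hx ho he hv, c.comm_of_pv_fix hx ho hf hw, ?_⟩
  exact (c.comm_E he hf).resolve_left fun h => hvw ((c.Bf_comm he hf).2 h)

/-- `z` is the only involution of `H` commuting with the element. -/
theorem eq_z_of_comm_eleven {u : G} (hu : orderOf u = 2) (huH : u ∈ c.H) (hux : u * x = x * u) : u = z := by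
  have hu2 : u * u = 1 := by rw [← pow_two, ← hu, pow_orderOf_eq_one]
  have hu1 : u ≠ 1 := fun e => by simp [e] at hu
  have huE : u ∈ c.E := c.mem_E_of_two_eleven hx ho huH hux (a := 1) (by rw [pow_one, pow_two, hu2])
  by_contra hne
  have hv0 : c.pv u ≠ 0 := fun h => ((c.pv_eq_zero huE).1 h).elim hu1 hne
  have hv := c.pv_fix_of_comm hx ho huE hux
  have hS : c.Sf (c.pv u) = 0 := (c.Sf_sq huE).2 hu2
  -- the three nonzero fixed vectors are singular
  have hom : ∀ v, c.Sf v = 0 → c.Sf (c.om v) = 0 := by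
    intro v hv
    obtain ⟨d, hd, rfl⟩ := c.pv_surj v
    rw [om, ← c.pv_conj c.pg_H hd, c.Sf_sq (c.conj_E c.pg_H hd), conj_mul, (c.Sf_sq hd).1 hv, mul_one,
      mul_inv_cancel]
  have hall : ∀ w ∈ c.fix {x}, c.Sf w = 0 := by
    intro w hw
    rcases c.eq_or_of_card_four (fun v hv => c.fix_eleven_om hx ho hv) (c.card_fix_eleven hx ho).le hv hv0 hw with
      h | h | h | h <;> rw [h]
    · rw [← c.pv_one, c.Sf_sq (one_mem _), one_mul]
    exacts [hS, hom _ hS, hom _ (hom _ hS)]
  obtain ⟨v, hv, w, hw, hvw⟩ := c.exists_fix_Bf hx ho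
  have h := c.Sf_add v w
  rw [hall v hv, hall w hw, hall _ (add_mem hv hw), zero_add, zero_add] at h
  exact hvw h.symm

end CfsgLib.Spor.JFourType.Ctx
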