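import Cfsg.Agent.Lib.Spor.JFourType.Order.OuterClasses
import Cfsg.Agent.Lib.Spor.JFourType.Order.OuterDef

/-!
# The two classes of outer involutions in the pair stabilizer: proof
-/

set_option autoImplicit false

namespace CfsgLib.Spor.JFourType

open Cfsg Subgroup MulAction

theorem chainSub_two_eq : chainSub 2 = Spor.M22 := by
  ext g
  have e0 : bpt 0 = none := by decide +kernel
  have e1 : bpt 1 = some 0 := by decide +kernel
  rw [mem_chainSub, OuterAut.mem_M22]
  refine and_congr_right fun _ => ⟨fun h => ⟨e0 ▸ h 0 (by norm_num), e1 ▸ h 1 (by norm_num)⟩, fun h j hj => ?_⟩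
  interval_cases j
  · rw [e0]; exact h.1
  · rw [e1]; exact h.2

/-- A checked list is the class of its root. -/
theorem class_of_check {W T P R r n : ℕ} (hc : classCheck W T P R r n = true) (hr : r < n) {a : ↥Gam}
    (ha : (a : Equiv.Perm GolayPt) = permOf (arrGet 120 W r)) (haJ : a ∉ J22) :
    {x : ↥Gam | IsConj a x}.ncard = n ∧
      ∀ x : ↥Gam, IsConj a x ↔ ∃ i < n, (x : Equiv.Perm GolayPt) = permOf (arrGet 120 W i) := by
  classical
  simp only [classCheck, List.all_eq_true, List.mem_range, Bool.and_eq_true, memRow, closedRow, reachRow,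
    Bool.or_eq_true, decide_eq_true_eq, beq_iff_eq] at hc
  have hp : ∀ i < n, isPermCode (arrGet 120 W i) = true := fun i hi => (hc i hi).1.1
  have hmono : ∀ i j, i < j → j < n → arrGet 120 W i < arrGet 120 W j := by
    intro i j hij
    induction hij with
    | refl => intro h; exact ((hc i (by omega)).1.2.2).resolve_left (by omega)
    | @step m hm ih =>
      intro h
      exact (ih (by omega)).trans (((hc m (by omega)).1.2.2).resolve_left (by omega))
  have hinj : ∀ i < n, ∀ j < n, permOf (arrGet 120 W i) = permOf (arrGet 120 W j) → i = j := by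
    intro i hi j hj e
    have e' := permOf_inj_normal (hp i hi) (hp j hj) (hc i hi).1.2.1 (hc j hj).1.2.1 e
    by_contra hne
    rcases Nat.lt_or_gt_of_ne hne with h | h
    · exact (hmono _ _ h hj).ne e'
    · exact (hmono _ _ h hi).ne' e'
  set S : Set (Equiv.Perm GolayPt) := (fun i => permOf (arrGet 120 W i)) '' Set.Iio n with hS
  have hgen : ∀ g < 4, isPermCode (arrGet 120 m22Values g) = true ∧ permOf (arrGet 120 m22Values g) ∈ Spor.M22 :=
    fun g hg => ⟨isPermCode_of_slpCheck m22Slp_true g (lt_of_lt_of_le hg (by decide +kernel)),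
      chainSub_two_eq ▸ mem_chainSub_of_check (by norm_num) m22Gen_true m22Fix_true g hg⟩
  have hstep : ∀ i < n, ∀ g < 4, arrGet 12 T (4 * i + g) < n ∧
      permOf (arrGet 120 m22Values g) * permOf (arrGet 120 W i) * (permOf (arrGet 120 m22Values g))⁻¹ =
        permOf (arrGet 120 W (arrGet 12 T (4 * i + g))) := fun i hi g hg =>
    ⟨((hc i hi).2.1 g hg).1, conj_eq_of_twine (hgen g hg).1 (hp i hi) (hp _ ((hc i hi).2.1 g hg).1)
      ((hc i hi).2.1 g hg).2⟩
  have hclosed : ∀ h ∈ Spor.M22, ∀ y ∈ S, h * y * h⁻¹ ∈ S := by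
    intro h hh
    rw [← chainSub_two_eq, ← m22_gens] at hh
    induction hh using Subgroup.closure_induction with
    | mem g hg =>
      obtain ⟨g, hg, rfl⟩ := hg
      rintro _ ⟨i, hi, rfl⟩
      exact ⟨_, (hstep i hi g hg).1, ((hstep i hi g hg).2).symm⟩
    | one => intro y hy; simpa using hy
    | mul g k _ _ hg hk =>
      intro y hy
      rw [show g * k * y * (g * k)⁻¹ = g * (k * y * k⁻¹) * g⁻¹ by group]
      exact hg _ (hk y hy)
    | inv g _ hg =>
      intro y hy
      have himg : (fun y => g * y * g⁻¹) '' S = S :=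
        Set.eq_of_subset_of_ncard_le (by rintro _ ⟨y, hy, rfl⟩; exact hg y hy)
          (le_of_eq (Set.ncard_image_of_injective _ (MulAut.conj g).injective).symm) (Set.toFinite _)
      obtain ⟨w, hw, rfl⟩ := himg.symm ▸ hy
      simpa [mul_assoc] using hw
  have hreach : ∀ m i, i < n → arrGet 12 R i = m →
      ∃ g ∈ Spor.M22, g * permOf (arrGet 120 W r) * g⁻¹ = permOf (arrGet 120 W i) := by
    intro m
    induction m using Nat.strong_induction_on with
    | _ m ih =>
      intro i hi hm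
      rcases (hc i hi).2.2 with rfl | ⟨hpn, hlt, hT⟩
      · exact ⟨1, one_mem _, by simp⟩
      · have hg : arrGet 14 P i % 4 < 4 := Nat.mod_lt _ (by norm_num)
        obtain ⟨g, hgM, e⟩ := ih _ (hm ▸ hlt) _ hpn rfl
        obtain ⟨-, e2⟩ := hstep _ hpn _ hg
        rw [Nat.div_add_mod, hT, ← e] at e2
        exact ⟨permOf (arrGet 120 m22Values (arrGet 14 P i % 4)) * g, mul_mem (hgen _ hg).2 hgM, by
          rw [← e2]; group⟩
  have hiff : ∀ x : ↥Gam, IsConj a x ↔ ∃ i < n, (x : Equiv.Perm GolayPt) = permOf (arrGet 120 W i) := by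
    intro x
    constructor
    · intro h
      obtain ⟨g, rfl⟩ := isConj_iff.1 h
      obtain ⟨j, hj, e⟩ : ∃ j : ↥Gam, j ∈ J22 ∧ g * a * g⁻¹ = j * a * j⁻¹ := by
        by_cases hg : g ∈ J22
        · exact ⟨g, hg, rfl⟩
        · exact ⟨g * a, (mul_mem_iff_of_index_two J22_index).2 (iff_of_false hg haJ), by group⟩
      rw [e]
      obtain ⟨i, hi, e⟩ := hclosed (j : Equiv.Perm GolayPt) (mem_subgroupOf.1 hj) (permOf (arrGet 120 W r))
        ⟨r, hr, rfl⟩
      exact ⟨i, hi, by rw [coe_mul, coe_mul, coe_inv, ha]; exact e.symm⟩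
    · rintro ⟨i, hi, e⟩
      obtain ⟨g, hgM, eg⟩ := hreach _ i hi rfl
      exact isConj_iff.2 ⟨⟨g, M22_le hgM⟩, Subtype.ext (by rw [coe_mul, coe_mul, coe_inv, ha, e]; exact eg)⟩
  have hcard : S.ncard = n := by
    have hio : Set.InjOn (fun i => permOf (arrGet 120 W i)) (Set.Iio n) := fun i hi j hj e => hinj i hi j hj e
    rw [hS, hio.ncard_image, ← Finset.coe_Iio, Set.ncard_coe_finset, Nat.card_Iio]
  refine ⟨?_, hiff⟩
  rw [← Set.ncard_image_of_injective _ Subtype.val_injective,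
    show Subtype.val '' {x : ↥Gam | IsConj a x} = S from ?_,
    hcard]
  ext y
  constructor
  · rintro ⟨x, hx, rfl⟩
    obtain ⟨i, hi, e⟩ := (hiff x).1 hx
    exact ⟨i, hi, e.symm⟩
  · rintro ⟨i, hi, rfl⟩
    obtain ⟨g, hgM, eg⟩ := hreach _ i hi rfl
    have hG : permOf (arrGet 120 W i) ∈ Gam := by
      rw [← eg, ← ha]; exact mul_mem (mul_mem (M22_le hgM) a.2) (inv_mem (M22_le hgM))
    exact ⟨⟨_, hG⟩, (hiff _).2 ⟨i, hi, rfl⟩, rfl⟩

theorem outerTwo22 : OuterTwo J22 := by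
  obtain ⟨eA, eB, hA, hB, hoA, hoB, hRA, hRB⟩ := roots_ok
  rw [beq_iff_eq] at eA eB
  have hout : ∀ i, i < 256 → mRR.testBit i = true → (permFn (el i) 23 != 23) = true →
      ∃ a : ↥Gam, (a : Equiv.Perm GolayPt) = permOf (el i) ∧ a ∉ J22 ∧ a * a = 1 := by
    intro i hi hb h
    refine ⟨⟨_, (el_data hi).2.2.1⟩, rfl, fun hJ => ?_, RR22_sq (mem_subgroupOf.2 (mem_RR24.2 ⟨i, hi, hb, rfl⟩))⟩
    have := (none_fix (el_data hi).1).1 (mem_J22.1 hJ)
    simp [this] at h
  obtain ⟨a, ha, haJ, ha2⟩ := hout 19 (by norm_num) hRA hoA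
  obtain ⟨b, hb, hbJ, hb2⟩ := hout 44 (by norm_num) hRB hoB
  obtain ⟨ca, ia⟩ := class_of_check clsA_ok hA (a := a) (by rw [eA]; exact ha) haJ
  obtain ⟨cb, ib⟩ := class_of_check clsB_ok hB (a := b) (by rw [eB]; exact hb) hbJ
  refine ⟨a, b, haJ, ha2, hbJ, hb2, ca, cb, fun x hx hx2 => ?_⟩
  obtain ⟨g, hg⟩ := exists_mem_RR hx hx2
  obtain ⟨i, hi, hbit, e⟩ := mem_RR24.1 (mem_subgroupOf.1 hg)
  have h := List.all_eq_true.1 at_ok i (List.mem_range.2 hi)
  have hne : ¬ permFn (el i) 23 = 23 := fun h23 => hx (by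
    have hJ : g * x * g⁻¹ ∈ J22 := mem_J22.2 (by rw [← e]; exact (none_fix (el_data hi).1).2 h23)
    haveI := J22.normal_of_index_eq_two J22_index
    simpa [mul_assoc] using Subgroup.Normal.conj_mem inferInstance _ hJ g⁻¹)
  simp only [atRow, hbit, Bool.not_true, Bool.false_or, Bool.or_eq_true, beq_iff_eq, hne, false_or, List.any_eq_true,
    Bool.and_eq_true, decide_eq_true_eq] at h
  have hx' : IsConj x (g * x * g⁻¹) := isConj_iff.2 ⟨g, rfl⟩
  obtain ⟨q, -, -, ⟨-, hq, eq⟩ | ⟨-, hq, eq⟩⟩ := h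
  · exact Or.inl (((ia _).2 ⟨_, hq, by rw [eq, e]⟩).trans hx'.symm)
  · exact Or.inr (((ib _).2 ⟨_, hq, by rw [eq, e]⟩).trans hx'.symm)

end CfsgLib.Spor.JFourType
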