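import Cfsg.Agent.Lib.Spor.JFourType.Order.FinalKill
import Cfsg.Agent.Lib.Spor.JFourType.Order.Double
import Cfsg.Agent.Lib.Spor.JFourType.Order.CentInv
import Cfsg.Agent.Lib.Spor.JFourType.Order.Residues
import Cfsg.Agent.Lib.Spor.JFourType.Order.OuterClass22
import Cfsg.Agent.Lib.Spor.JFourType.Facts22.FiveSeven
import Cfsg.Agent.Lib.Spor.JFourType.Facts22Extra
import Cfsg.Agent.Lib.Spor.JFourType.Facts22
import Cfsg.Agent.Lib.Spor.JFourType.Ctx22
import Cfsg.Agent.Lib.Spor.JFourType.Orbit

/-!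
# The order and the two classes of involutions
-/

set_option autoImplicit false
set_option linter.style.haveILetI false

namespace CfsgLib.Spor.JFourType

open Subgroup

universe u

namespace Ctx

/-- The number of conjugates of `z`. -/
theorem zclass_eq {G : Type u} [Group G] [Finite G] {z : G} {P : Subgroup G} (c : Ctx J22 I22 R22 z P)
    (hs : c.Split) : c.zclass = 3980549947 := by
  have hH : Nat.card ↥c.H = 21799895040 := by rw [c.card_H_local]; norm_num
  obtain ⟨t, ht⟩ : c.Tset.Nonempty := Set.nonempty_of_ncard_ne_zero (by rw [c.card_Tset hs]; norm_num)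
  obtain ⟨k, m, p, q, hk, hp, hq, eZ, eM, eT, eN⟩ := c.census hs extra22 outerTwo22
  have hr := c.residues hs fiveSeven22 extra22
  have hb := c.zclass_le hs extra22 ht
  have hinv := c.invol_cent_le hs extra22 ht
  rw [c.card_sq_A hs extra22 outerTwo22] at hinv
  have hW := c.burnside_W hs extra22 ht
  have hE := c.burnside_E hs extra22 ht
  rw [c.fixZ_eq] at hW hE
  have hU : c.zclass ≤ c.mOne t * c.cM + c.mTwo t * c.cZ + c.mTwo t * c.mTwo t + 2048 * 2872 * c.mOne t :=
    hb.trans (Nat.add_le_add_left (Nat.mul_le_mul_right _ hinv) _)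
  exact (zclass_arith ⟨by simpa using hr.dvd_sq, hr.dvd_23, hr.mod_27, hr.mod_5, hr.mod_7⟩ hk hp hq eZ eM eT eN
    c.ZH_eq (c.double_cT hs extra22 hH ht) (c.double_cM hs extra22 hH ht) hW hE hU).resolve_right
    (c.zclass_notMem hs fiveSeven22 extra22)

end Ctx

/-- A simple group of this type has the order of Janko's fourth group and two classes of involutions. -/
theorem order_and_classes {G : Type u} [Group G] [Finite G] [IsSimpleGroup G] (hG : ¬ IsMulCommutative G)
    (hJ : Cfsg.IsOfJankoFourType G) :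
    Nat.card G = 86775571046077562880 ∧ ∃ x y : G, orderOf x = 2 ∧ orderOf y = 2 ∧ ¬ IsConj x y ∧
      ∀ w : G, orderOf w = 2 → IsConj w x ∨ IsConj w y := by
  obtain ⟨z, P, h⟩ := hJ
  let c : Ctx J22 I22 R22 z P := ctx22 h
  have hs := c.split hG
  refine ⟨by rw [c.card_eq_zclass, c.zclass_eq hs, c.card_H_local]; norm_num, ?_⟩
  obtain ⟨t, ht⟩ : c.Tset.Nonempty := Set.nonempty_of_ncard_ne_zero (by rw [c.card_Tset hs]; norm_num)
  have ho : orderOf t = 2 := orderOf_eq_prime (by rw [pow_two, c.W_sq ht.1]) ht.2.1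
  refine ⟨z, t, c.ord, ho, ht.2.2, fun w hw => ?_⟩
  by_cases hc : IsConj z w
  · exact Or.inl hc.symm
  · exact Or.inr (c.conj_of_tclass hs extra22 ht ⟨by rw [← pow_two, ← hw, pow_orderOf_eq_one],
      fun e => by simp [e] at hw, hc⟩).symm

end CfsgLib.Spor.JFourType
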