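import Mathlib

/-!
# The arithmetic of the order

The census, the congruences and the bound leave 25 values.
-/

set_option autoImplicit false

namespace CfsgLib.Spor.JFourType

/-- The wrong values left. -/
def candList : List ℕ := [
  1287496507, 2634023227, 5327076667, 21485397307, 22831924027, 24178450747,
  25524977467, 44376351547, 45722878267, 47069404987, 65920779067, 67267305787,
  68613832507, 87465206587, 88811733307, 90158260027, 109009634107, 110356160827,
  111702687547, 130554061627, 131900588347, 133247115067, 153445015867, 174989443387]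

theorem dvd_modulus {n : ℕ} (h1 : 121 ∣ n) (h2 : 23 ∣ n) (h3 : 27 ∣ n) (h4 : 5 ∣ n) (h5 : 7 ∣ n) (h6 : 8192 ∣ n) :
    21544427520 ∣ n := by
  have a := Nat.Coprime.mul_dvd_of_dvd_of_dvd (by norm_num) h1 h2
  have b := Nat.Coprime.mul_dvd_of_dvd_of_dvd (by norm_num) a h3
  have c := Nat.Coprime.mul_dvd_of_dvd_of_dvd (by norm_num) b h4
  have d := Nat.Coprime.mul_dvd_of_dvd_of_dvd (by norm_num) c h5
  have e := Nat.Coprime.mul_dvd_of_dvd_of_dvd (by norm_num) d h6
  simpa using e

theorem dvd_shift {q X r M : ℕ} (h : X % q = r % q) (hM : q ∣ M) (hr : r ≤ M) : q ∣ X + (M - r) := by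
  refine Nat.dvd_of_mod_eq_zero ?_
  rw [Nat.add_mod, h, ← Nat.add_mod, Nat.add_sub_cancel' hr, Nat.mod_eq_zero_of_dvd hM]

/-- The residue modulo the product and a bound. -/
theorem eq_add_mul {X r : ℕ} (h121 : 121 ∣ X) (h23 : 23 ∣ X) (h27 : X % 27 = 22) (h5 : X % 5 = 2) (h7 : X % 7 = 3)
    {e : ℕ} (h8192 : 8192 ∣ X + e) {M : ℕ} (hM : M = 21544427520) (hr : r < M) (r1 : 121 ∣ r) (r2 : 23 ∣ r)
    (r3 : r % 27 = 22) (r4 : r % 5 = 2) (r5 : r % 7 = 3) (r6 : 8192 ∣ r + e) : ∃ j, X = r + j * M := by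
  have e6 : X % 8192 = r % 8192 := Nat.ModEq.add_right_cancel' (n := 8192) e
    ((Nat.mod_eq_zero_of_dvd h8192).trans (Nat.mod_eq_zero_of_dvd r6).symm)
  have key := dvd_modulus (dvd_shift ((Nat.mod_eq_zero_of_dvd h121).trans (Nat.mod_eq_zero_of_dvd r1).symm)
      (by rw [hM]; norm_num) hr.le)
    (dvd_shift ((Nat.mod_eq_zero_of_dvd h23).trans (Nat.mod_eq_zero_of_dvd r2).symm) (by rw [hM]; norm_num) hr.le)
    (dvd_shift (h27.trans r3.symm) (by rw [hM]; norm_num) hr.le)
    (dvd_shift (h5.trans r4.symm) (by rw [hM]; norm_num) hr.le)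
    (dvd_shift (h7.trans r5.symm) (by rw [hM]; norm_num) hr.le)
    (dvd_shift e6 (by rw [hM]; norm_num) hr.le)
  rw [← hM] at key
  obtain ⟨j, hj⟩ := key
  clear h121 h23 h27 h5 h7 h8192 r1 r2 r3 r4 r5 r6 e6 hM
  rcases j with _ | i
  · rw [mul_zero] at hj
    omega
  · refine ⟨i, ?_⟩
    rw [mul_add, mul_one, mul_comm M] at hj
    omega

/-- One case. -/
theorem finish {X r U e : ℕ} (hR : 121 ∣ X ∧ 23 ∣ X ∧ X % 27 = 22 ∧ X % 5 = 2 ∧ X % 7 = 3) (he : 8192 ∣ X + e)
    (hU : X ≤ U)
    (hchk : r < 21544427520 ∧ 121 ∣ r ∧ 23 ∣ r ∧ r % 27 = 22 ∧ r % 5 = 2 ∧ r % 7 = 3 ∧ 8192 ∣ r + e ∧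
      ∀ j ≤ U / 21544427520, r + j * 21544427520 = 3980549947 ∨ r + j * 21544427520 ∈ candList ∨
        U < r + j * 21544427520) : X = 3980549947 ∨ X ∈ candList := by
  obtain ⟨h1, h2, h3, h4, h5⟩ := hR
  obtain ⟨hr, r1, r2, r3, r4, r5, r6, hall⟩ := hchk
  obtain ⟨j, rfl⟩ := eq_add_mul h1 h2 h3 h4 h5 he rfl hr r1 r2 r3 r4 r5 r6
  have hj : j ≤ U / 21544427520 := (Nat.le_div_iff_mul_le (by norm_num)).2 ((Nat.le_add_left _ _).trans hU)
  rcases hall j hj with h | h | h
  exacts [Or.inl h, Or.inr h, absurd hU (not_le.2 h)]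

/-- The census, the congruences and the bound. -/
theorem zclass_arith {X k m cZ cM cT ZH N4 m1 m2 : ℕ} {p q : ℕ × ℕ × ℕ}
    (hR : 121 ∣ X ∧ 23 ∣ X ∧ X % 27 = 22 ∧ X % 5 = 2 ∧ X % 7 = 3) (hk : k = 0 ∨ k = 192)
    (hp : p = (384, 0, 0) ∨ p = (0, 192, 0) ∨ p = (0, 0, 384))
    (hq : q = (384, 0, 0) ∨ q = (0, 192, 0) ∨ q = (0, 0, 384))
    (hZ : cZ = 1386 + 1155 * (96 + k) + 1386 * p.1 + 330 * q.1)
    (hM : cM = 1 + 1155 * 16 + 1386 * p.2.1 + 330 * q.2.1)
    (hT : cT = 2772 + 1155 * (192 - k) + 1386 * p.2.2 + 330 * q.2.2)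
    (hN : N4 = 4032 + 1386 * 1984 + 1155 * (9216 + k * (32 * m)))
    (hZH : ZH = cZ + cM) (h2 : cT = 12 * m2) (h1 : cM = 12 * m1 + 1)
    (hW : 2048 ∣ X + 1771 * ZH + 276 * (m1 + m2)) (hE : 8192 ∣ X + 1387 * ZH + 2772 * (m1 + m2) + N4)
    (hU : X ≤ m1 * cM + m2 * cZ + m2 * m2 + 2048 * 2872 * m1) : X = 3980549947 ∨ X ∈ candList := by
  subst hZ hM hT hN hZH
  rcases hk with rfl | rfl
  · rcases hp with rfl | rfl | rfl <;> rcases hq with rfl | rfl | rfl <;> dsimp only at h1 h2 hW hE hU
    · obtain rfl : m1 = 1540 := by clear hR hU hW hE; omega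
      obtain rfl : m2 = 18711 := by clear hR hU hW hE; omega
      exact finish (r := 21485397307) (U := 23866730811) (e := 1164835525) hR (by clear hR hU hW h1 h2; omega) (le_trans hU (by norm_num)) (by decide +kernel)
    · obtain rfl : m1 = 6820 := by clear hR hU hW hE; omega
      obtain rfl : m2 = 18711 := by clear hR hU hW hE; omega
      exact finish (r := 1287496507) (U := 53081567451) (e := 1091591365) hR (by clear hR hU hW h1 h2; omega) (le_trans hU (by norm_num)) (by decide +kernel)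
    · obtain rfl : m1 = 1540 := by clear hR hU hW hE; omega
      obtain rfl : m2 = 29271 := by clear hR hU hW hE; omega
      exact finish (r := 2634023227) (U := 28808177211) (e := 1018347205) hR (by clear hR hU hW h1 h2; omega) (le_trans hU (by norm_num)) (by decide +kernel)
    · obtain rfl : m1 = 23716 := by clear hR hU hW hE; omega
      obtain rfl : m2 = 18711 := by clear hR hU hW hE; omega
      exact finish (r := 1287496507) (U := 151065273051) (e := 857210053) hR (by clear hR hU hW h1 h2; omega) (le_trans hU (by norm_num)) (by decide +kernel)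
    · obtain rfl : m1 = 28996 := by clear hR hU hW hE; omega
      obtain rfl : m2 = 18711 := by clear hR hU hW hE; omega
      exact finish (r := 2634023227) (U := 183090252411) (e := 783965893) hR (by clear hR hU hW h1 h2; omega) (le_trans hU (by norm_num)) (by decide +kernel)
    · obtain rfl : m1 = 23716 := by clear hR hU hW hE; omega
      obtain rfl : m2 = 29271 := by clear hR hU hW hE; omega
      exact finish (r := 3980549947) (U := 150386434011) (e := 710721733) hR (by clear hR hU hW h1 h2; omega) (le_trans hU (by norm_num)) (by decide +kernel)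
    · obtain rfl : m1 = 1540 := by clear hR hU hW hE; omega
      obtain rfl : m2 = 63063 := by clear hR hU hW hE; omega
      exact finish (r := 2634023227) (U := 28134635067) (e := 549584581) hR (by clear hR hU hW h1 h2; omega) (le_trans hU (by norm_num)) (by decide +kernel)
    · obtain rfl : m1 = 6820 := by clear hR hU hW hE; omega
      obtain rfl : m2 = 63063 := by clear hR hU hW hE; omega
      exact finish (r := 3980549947) (U := 51729186267) (e := 476340421) hR (by clear hR hU hW h1 h2; omega) (le_trans hU (by norm_num)) (by decide +kernel)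
    · obtain rfl : m1 = 1540 := by clear hR hU hW hE; omega
      obtain rfl : m2 = 73623 := by clear hR hU hW hE; omega
      exact finish (r := 5327076667) (U := 22772224827) (e := 403096261) hR (by clear hR hU hW h1 h2; omega) (le_trans hU (by norm_num)) (by decide +kernel)
  · rcases hp with rfl | rfl | rfl <;> rcases hq with rfl | rfl | rfl <;> dsimp only at h1 h2 hW hE <;> clear hR hU <;> omega

end CfsgLib.Spor.JFourType
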