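import Cfsg.Agent.Lib.Spor.JFourType.Order.Killer
import Cfsg.Agent.Lib.Spor.JFourType.Order.FinalArith

/-!
# The wrong values are refuted

For each, a large prime, a bound for its trial division and the two factorizations of the check.
-/

set_option autoImplicit false
set_option linter.style.haveILetI false
set_option maxRecDepth 20000

namespace CfsgLib.Spor.JFourType

/-- The data. -/
def killData : List (ℕ × (ℕ × ℕ) × List (ℕ × ℕ × ℕ) × List (ℕ × ℕ × ℕ)) := [
  (1287496507, (462629, 680), [(2, 2, 1), (115657, 1, 340)], [(11, 3, 3), (23, 1, 4)]),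
  (2634023227, (946469, 972), [(2, 2, 1), (151, 1, 12), (1567, 1, 39)], [(11, 3, 3), (23, 1, 4)]),
  (5327076667, (1033, 32), [(2, 3, 1), (3, 1, 1), (43, 1, 6)], [(11, 3, 3), (17, 1, 4), (23, 1, 4), (109, 1, 10)]),
  (21485397307, (349, 18), [(2, 2, 1), (3, 1, 1), (29, 1, 5)], [(11, 4, 3), (23, 1, 4), (2011, 1, 44)]),
  (22831924027, (809, 28), [(2, 3, 1), (101, 1, 10)], [(11, 3, 3), (23, 1, 4), (10141, 1, 100)]),
  (24178450747, (157, 12), [(2, 2, 1), (3, 1, 1), (13, 1, 3)], [(11, 3, 3), (23, 1, 4), (55337, 1, 235)]),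
  (25524977467, (83, 9), [(2, 1, 1), (41, 1, 6)], [(11, 3, 3), (23, 1, 4), (110503, 1, 332)]),
  (44376351547, (693283, 832), [(2, 1, 1), (3, 1, 1), (115547, 1, 339)], [(11, 3, 3), (23, 2, 4)]),
  (45722878267, (529979, 727), [(2, 1, 1), (193, 1, 13), (1373, 1, 37)], [(11, 3, 3), (23, 1, 4), (31, 1, 5)]),
  (47069404987, (79, 8), [(2, 1, 1), (3, 1, 1), (13, 1, 3)], [(11, 3, 3), (23, 1, 4), (214091, 1, 462)]),
  (65920779067, (2333, 48), [(2, 2, 1), (11, 1, 3), (53, 1, 7)], [(11, 4, 3), (13, 1, 3), (23, 1, 4), (71, 1, 8)]),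
  (67267305787, (24170789, 4916), [(2, 2, 1), (6042697, 1, 2458)], [(11, 3, 3), (23, 1, 4)]),
  (68613832507, (24654629, 4965), [(2, 2, 1), (19, 1, 4), (324403, 1, 569)], [(11, 3, 3), (23, 1, 4)]),
  (87465206587, (1013819, 1006), [(2, 1, 1), (13, 1, 3), (38993, 1, 197)], [(11, 3, 3), (23, 1, 4), (31, 1, 5)]),
  (88811733307, (1291, 35), [(2, 1, 1), (3, 1, 1), (5, 1, 2), (43, 1, 6)], [(11, 3, 3), (19, 1, 4), (23, 1, 4), (1301, 1, 36)]),
  (90158260027, (107, 10), [(2, 1, 1), (53, 1, 7)], [(11, 3, 3), (23, 1, 4), (302767, 1, 550)]),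
  (109009634107, (2543, 50), [(2, 1, 1), (31, 1, 5), (41, 1, 6)], [(11, 3, 3), (23, 1, 4), (73, 1, 8), (211, 1, 14)]),
  (110356160827, (3604879, 1898), [(2, 1, 1), (3, 3, 1), (241, 1, 15), (277, 1, 16)], [(11, 4, 3), (23, 1, 4)]),
  (111702687547, (40137509, 6335), [(2, 2, 1), (29, 1, 5), (346013, 1, 588)], [(11, 3, 3), (23, 1, 4)]),
  (130554061627, (46911269, 6849), [(2, 2, 1), (83, 1, 9), (101, 1, 10), (1399, 1, 37)], [(11, 3, 3), (23, 1, 4)]),
  (131900588347, (776969, 881), [(2, 3, 1), (17, 1, 4), (29, 1, 5), (197, 1, 14)], [(11, 3, 3), (23, 1, 4), (61, 1, 7)]),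
  (133247115067, (474049, 688), [(2, 6, 1), (3, 2, 1), (823, 1, 28)], [(11, 3, 3), (23, 1, 4), (101, 1, 10)]),
  (153445015867, (1451, 38), [(2, 1, 1), (5, 2, 2), (29, 1, 5)], [(11, 3, 3), (13, 1, 3), (23, 1, 4), (37, 1, 6), (79, 1, 8)]),
  (174989443387, (62877989, 7929), [(2, 2, 1), (719, 1, 26), (21863, 1, 147)], [(11, 3, 3), (23, 1, 4)])]

/-- One row. -/
def killRow (q : ℕ × (ℕ × ℕ) × List (ℕ × ℕ × ℕ) × List (ℕ × ℕ × ℕ)) : Bool :=
  decide (2 ≤ q.2.1.1) && decide (q.2.1.1 < (q.2.1.2 + 1) * (q.2.1.2 + 1)) &&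
    (List.range' 2 (q.2.1.2 - 1)).all (fun i => decide (q.2.1.1 ≤ i) || decide (q.2.1.1 % i ≠ 0)) &&
    Kill.killCheck q.1 q.2.1.1 q.2.2.1 q.2.2.2

theorem killData_ok : killData.all killRow = true := by decide +kernel

theorem killData_cover : (candList.all fun n => killData.any fun q => q.1 == n) = true := by decide +kernel

namespace Ctx

open Subgroup

universe u

variable {G : Type u} [Group G] [Finite G] {A : Type} [Group A] {J I R : Subgroup A}
  {z : G} {P : Subgroup G} (c : Ctx J I R z P)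
include c

theorem zclass_notMem (hs : c.Split) (F : FiveSeven J I R) (he : Extra J I R) : c.zclass ∉ candList := by
  intro h
  have h1 := List.all_eq_true.1 killData_cover _ h
  rw [List.any_eq_true] at h1
  obtain ⟨q, hq, e⟩ := h1
  have h2 := List.all_eq_true.1 killData_ok q hq
  simp only [killRow, Bool.and_eq_true, decide_eq_true_eq] at h2
  exact c.zclass_ne hs F he (Kill.prime_of_trial h2.1.1.1 h2.1.1.2 h2.1.2) h2.2 (beq_iff_eq.1 e).symm

end Ctx

end CfsgLib.Spor.JFourType
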