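import Cfsg.Agent.Lib.Spor.JFourType.Order.OuterCent

/-!
# The conjugates of `W` normalized by `z` and not containing it

They form two orbits of `H`, of 7920 and 44352 members; each is the conjugate through an outer involution that is
not conjugate to `z`, and its stabilizer covers the centralizer of the image of that involution.
-/

set_option autoImplicit false
set_option linter.style.haveILetI false

namespace CfsgLib.Spor.JFourType

open Subgroup Cfsg
open scoped Pointwise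

universe u v

/-- An orbit on subgroups and its stabilizer. -/
theorem ncard_orbit_subgroup {G : Type u} [Group G] [Finite G] (K V : Subgroup G) :
    {U : Subgroup G | ∃ h ∈ K, V.map (MulAut.conj h).toMonoidHom = U}.ncard *
      Nat.card ↥(K ⊓ normalizer (V : Set G) : Subgroup G) = Nat.card ↥K := by
  letI : MulAction ↥K (Subgroup G) :=
    MulAction.compHom (Subgroup G) ((MulAut.conj : G →* MulAut G).comp K.subtype)
  have hsm : ∀ k : ↥K, k • V = V.map (MulAut.conj (k : G)).toMonoidHom := fun k => rfl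
  have ho : MulAction.orbit ↥K V = {U : Subgroup G | ∃ h ∈ K, V.map (MulAut.conj h).toMonoidHom = U} := by
    ext U
    exact ⟨fun ⟨k, e⟩ => ⟨k, k.2, e⟩, fun ⟨k, hk, e⟩ => ⟨⟨k, hk⟩, e⟩⟩
  have e : MulAction.stabilizer ↥K V = (K ⊓ normalizer (V : Set G)).subgroupOf K := by
    ext k
    rw [MulAction.mem_stabilizer_iff, mem_subgroupOf, mem_inf, hsm, mem_normalizer_iff]
    constructor
    · intro h
      refine ⟨k.2, fun x => ?_⟩
      conv_rhs => rw [← h]
      rw [mem_map_equiv, MulAut.conj_symm_apply]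
      constructor <;> intro hx
      · rwa [show (k : G)⁻¹ * ((k : G) * x * (k : G)⁻¹) * k = x by group]
      · rwa [show (k : G)⁻¹ * ((k : G) * x * (k : G)⁻¹) * k = x by group] at hx
    · rintro ⟨-, h⟩
      ext x
      rw [mem_map_equiv, MulAut.conj_symm_apply, h,
        show (k : G) * ((k : G)⁻¹ * x * k) * (k : G)⁻¹ = x by group]
  have h := (MulAction.stabilizer ↥K V).card_mul_index
  rw [MulAction.index_stabilizer, ho, e, Nat.card_congr (subgroupOfEquivOfLe inf_le_left).toEquiv, mul_comm] at h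
  exact h

/-- The pairs of a free part of an involutive permutation. -/
theorem ncard_pairs {α : Type u} {β : Type v} [Finite α] (σ : Equiv.Perm α) (hσ : ∀ a, σ (σ a) = a) (F : α → β)
    (h1 : ∀ a, F (σ a) = F a) (h2 : ∀ a b, σ a ≠ a → σ b ≠ b → F a = F b → b = a ∨ b = σ a) :
    {a | σ a ≠ a}.ncard = 2 * (F '' {a | σ a ≠ a}).ncard := by
  classical
  haveI := Fintype.ofFinite α
  set M : Finset α := Finset.univ.filter fun a => σ a ≠ a with hM
  have e1 : {a | σ a ≠ a} = ↑M := by ext a; simp [hM]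
  rw [e1, ← Finset.coe_image, Set.ncard_coe_finset, Set.ncard_coe_finset, mul_comm]
  rw [Finset.card_eq_sum_card_image F M, Finset.sum_const_nat (m := 2)]
  intro y hy
  obtain ⟨a, ha, rfl⟩ := Finset.mem_image.1 hy
  simp only [hM, Finset.mem_filter, Finset.mem_univ, true_and] at ha
  rw [Finset.card_eq_two]
  refine ⟨a, σ a, Ne.symm ha, ?_⟩
  ext b
  simp only [hM, Finset.mem_filter, Finset.mem_univ, true_and, Finset.mem_insert, Finset.mem_singleton]
  constructor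
  · rintro ⟨hb, hF⟩
    exact h2 a b ha hb hF.symm
  · rintro (rfl | rfl)
    · exact ⟨ha, rfl⟩
    · exact ⟨fun e => ha (σ.injective e), h1 a⟩

namespace Ctx

variable {G : Type u} [Group G] [Finite G] {z : G} {P : Subgroup G} (c : Ctx J22 I22 R22 z P)
include c

omit [Finite G] in
/-- The conjugates of `W` normalized by `z` and not containing it. -/
def Fixers : Set (Subgroup G) :=
  {V | (∃ g : G, c.W.map (MulAut.conj g).toMonoidHom = V) ∧ z ∈ normalizer (V : Set G) ∧ z ∉ V}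

omit [Finite G] in
/-- The conjugate of `W` sent to it by `g`. -/
noncomputable def back (g : G) : Subgroup G := c.W.map (MulAut.conj g⁻¹).toMonoidHom

theorem mem_back {g v : G} : v ∈ c.back g ↔ g * v * g⁻¹ ∈ c.W := by
  rw [back, mem_map_equiv, MulAut.conj_symm_apply, inv_inv]

theorem mem_normalizer_back {g v : G} (h : g * v * g⁻¹ ∈ normalizer (c.W : Set G)) :
    v ∈ normalizer (c.back g : Set G) := by
  rw [mem_normalizer_iff]
  intro w
  rw [c.mem_back, c.mem_back, show g * (v * w * v⁻¹) * g⁻¹ = g * v * g⁻¹ * (g * w * g⁻¹) * (g * v * g⁻¹)⁻¹ by group]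
  exact mem_normalizer_iff.1 h _

theorem back_congr {g g' : G} (h : g' * g⁻¹ ∈ normalizer (c.W : Set G)) : c.back g' = c.back g := by
  ext v
  rw [c.mem_back, c.mem_back, mem_normalizer_iff.1 h (g * v * g⁻¹),
    show g' * g⁻¹ * (g * v * g⁻¹) * (g' * g⁻¹)⁻¹ = g' * v * g'⁻¹ by group]

theorem map_back (g h : G) : (c.back g).map (MulAut.conj h).toMonoidHom = c.back (g * h⁻¹) := by
  ext v
  rw [mem_map_equiv, MulAut.conj_symm_apply, c.mem_back, c.mem_back,
    show g * h⁻¹ * v * (g * h⁻¹)⁻¹ = g * (h⁻¹ * v * h) * g⁻¹ by group]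

/-- An involution that is not conjugate to `z` lies in one conjugate of `W`. -/
theorem side_unique (hs : c.Split) {g g' x : G} (h : g * x * g⁻¹ ∈ c.Tset) (h' : g' * x * g'⁻¹ ∈ c.Tset) :
    g' * g⁻¹ ∈ normalizer (c.W : Set G) := by
  obtain ⟨n, hn, e⟩ := c.trans_Tset hs h h'
  have hm : n⁻¹ * (g' * g⁻¹) ∈ normalizer (c.W : Set G) := by
    refine c.cent_Tset_le hs h (mem_centralizer_singleton_iff.2 ?_)
    calc n⁻¹ * (g' * g⁻¹) * (g * x * g⁻¹) = n⁻¹ * (g' * x * g'⁻¹) * (g' * g⁻¹) := by group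
      _ = n⁻¹ * (n * (g * x * g⁻¹) * n⁻¹) * (g' * g⁻¹) := by rw [e]
      _ = g * x * g⁻¹ * (n⁻¹ * (g' * g⁻¹)) := by group
  have := mul_mem hn hm
  rwa [mul_inv_cancel_left] at this

theorem mem_Tset_of_back {g x : G} (hx : c.OuterT x) (h : x ∈ c.back g) : g * x * g⁻¹ ∈ c.Tset :=
  ⟨c.mem_back.1 h, fun e => hx.ne_one c (conj_eq_one_iff.1 e),
    fun h' => hx.2.2.2 ((c.isConj_z_conj g x).1 h')⟩

theorem conj_OuterT {h x : G} (hh : h ∈ c.H) (hx : c.OuterT x) : c.OuterT (h * x * h⁻¹) :=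
  ⟨mul_mem (mul_mem hh hx.1) (inv_mem hh), by rw [conj_mul, hx.2.1, mul_one, mul_inv_cancel], fun hJ => hx.2.2.1 (by
    rw [c.im_conj hh hx.1] at hJ
    have := Subgroup.Normal.conj_mem inferInstance _ hJ (c.im h)⁻¹
    rwa [inv_inv, show (c.im h)⁻¹ * (c.im h * c.im x * (c.im h)⁻¹) * c.im h = c.im x by group] at this),
    fun hc => hx.2.2.2 ((c.isConj_z_conj h x).1 hc)⟩

/-- A subgroup moving `x` to itself or its product with `z` only. -/
theorem card_le_two_cent {x : G} (K : Subgroup G) (h : ∀ e ∈ K, e * x * e⁻¹ = x ∨ e * x * e⁻¹ = x * z) :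
    Nat.card ↥K ≤ 2 * Nat.card ↥(K ⊓ centralizer ({x} : Set G) : Subgroup G) := by
  rw [← Ctx.ncard_orbit_mul K x]
  refine Nat.mul_le_mul_right _ ((Set.ncard_le_ncard (t := {x, x * z}) ?_ (Set.toFinite _)).trans ?_)
  · rintro _ ⟨e, he, rfl⟩
    exact h e he
  · exact (Set.ncard_insert_le _ _).trans (by rw [Set.ncard_singleton])

/-- An inner involution commutes with an element of order four of the core. -/
theorem exists_root {x : G} (hx : x ∈ c.H) (hx2 : x * x = 1) (hJ : c.im x ∈ J22) :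
    ∃ e ∈ c.E, e * x = x * e ∧ e * e = z := by
  classical
  by_contra hcon
  push Not at hcon
  set S := c.E ⊓ centralizer ({x} : Set G) with hS
  have hsq : ∀ e ∈ S, e * e = 1 := fun e he =>
    (c.sq_E he.1).resolve_right fun h => hcon e he.1 (mem_centralizer_singleton_iff.1 he.2) h
  have hab : ∀ p ∈ S, ∀ q ∈ S, p * q = q * p := fun p hp q hq => by
    have h1 := inv_eq_of_mul_eq_one_left (hsq _ hp)
    have h2 := inv_eq_of_mul_eq_one_left (hsq _ hq)
    have h3 := inv_eq_of_mul_eq_one_left (hsq _ (mul_mem hp hq))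
    rw [mul_inv_rev, h1, h2] at h3
    exact h3.symm
  have hiso : Nat.card ↥(c.pvS S) ≤ 2 ^ 6 := by
    have h1 := c.card_perp (c.pvS S)
    have h3 := AddSubgroup.card_le_of_le (c.pvS_le_perp (S := S) hab)
    by_contra hcon'
    push Not at hcon'
    have := Nat.mul_le_mul hcon' (le_trans hcon' h3)
    omega
  have hS128 : Nat.card ↥S ≤ 128 := by
    have h := card_le_of_le (c.inf_E_le_lift S)
    have hSE : S ⊓ c.E = S := inf_eq_left.2 inf_le_left
    rw [c.card_lift, hSE] at h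
    exact h.trans (by omega)
  have hconj : ∀ e ∈ c.E, c.act x (c.pv e) = c.pv e → e * x * e⁻¹ = x ∨ e * x * e⁻¹ = x * z := by
    intro e he hfix
    have hce := c.conj_E hx he
    rw [← c.pv_conj hx he] at hfix
    rcases (c.pv_eq_iff hce he).1 hfix with h | h
    · left; exact mul_inv_eq_iff_eq_mul.2 (mul_inv_eq_iff_eq_mul.1 h).symm
    · right
      calc e * x * e⁻¹ = z * (z * e) * x * e⁻¹ := by rw [← mul_assoc z z e, c.zz, one_mul]
        _ = z * (x * e * x⁻¹) * x * e⁻¹ := by rw [h]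
        _ = z * x := by group
        _ = x * z := (c.comm_z hx).symm
  by_cases h1 : c.im x = 1
  · have hxE : x ∈ c.E := c.mem_E_of_im hx h1 (a := 1) (by rw [pow_one, pow_two, hx2])
    have h := c.card_le_two_cent (x := x) c.E fun e he => hconj e he (by
      rw [(c.act_eq_one hx).2 hxE]; rfl)
    rw [← hS, c.card_E] at h
    omega
  · have ho : orderOf (c.im x) = 2 :=
      orderOf_eq_prime (by rw [← c.im_pow hx, pow_two, hx2, c.im_one]) h1
    have h256 := c.card_fix_inner ((c.mem_M_iff_im hx).2 hJ) ho (a := 1) (by rw [pow_one, pow_two, hx2])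
    have h := c.card_le_two_cent (x := x) (c.lift (c.fix {x})) fun e he => hconj e he.1 (c.mem_fix_singleton.1 he.2)
    rw [c.card_lift, h256] at h
    have h2 := card_le_of_le (inf_le_inf_right (centralizer ({x} : Set G)) (c.lift_le (c.fix {x})))
    rw [← hS] at h2
    omega

/-- An element of `W` through an exchanged pair of stars gives an outer involution. -/
theorem outer_of_swap (hs : c.Split) {g : G} (hy : g * z * g⁻¹ ∈ normalizer (c.W : Set G)) {p : c.Star}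
    (hp : c.sp hs extra22 (g * z * g⁻¹) p ≠ p) :
    c.OuterT (g⁻¹ * c.tau hs p (c.sp hs extra22 (g * z * g⁻¹) p) * g) := by
  set y := g * z * g⁻¹ with hydef
  set q := c.sp hs extra22 y p with hq
  set x := g⁻¹ * c.tau hs p q * g with hx
  have hyq : c.sp hs extra22 y q = p := by
    rw [hq, ← c.sp_mul hs extra22 hy hy, hydef, conj_mul, c.zz, mul_one, mul_inv_cancel, c.sp_one]; rfl
  have hcomm : y * c.tau hs p q * y⁻¹ = c.tau hs p q := by
    rw [← c.sp_tau hs extra22 hy, ← hq, hyq, c.tau_comm]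
  have hT := c.tau_Tset hs (Ne.symm hp)
  have hxH : x ∈ c.H := mem_centralizer_singleton_iff.2 ((MulAut.conj g).injective (by
    simp only [map_mul, MulAut.conj_apply]
    rw [← hydef, hx, show g * (g⁻¹ * c.tau hs p q * g) * g⁻¹ = c.tau hs p q by group]
    exact (mul_inv_eq_iff_eq_mul.1 hcomm).symm))
  have hx2 : x * x = 1 := by
    rw [hx, show g⁻¹ * c.tau hs p q * g * (g⁻¹ * c.tau hs p q * g) = g⁻¹ * (c.tau hs p q * c.tau hs p q) * g by group,
      c.W_sq hT.1, mul_one, inv_mul_cancel]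
  have hgx : g * x * g⁻¹ = c.tau hs p q := by rw [hx]; group
  refine ⟨hxH, hx2, fun hJ => ?_, fun hc => hT.2.2 (hgx ▸ (c.isConj_z_conj g x).2 hc)⟩
  obtain ⟨e, he, hex, hee⟩ := c.exists_root hxH hx2 hJ
  have hf := c.mem_cent_side hgx hex
  have hfN := c.cent_Tset_le hs hT hf
  have hff : g * e * g⁻¹ * (g * e * g⁻¹) = y := by rw [conj_mul, hee]
  refine hp ?_
  show c.sp hs extra22 y p = p
  rw [← hff, c.sp_mul hs extra22 hfN hfN]
  rcases c.sp_pair hs extra22 hfN (Ne.symm hp) (mem_centralizer_singleton_iff.1 hf) with ⟨h1, h2⟩ | ⟨h1, h2⟩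
  · rw [h1, h1]
  · rw [h1, h2]

/-- Members of a class are conjugate in `H`. -/
theorem conj_of_class (hs : c.Split) {x x' : G} (hx : c.OuterT x) (hx' : c.OuterT x')
    (hz : (∃ h ∈ c.H, h * x * h⁻¹ = x * z) ∨ IsConj z (x * z)) (hcl : IsConj (c.im x) (c.im x')) :
    ∃ h ∈ c.H, h * x * h⁻¹ = x' := by
  obtain ⟨k, hk⟩ := isConj_iff.1 hcl
  obtain ⟨w, hw, rfl⟩ := c.exists_H_im k
  have ht : w⁻¹ * x' * w ∈ c.invFib (c.im x) := by
    refine ⟨mul_mem (mul_mem (inv_mem hw) hx'.1) hw, ?_, ?_⟩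
    · rw [show w⁻¹ * x' * w * (w⁻¹ * x' * w) = w⁻¹ * (x' * x') * w by group, hx'.2.1, mul_one, inv_mul_cancel]
    · rw [c.im_mul (mul_mem (inv_mem hw) hx'.1) hw, c.im_mul (inv_mem hw) hx'.1, c.im_inv hw, ← hk]
      group
  obtain ⟨h, hh, e⟩ := (c.outer_fib hx.1 hx.notMem_M hx.2.1).2 _ ht
  rcases e with e | e
  · exact ⟨w * h⁻¹, mul_mem hw (inv_mem hh), by rw [← e]; group⟩
  rcases hz with ⟨v, hv, ev⟩ | hz
  · refine ⟨w * h⁻¹ * v, mul_mem (mul_mem hw (inv_mem hh)) hv, ?_⟩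
    rw [show w * h⁻¹ * v * x * (w * h⁻¹ * v)⁻¹ = w * h⁻¹ * (v * x * v⁻¹) * h * w⁻¹ by group, ev, ← e]
    group
  · exfalso
    rw [← e, show h * (w⁻¹ * x' * w) * h⁻¹ = (h * w⁻¹) * x' * (h * w⁻¹)⁻¹ by group, c.isConj_z_conj] at hz
    exact hx'.2.2.2 hz

/-- The orbit of the conjugate of `W` through `x`. -/
theorem orbit_back (hs : c.Split) {x g : G} (hx : c.OuterT x) (hg : g * x * g⁻¹ ∈ c.Tset) {d : ℕ}
    (hd : {x' | (∃ h ∈ c.H, h * x * h⁻¹ = x') ∧ x' ∈ c.back g}.ncard = d) :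
    {U : Subgroup G | ∃ h ∈ c.H, (c.back g).map (MulAut.conj h).toMonoidHom = U}.ncard *
      (d * Nat.card ↥(c.H ⊓ centralizer ({x} : Set G) : Subgroup G)) = Nat.card ↥c.H := by
  set K := c.H ⊓ normalizer (c.back g : Set G) with hK
  have h1 := ncard_orbit_subgroup c.H (c.back g)
  have h2 := Ctx.ncard_orbit_mul K x
  have hC : K ⊓ centralizer ({x} : Set G) = c.H ⊓ centralizer ({x} : Set G) := by
    refine le_antisymm (inf_le_inf_right _ inf_le_left) fun w hw => ⟨⟨hw.1, c.mem_normalizer_back ?_⟩, hw.2⟩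
    exact c.cent_Tset_le hs hg (c.mem_cent_side rfl (mem_centralizer_singleton_iff.1 hw.2))
  have hO : {y | ∃ k ∈ K, k * x * k⁻¹ = y} = {x' | (∃ h ∈ c.H, h * x * h⁻¹ = x') ∧ x' ∈ c.back g} := by
    ext y
    constructor
    · rintro ⟨k, hk, rfl⟩
      exact ⟨⟨k, hk.1, rfl⟩, (mem_normalizer_iff.1 hk.2 x).1 (c.mem_back.2 hg.1)⟩
    · rintro ⟨⟨h, hh, rfl⟩, hy⟩
      refine ⟨h, ⟨hh, c.mem_normalizer_back ?_⟩, rfl⟩
      have ht := c.mem_Tset_of_back (c.conj_OuterT hh hx) hy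
      rw [show g * (h * x * h⁻¹) * g⁻¹ = g * h * x * (g * h)⁻¹ by group] at ht
      exact c.side_unique hs hg ht
  rw [hO, hd, hC] at h2
  rwa [← hK, ← h2] at h1

/-- The members of the orbit in the conjugate of `W`. -/
theorem members_back (hs : c.Split) {x g : G} (hx : c.OuterT x) (hg : g * x * g⁻¹ ∈ c.Tset) {n : ℕ}
    (hz : (∃ h ∈ c.H, h * x * h⁻¹ = x * z) ∨ IsConj z (x * z))
    (hdata : ∀ x', c.OuterT x' → IsConj (c.im x) (c.im x') → ∀ (g' : G) (a b : c.Star), a ≠ b →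
      g' * x' * g'⁻¹ = c.tau hs a b →
      c.sp hs extra22 (g' * z * g'⁻¹) a = b ∧ {d | c.sp hs extra22 (g' * z * g'⁻¹) d = d}.ncard = n)
    (hclass : ∀ x', c.OuterT x' → (∀ (g' : G) (a b : c.Star), a ≠ b → g' * x' * g'⁻¹ = c.tau hs a b →
      {d | c.sp hs extra22 (g' * z * g'⁻¹) d = d}.ncard = n) → IsConj (c.im x) (c.im x')) :
    2 * {x' | (∃ h ∈ c.H, h * x * h⁻¹ = x') ∧ x' ∈ c.back g}.ncard = 24 - n := by
  classical
  obtain ⟨a, b, hab, e⟩ := c.exists_tau hs hg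
  set y := g * z * g⁻¹ with hydef
  have hy : y ∈ normalizer (c.W : Set G) := c.cent_Tset_le hs hg (c.mem_cent_side rfl (c.comm_z hx.1).symm)
  set σ := c.sp hs extra22 y with hσ
  have hσσ : ∀ d, σ (σ d) = d := fun d => by
    rw [hσ, ← c.sp_mul hs extra22 hy hy, hydef, conj_mul, c.zz, mul_one, mul_inv_cancel, c.sp_one]; rfl
  have hn : {d | σ d = d}.ncard = n := (hdata x hx (IsConj.refl _) g a b hab e.symm).2
  set F : c.Star → G := fun p => g⁻¹ * c.tau hs p (σ p) * g with hF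
  have himg : {x' | (∃ h ∈ c.H, h * x * h⁻¹ = x') ∧ x' ∈ c.back g} = F '' {p | σ p ≠ p} := by
    ext x'
    constructor
    · rintro ⟨⟨h, hh, rfl⟩, hm⟩
      have hx' := c.conj_OuterT hh hx
      obtain ⟨p, q, hpq, e'⟩ := c.exists_tau hs (c.mem_Tset_of_back hx' hm)
      have hpq' : σ p = q := (hdata _ hx' (isConj_iff.2 ⟨c.im h, (c.im_conj hh hx.1).symm⟩) g p q hpq e'.symm).1
      refine ⟨p, fun hh' => hpq (hh'.symm.trans hpq'), ?_⟩
      rw [hF]
      simp only [hpq', e']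
      group
    · rintro ⟨p, hp, rfl⟩
      have hx' : c.OuterT (F p) := c.outer_of_swap hs hy hp
      have hgx : g * F p * g⁻¹ = c.tau hs p (σ p) := by rw [hF]; group
      refine ⟨c.conj_of_class hs hx hx' hz (hclass _ hx' fun g' a' b' _ e' => ?_),
        c.mem_back.2 (hgx ▸ c.tau_W hs _ _)⟩
      -- another coordinate system
      have hn' := c.side_unique hs (x := F p) (g := g) (g' := g') (hgx ▸ c.tau_Tset hs (Ne.symm hp))
        (e' ▸ c.tau_Tset hs (by assumption))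
      set m := g' * g⁻¹ with hm
      have hy' : g' * z * g'⁻¹ = m * y * m⁻¹ := by rw [hm, hydef]; group
      rw [← hn, ← Set.ncard_image_of_injective {d | σ d = d} (c.sp hs extra22 m).injective]
      congr 1
      ext d
      have hsm : ∀ d, c.sp hs extra22 (g' * z * g'⁻¹) (c.sp hs extra22 m d) = c.sp hs extra22 m (σ d) := fun d => by
        rw [hσ, ← c.sp_mul hs extra22 hn' hy, hy', ← c.sp_mul hs extra22 (mul_mem (mul_mem hn' hy) (inv_mem hn')) hn',
          inv_mul_cancel_right]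
      constructor
      · intro hd
        obtain ⟨d', rfl⟩ := (c.sp hs extra22 m).surjective d
        refine ⟨d', (c.sp hs extra22 m).injective ?_, rfl⟩
        rw [← hsm]; exact hd
      · rintro ⟨d', hd', rfl⟩
        show c.sp hs extra22 (g' * z * g'⁻¹) (c.sp hs extra22 m d') = c.sp hs extra22 m d'
        rw [hsm, show σ d' = d' from hd']
  have h2 := ncard_pairs σ hσσ F (fun p => by simp only [hF, hσσ, c.tau_comm hs (σ p) p]) fun p q hp hq h => by
    simp only [hF, mul_left_inj, mul_right_inj] at h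
    rcases c.tau_inj hs (Ne.symm hp) (Ne.symm hq) h with ⟨h1, -⟩ | ⟨-, h2⟩
    exacts [Or.inl h1.symm, Or.inr h2.symm]
  rw [himg, ← h2, ← hn, ← c.card_Star hs, ← Set.ncard_compl]
  congr 1

/-- The two orbits. -/
theorem fixer_orbits (hs : c.Split) :
    ∃ (Vs Vl : Subgroup G) (a b : ↥Gam), Vs ∈ c.Fixers ∧ Vl ∈ c.Fixers ∧
      b ∉ J22 ∧ b * b = 1 ∧ {x | IsConj b x}.ncard = 330 ∧ a ∉ J22 ∧ a * a = 1 ∧
      {x | IsConj a x}.ncard = 1386 ∧
      (∀ V ∈ c.Fixers, ∃ h ∈ c.H, Vs.map (MulAut.conj h).toMonoidHom = V ∨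
        Vl.map (MulAut.conj h).toMonoidHom = V) ∧
      {V : Subgroup G | ∃ h ∈ c.H, Vs.map (MulAut.conj h).toMonoidHom = V}.ncard = 7920 ∧
      {V : Subgroup G | ∃ h ∈ c.H, Vl.map (MulAut.conj h).toMonoidHom = V}.ncard = 44352 ∧
      (∀ k, k * b = b * k → ∃ h ∈ c.H, c.im h = k ∧ h ∈ normalizer (Vs : Set G)) ∧
      (∀ k, k * a = a * k → ∃ h ∈ c.H, c.im h = k ∧ h ∈ normalizer (Vl : Set G)) := by
  classical
  have hH : Nat.card ↥c.H = 21799895040 := by rw [c.card_H_local]; norm_num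
  obtain ⟨a, b, ha, ha2, hb, hb2, hca, hcb, hout, hnzz, hpin⟩ := c.exists_pin hs
  have hcent : ∀ s : ↥Gam, s ∉ J22 → s * s = 1 →
      (IsConj a s → Nat.card ↥(centralizer ({s} : Set ↥Gam)) = 640) ∧
      (IsConj b s → Nat.card ↥(centralizer ({s} : Set ↥Gam)) = 2688) := by
    intro s hsJ hs2
    have hs1 : s ≠ 1 := fun h => hsJ (h ▸ one_mem _)
    have key : ∀ r, IsConj r s → {x | IsConj s x}.ncard = {x | IsConj r x}.ncard := fun r h => by
      congr 1
      ext x; exact ⟨fun hx => h.trans hx, fun hx => h.symm.trans hx⟩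
    rcases c.gam_centralizer hs hs2 hs1 with ⟨hJ, -⟩ | ⟨-, hn, hc⟩ | ⟨-, hn, hc⟩
    · exact absurd hJ hsJ
    · exact ⟨fun _ => hc, fun h => by rw [key b h, hcb] at hn; norm_num at hn⟩
    · exact ⟨fun h => by rw [key a h, hca] at hn; norm_num at hn, fun _ => hc⟩
  -- over the class of 1386
  obtain ⟨xa, hxa, hxai⟩ : ∃ x, c.OuterT x ∧ c.im x = a := by
    by_contra hcon
    push Not at hcon
    obtain ⟨x, g, hx, hx2, hxi, -, -⟩ := c.exists_outer_in_core hs extra22 ha ha2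
    refine hnzz ?_
    have hall : ∀ t ∈ c.invFib a, c.TyZZ t := fun t ht => by
      have h1 : ∀ u ∈ c.invFib a, IsConj z u := fun u hu => by
        by_contra hu'
        exact hcon u ⟨hu.1, hu.2.1, hu.2.2 ▸ ha, hu'⟩ hu.2.2
      exact ⟨h1 t ht, h1 _ (invFib_mul_z ht)⟩
    rw [nZZ, show {x | x ∈ c.invFib a ∧ c.TyZZ x} = c.invFib a from
      Set.ext fun t => ⟨And.left, fun h => ⟨h, hall t h⟩⟩, ← hxi]
    exact (c.outer_fib hx (fun h => ha (hxi ▸ (c.mem_M_iff_im hx).1 h)) hx2).1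
  have dataA : ∀ x, c.OuterT x → IsConj a (c.im x) → _ := fun x hx h =>
    c.five_data hs hx ((hcent _ hx.2.2.1 (by rw [← c.im_mul hx.1 hx.1, hx.2.1, c.im_one])).1 h)
  obtain ⟨hCa, hza, hka, -⟩ := dataA xa hxa (hxai ▸ IsConj.refl _)
  have hTTa : c.nTT a = 384 := by
    obtain ⟨h, hh, eh⟩ := hza
    have hxz : ¬ IsConj z (xa * z) := fun h' => hxa.2.2.2 ((c.isConj_z_conj h xa).1 (eh ▸ h'))
    have hzz : ∀ t : G, t * z * z = t := fun t => by rw [mul_assoc, c.zz, mul_one]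
    rw [nTT, show {t | t ∈ c.invFib a ∧ c.TyTT t} = c.invFib (c.im xa) from ?_]
    · exact (c.outer_fib hxa.1 hxa.notMem_M hxa.2.1).1
    rw [hxai]
    ext t
    refine ⟨And.left, fun ht => ⟨ht, ?_⟩⟩
    obtain ⟨w, hw, e⟩ := (c.outer_fib hxa.1 hxa.notMem_M hxa.2.1).2 t (hxai ▸ ht)
    rcases e with e | e
    · exact ⟨fun h' => hxa.2.2.2 (e ▸ (c.isConj_z_conj w t).2 h'),
        fun h' => hxz (by rw [← e, conj_mul_z hw]; exact (c.isConj_z_conj w _).2 h')⟩
    · exact ⟨fun h' => hxz (e ▸ (c.isConj_z_conj w t).2 h'),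
        fun h' => hxa.2.2.2 (by rw [← hzz xa, ← e, conj_mul_z hw]; exact (c.isConj_z_conj w _).2 h')⟩
  -- over the class of 330
  have hztb := hpin hTTa
  obtain ⟨xb, hxb, hxbi, hzb⟩ : ∃ x, c.OuterT x ∧ c.im x = b ∧ IsConj z (x * z) := by
    obtain ⟨t, ht, htc, htn⟩ : {x | x ∈ c.invFib b ∧ c.TyZT x}.Nonempty :=
      Set.nonempty_of_ncard_ne_zero (by rw [← nZT, hztb]; norm_num)
    have h := invFib_mul_z ht
    exact ⟨t * z, ⟨h.1, h.2.1, h.2.2 ▸ hb, htn⟩, h.2.2, by rwa [mul_assoc, c.zz, mul_one]⟩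
  have dataB : ∀ x, c.OuterT x → IsConj b (c.im x) → _ := fun x hx h =>
    c.seven_data hs hx ((hcent _ hx.2.2.1 (by rw [← c.im_mul hx.1 hx.1, hx.2.1, c.im_one])).2 h) (by
      obtain ⟨k, hk⟩ := isConj_iff.1 h
      obtain ⟨w, hw, rfl⟩ := c.exists_H_im k
      rw [← hk, nZT_conj hw, hztb])
  obtain ⟨hCb, -, hkb, -⟩ := dataB xb hxb (hxbi ▸ IsConj.refl _)
  obtain ⟨ga, hga⟩ := c.exists_conj_Tset hs extra22
    (orderOf_eq_prime (by rw [pow_two, hxa.2.1]) hxa.ne_one) hxa.2.2.2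
  obtain ⟨gb, hgb⟩ := c.exists_conj_Tset hs extra22
    (orderOf_eq_prime (by rw [pow_two, hxb.2.1]) hxb.ne_one) hxb.2.2.2
  have hfixer : ∀ {x g : G}, c.OuterT x → g * x * g⁻¹ ∈ c.Tset → c.back g ∈ c.Fixers := fun {x g} hx hg =>
    ⟨⟨g⁻¹, rfl⟩, c.mem_normalizer_back (c.cent_Tset_le hs hg (c.mem_cent_side rfl (c.comm_z hx.1).symm)),
      fun h => c.side_notMem hs hx hg.1 (c.mem_back.1 h)⟩
  have hd : ∀ x', c.OuterT x' → IsConj a (c.im x') ∨ IsConj b (c.im x') := fun x' hx' =>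
    hout _ hx'.2.2.1 (by rw [← c.im_mul hx'.1 hx'.1, hx'.2.1, c.im_one])
  have hda := c.members_back hs hxa hga (n := 0) (Or.inl hza)
    (fun x' hx' h g' p q hpq e => (dataA x' hx' ((hxai ▸ h : IsConj a (c.im x')))).2.2.2 g' p q hpq e)
    fun x' hx' hfix => by
      rw [hxai]
      refine (hd x' hx').resolve_right fun h => ?_
      obtain ⟨g', p, q, hpq, e, -⟩ := c.exists_side hs hx'.1 hx'.2.1 hx'.ne_one hx'.2.2.2
      have h8 := ((dataB x' hx' h).2.2.2 g' p q hpq e).2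
      rw [hfix g' p q hpq e] at h8
      norm_num at h8
  have hdb := c.members_back hs hxb hgb (n := 8) (Or.inr hzb)
    (fun x' hx' h g' p q hpq e => (dataB x' hx' ((hxbi ▸ h : IsConj b (c.im x')))).2.2.2 g' p q hpq e)
    fun x' hx' hfix => by
      rw [hxbi]
      refine (hd x' hx').resolve_left fun h => ?_
      obtain ⟨g', p, q, hpq, e, -⟩ := c.exists_side hs hx'.1 hx'.2.1 hx'.ne_one hx'.2.2.2
      have h0 := ((dataA x' hx' h).2.2.2 g' p q hpq e).2
      rw [hfix g' p q hpq e] at h0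
      norm_num at h0
  have ea := c.orbit_back hs hxa hga (d := 12) (by omega)
  have eb := c.orbit_back hs hxb hgb (d := 8) (by omega)
  rw [hCa, hH] at ea
  rw [hCb, hH] at eb
  refine ⟨c.back gb, c.back ga, a, b, hfixer hxb hgb, hfixer hxa hga, hb, hb2, hcb, ha, ha2, hca, ?_, by omega,
    by omega, ?_, ?_⟩
  · rintro V ⟨⟨g0, rfl⟩, hzN, hzV⟩
    have hback : c.W.map (MulAut.conj g0).toMonoidHom = c.back g0⁻¹ := by rw [back, inv_inv]
    rw [hback] at hzN hzV ⊢
    set g := g0⁻¹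
    have hy : g * z * g⁻¹ ∈ normalizer (c.W : Set G) := by
      refine mem_normalizer_fintype fun w hw => ?_
      have h1 : g⁻¹ * w * g ∈ c.back g := c.mem_back.2 (by simpa [mul_assoc] using hw)
      have h2 := c.mem_back.1 ((mem_normalizer_iff.1 hzN _).1 h1)
      rwa [show g * (z * (g⁻¹ * w * g) * z⁻¹) * g⁻¹ = g * z * g⁻¹ * w * (g * z * g⁻¹)⁻¹ by group] at h2
    obtain ⟨p, hp⟩ := c.exists_moved hs extra22 hy fun h => hzV (c.mem_back.2 h)
    have hx' := c.outer_of_swap hs hy hp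
    have hgx : g * (g⁻¹ * c.tau hs p (c.sp hs extra22 (g * z * g⁻¹) p) * g) * g⁻¹ ∈ c.Tset := by
      rw [show g * (g⁻¹ * c.tau hs p (c.sp hs extra22 (g * z * g⁻¹) p) * g) * g⁻¹ =
        c.tau hs p (c.sp hs extra22 (g * z * g⁻¹) p) by group]
      exact c.tau_Tset hs (Ne.symm hp)
    have key : ∀ {x gx : G}, c.OuterT x → gx * x * gx⁻¹ ∈ c.Tset → ∀ h ∈ c.H,
        h * x * h⁻¹ = g⁻¹ * c.tau hs p (c.sp hs extra22 (g * z * g⁻¹) p) * g →
        (c.back gx).map (MulAut.conj h).toMonoidHom = c.back g := by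
      intro x gx hx hgx' h hh e
      rw [c.map_back]
      refine c.back_congr (c.side_unique hs hgx (g' := gx * h⁻¹) ?_)
      rw [← e, show gx * h⁻¹ * (h * x * h⁻¹) * (gx * h⁻¹)⁻¹ = gx * x * gx⁻¹ by group]
      exact hgx'
    rcases hd _ hx' with h | h
    · obtain ⟨w, hw, e⟩ := c.conj_of_class hs hxa hx' (Or.inl hza) (hxai ▸ h)
      exact ⟨w, hw, Or.inr (key hxa hga w hw e)⟩
    · obtain ⟨w, hw, e⟩ := c.conj_of_class hs hxb hx' (Or.inr hzb) (hxbi ▸ h)
      exact ⟨w, hw, Or.inl (key hxb hgb w hw e)⟩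
  · intro k hk
    obtain ⟨w, hw, hwx, hwi⟩ := hkb k (by rw [hxbi]; exact hk)
    exact ⟨w, hw, hwi, c.mem_normalizer_back (c.cent_Tset_le hs hgb (c.mem_cent_side rfl hwx))⟩
  · intro k hk
    obtain ⟨w, hw, hwx, hwi⟩ := hka k (by rw [hxai]; exact hk)
    exact ⟨w, hw, hwi, c.mem_normalizer_back (c.cent_Tset_le hs hga (c.mem_cent_side rfl hwx))⟩

end Ctx

end CfsgLib.Spor.JFourType
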