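import Cfsg.Agent.Lib.Spor.JFourType.Order.CensusDef
import Cfsg.Agent.Lib.Spor.JFourType.Order.Singular
import Cfsg.Agent.Lib.Spor.JFourType.InvolInner

/-!
# The census over an inner involution

Over `i` in `I` there are 128 involutions in `W` (96 whose type is `zz`, 32 of which one in each pair is conjugate
to `z`) and 192 outside, all of one type.
-/

set_option autoImplicit false
set_option linter.style.haveILetI false

namespace CfsgLib.Spor.JFourType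

open Subgroup

universe u

/-- A set invariant under translation by a subgroup has a multiple of its order. -/
theorem card_dvd_ncard_invariant {V : Type*} [AddCommGroup V] [Finite V] (K : AddSubgroup V) (S : Set V)
    (h : ∀ v ∈ S, ∀ k ∈ K, v + k ∈ S) : Nat.card ↥K ∣ S.ncard := by
  classical
  let f : V → V ⧸ K := QuotientAddGroup.mk
  have e : S = f ⁻¹' (f '' S) := by
    refine Set.Subset.antisymm (Set.subset_preimage_image f S) ?_
    rintro v ⟨w, hw, hwv⟩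
    have hk : -w + v ∈ K := QuotientAddGroup.eq.1 hwv
    have := h w hw _ hk
    rwa [add_neg_cancel_left] at this
  rw [e, ← Nat.card_coe_set_eq, Nat.card_congr (QuotientAddGroup.preimageMkEquivAddSubgroupProdSet K (f '' S)),
    Nat.card_prod]
  exact dvd_mul_right _ _

namespace Ctx

variable {G : Type u} [Group G] [Finite G] {A : Type} [Group A] {J I R : Subgroup A}
  {z : G} {P : Subgroup G} (c : Ctx J I R z P)
include c

theorem zero_or_one (x : ZMod 2) : x = 0 ∨ x = 1 := by revert x; decide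

/-- The elements of the core over the singular part of a fixed space. -/
def Ei (i : ↥I) : Set G := {e | e ∈ c.E ∧ c.pv e ∈ c.Fx i ∧ c.Sf (c.pv e) = 0}

theorem invFib_inner (i : ↥I) : c.invFib (i : A) = (fun e => e * c.lv i) '' c.Ei i := by
  ext x
  constructor
  · rintro ⟨hx, hx2, hxi⟩
    obtain ⟨e, he, rfl, heF, he2⟩ := c.inner_decomp hx hx2 hxi
    exact ⟨e, ⟨he, heF, (c.Sf_sq he).2 he2⟩, rfl⟩
  · rintro ⟨e, ⟨he, heF, heS⟩, rfl⟩
    refine ⟨mul_mem (c.E_le he) (c.lv_H i), ?_, by rw [c.im_mul (c.E_le he) (c.lv_H i), c.im_E he, c.im_lv, one_mul]⟩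
    calc e * c.lv i * (e * c.lv i) = e * (c.lv i * e) * c.lv i := by group
      _ = e * (e * c.lv i) * c.lv i := by rw [c.lift_comm_of_Fx he heF]
      _ = (e * e) * (c.lv i * c.lv i) := by group
      _ = 1 := by rw [(c.Sf_sq he).1 heS, c.L0_elementary (c.lv_mem i), one_mul]

theorem ncard_fib_part (i : ↥I) (p : G → Prop) (S : Set c.Vs) (hS : ∀ v ∈ S, v ∈ c.Fx i ∧ c.Sf v = 0)
    (h : ∀ e ∈ c.Ei i, p (e * c.lv i) ↔ c.pv e ∈ S) :
    {x | x ∈ c.invFib (i : A) ∧ p x}.ncard = 2 * S.ncard := by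
  rw [← c.ncard_over S, ← Set.ncard_image_of_injective {e | e ∈ c.E ∧ c.pv e ∈ S} (mul_left_injective (c.lv i))]
  congr 1
  ext x
  constructor
  · rintro ⟨hx, hpx⟩
    rw [c.invFib_inner i] at hx
    obtain ⟨e, he, rfl⟩ := hx
    exact ⟨e, ⟨he.1, (h e he).1 hpx⟩, rfl⟩
  · rintro ⟨e, ⟨he, hv⟩, rfl⟩
    have hei : e ∈ c.Ei i := ⟨he, hS _ hv⟩
    exact ⟨(c.invFib_inner i).ge ⟨e, hei, rfl⟩, (h e hei).2 hv⟩

theorem four_inner {i : ↥I} {q : G} (hq : q ∈ c.Ei i) :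
    c.four (q * c.lv i) = 2 * {v | v ∈ c.Fx i ∧ c.Bf v (c.pv q) = 0 ∧ c.Sf v = 1}.ncard := by
  obtain ⟨hqE, hqF, -⟩ := hq
  rw [four, ← c.ncard_over]
  congr 1
  ext e
  simp only [Set.mem_setOf_eq]
  refine and_congr_right fun he => ?_
  have hl := c.lift_comm_of_Fx hqE hqF
  constructor
  · rintro ⟨h4, hc⟩
    have hDF : c.pv e ∈ c.Fx i := by
      refine c.D_eq_zero.1 ?_
      obtain ⟨hE, hpv⟩ := c.pv_E_lift he i
      have h1 : e * c.lv i * e⁻¹ * c.lv i = (e * q * e⁻¹)⁻¹ * q := by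
        have h2 : e * (q * c.lv i) * e⁻¹ = q * c.lv i := by rw [hc, mul_inv_cancel_right]
        calc e * c.lv i * e⁻¹ * c.lv i = (e * q * e⁻¹)⁻¹ * (e * (q * c.lv i) * e⁻¹) * c.lv i := by group
          _ = (e * q * e⁻¹)⁻¹ * (q * c.lv i) * c.lv i := by rw [h2]
          _ = _ := by rw [mul_assoc, mul_assoc q, c.L0_elementary (c.lv_mem i), mul_one]
      rw [← hpv, h1, c.pv_mul (inv_mem (c.conj_E (c.E_le he) hqE)) hqE, c.pv_inv (c.conj_E (c.E_le he) hqE),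
        c.pv_conj (c.E_le he) hqE, (c.act_eq_one (c.E_le he)).2 he]
      exact c.two_V _
    have hle := c.lift_comm_of_Fx he hDF
    refine ⟨hDF, (c.Bf_comm he hqE).2 ?_, (c.zero_or_one _).resolve_left fun h => h4 ((c.Sf_sq he).1 h)⟩
    refine mul_right_cancel (b := c.lv i) ?_
    calc e * q * c.lv i = e * (q * c.lv i) := mul_assoc _ _ _
      _ = q * c.lv i * e := hc
      _ = q * (c.lv i * e) := mul_assoc _ _ _
      _ = q * e * c.lv i := by rw [hle, mul_assoc]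
  · rintro ⟨hF, hB, hS⟩
    refine ⟨fun h => ?_, ?_⟩
    · rw [(c.Sf_sq he).2 h] at hS; exact absurd hS (by decide)
    · calc e * (q * c.lv i) = e * q * c.lv i := (mul_assoc _ _ _).symm
        _ = q * e * c.lv i := by rw [(c.Bf_comm he hqE).1 hB]
        _ = q * (c.lv i * e) := by rw [mul_assoc, c.lift_comm_of_Fx he hF]
        _ = q * c.lv i * e := (mul_assoc _ _ _).symm

/-- Half of a coset of `U` outside it has square zero. -/
theorem ncard_coset_half {v : c.Vs} (hv : v ∉ c.U) (s : ZMod 2) :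
    {w | w ∈ c.U ∧ c.Sf (v + w) = s}.ncard = 32 := by
  obtain ⟨u, hu, hvu⟩ : ∃ u ∈ c.U, c.Bf v u ≠ 0 := by
    by_contra hcon
    push Not at hcon
    exact hv (c.perp_U.le (c.mem_perp.2 fun u hu => by rw [c.Bf_symm]; exact hcon u hu))
  have h := ncard_half c.two_V (c.U : Set c.Vs) (fun w => c.Sf (v + w)) u (fun w hw => add_mem hw hu)
    (fun w hw => by
      show c.Sf (v + (w + u)) = c.Sf (v + w) + 1
      rw [c.Sf_add, c.Sf_add v w, c.Bf_add_right, c.Sf_U (add_mem hw hu), c.Sf_U hw,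
        (c.zero_or_one _).resolve_left hvu]
      ring) s
  rw [← Nat.card_coe_set_eq (c.U : Set c.Vs), SetLike.coe_sort_coe, c.card_U] at h
  show {w | w ∈ (c.U : Set c.Vs) ∧ c.Sf (v + w) = s}.ncard = 32
  omega

theorem exists_outside {i : ↥I} (hi : i ≠ 1) : ∃ a, a ∈ c.Fx i ∧ a ∉ c.U ∧ c.om a ∉ c.U ∧ a + c.om a ∉ c.U := by
  obtain ⟨a, ha, haU⟩ : ∃ a ∈ c.Fx i, a ∉ c.U := by
    by_contra hcon
    push Not at hcon
    have := AddSubgroup.card_le_of_le (show c.Fx i ≤ c.U from hcon)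
    rw [c.card_Fx hi, c.card_U] at this
    norm_num at this
  have h1 : c.om a ∉ c.U := fun h => haU (by
    have := c.U_om (c.U_om h)
    rwa [c.om_cube] at this)
  refine ⟨a, ha, haU, h1, fun h => haU ?_⟩
  rw [← c.om_two] at h
  have := c.U_om h
  rwa [c.om_cube] at this

/-- The vectors of the fixed space outside `U` lie in three cosets. -/
theorem ncard_outside {i : ↥I} (hi : i ≠ 1) {a : c.Vs} (ha : a ∈ c.Fx i) (haU : a ∉ c.U) (hb : c.om a ∉ c.U)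
    (hab : a + c.om a ∉ c.U) (p : c.Vs → Prop) :
    {v | v ∈ c.Fx i ∧ v ∉ c.U ∧ p v}.ncard = {w | w ∈ c.U ∧ p (a + w)}.ncard +
      {w | w ∈ c.U ∧ p (c.om a + w)}.ncard + {w | w ∈ c.U ∧ p (a + c.om a + w)}.ncard := by
  classical
  set b := c.om a with hbdef
  have hbF : b ∈ c.Fx i := c.Fx_om ha
  let T : c.Vs → Set c.Vs := fun d => (fun w => d + w) '' (c.U : Set c.Vs)
  have hT : ∀ d, (T d).ncard = 64 := fun d => by
    rw [Set.ncard_image_of_injective _ (add_right_injective d), ← Nat.card_coe_set_eq, SetLike.coe_sort_coe, c.card_U]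
    norm_num
  have hdisj : ∀ {d d' : c.Vs}, d + d' ∉ c.U → Disjoint (T d) (T d') := by
    intro d d' hd
    rw [Set.disjoint_left]
    rintro _ ⟨w, hw, rfl⟩ ⟨w', hw', e⟩
    refine hd ?_
    rw [show d + d' = w + w' from c.add_eq_zero_V (by
      rw [show d + d' + (w + w') = (d + w) + (d' + w') by abel, show d' + w' = d + w from e, c.two_V])]
    exact add_mem hw hw'
  have d1 : Disjoint (T a) (T b) := hdisj hab
  have e1 : a + (a + b) = b := by rw [← add_assoc, c.two_V, zero_add]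
  have e2 : b + (a + b) = a := by rw [add_comm a b, ← add_assoc, c.two_V, zero_add]
  have d2 : Disjoint (T a ∪ T b) (T (a + b)) :=
    Set.disjoint_union_left.2 ⟨hdisj (by rwa [e1]), hdisj (by rwa [e2])⟩
  have hcov : T a ∪ T b ∪ T (a + b) = {v | v ∈ c.Fx i ∧ v ∉ c.U} := by
    refine Set.eq_of_subset_of_ncard_le ?_ ?_ (Set.toFinite _)
    · rintro _ ((⟨w, hw, rfl⟩ | ⟨w, hw, rfl⟩) | ⟨w, hw, rfl⟩)
      · exact ⟨add_mem ha (c.U_le_Fx i hw), fun h => haU (by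
          have := add_mem h hw; rwa [add_assoc, c.two_V, add_zero] at this)⟩
      · exact ⟨add_mem hbF (c.U_le_Fx i hw), fun h => hb (by
          have := add_mem h hw; rwa [add_assoc, c.two_V, add_zero] at this)⟩
      · exact ⟨add_mem (add_mem ha hbF) (c.U_le_Fx i hw), fun h => hab (by
          have := add_mem h hw; rwa [add_assoc, c.two_V, add_zero] at this)⟩
    · rw [Set.ncard_union_eq d2 (Set.toFinite _) (Set.toFinite _), Set.ncard_union_eq d1 (Set.toFinite _)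
        (Set.toFinite _), hT, hT, hT, show {v | v ∈ c.Fx i ∧ v ∉ c.U} = (c.Fx i : Set c.Vs) \ c.U from rfl,
        Set.ncard_sdiff (c.U_le_Fx i) (Set.toFinite _), ← Nat.card_coe_set_eq (c.Fx i : Set c.Vs),
        ← Nat.card_coe_set_eq (c.U : Set c.Vs), SetLike.coe_sort_coe, SetLike.coe_sort_coe, c.card_Fx hi, c.card_U]
      norm_num
  have hpart : ∀ d, {v | v ∈ T d ∧ p v} = (fun w => d + w) '' {w | w ∈ c.U ∧ p (d + w)} := by
    intro d
    ext v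
    constructor
    · rintro ⟨⟨w, hw, rfl⟩, hp⟩; exact ⟨w, ⟨hw, hp⟩, rfl⟩
    · rintro ⟨w, ⟨hw, hp⟩, rfl⟩; exact ⟨⟨w, hw, rfl⟩, hp⟩
  have e : {v | v ∈ c.Fx i ∧ v ∉ c.U ∧ p v} =
      {v | v ∈ T a ∧ p v} ∪ {v | v ∈ T b ∧ p v} ∪ {v | v ∈ T (a + b) ∧ p v} := by
    ext v
    constructor
    · rintro ⟨h1, h2, h3⟩
      rcases hcov.ge (show v ∈ {v | v ∈ c.Fx i ∧ v ∉ c.U} from ⟨h1, h2⟩) with (h | h) | h
      · exact Or.inl (Or.inl ⟨h, h3⟩)
      · exact Or.inl (Or.inr ⟨h, h3⟩)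
      · exact Or.inr ⟨h, h3⟩
    · intro hv
      have hmem : v ∈ T a ∪ T b ∪ T (a + b) ∧ p v := by
        rcases hv with (⟨h, h3⟩ | ⟨h, h3⟩) | ⟨h, h3⟩
        · exact ⟨Or.inl (Or.inl h), h3⟩
        · exact ⟨Or.inl (Or.inr h), h3⟩
        · exact ⟨Or.inr h, h3⟩
      obtain ⟨h1, h2⟩ := hcov.le hmem.1
      exact ⟨h1, h2, hmem.2⟩
  rw [e, Set.ncard_union_eq
      (d2.mono (fun v hv => hv.imp And.left And.left) fun v hv => hv.1) (Set.toFinite _) (Set.toFinite _),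
    Set.ncard_union_eq (d1.mono (fun v hv => hv.1) fun v hv => hv.1) (Set.toFinite _) (Set.toFinite _), hpart, hpart,
    hpart, Set.ncard_image_of_injective _ (add_right_injective a), Set.ncard_image_of_injective _ (add_right_injective b),
    Set.ncard_image_of_injective _ (add_right_injective (a + b))]

theorem card_outside_sing {i : ↥I} (hi : i ≠ 1) (s : ZMod 2) :
    {v | v ∈ c.Fx i ∧ v ∉ c.U ∧ c.Sf v = s}.ncard = 96 := by
  obtain ⟨a, ha, h1, h2, h3⟩ := c.exists_outside hi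
  rw [c.ncard_outside hi ha h1 h2 h3 fun v => c.Sf v = s, c.ncard_coset_half h1, c.ncard_coset_half h2,
    c.ncard_coset_half h3]

theorem Bf_Li {i : ↥I} {v q : c.Vs} (hv : v ∈ c.Fx i) (hq : q ∈ c.Li i) : c.Bf v q = 0 := c.mem_perp.1 hq v hv

theorem count_four_Li {i : ↥I} (hi : i ≠ 1) {q : c.Vs} (hq : q ∈ c.Li i) :
    {v | v ∈ c.Fx i ∧ c.Bf v q = 0 ∧ c.Sf v = 1}.ncard = 96 := by
  rw [← c.card_outside_sing hi 1]
  congr 1
  ext v
  simp only [Set.mem_setOf_eq]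
  exact ⟨fun ⟨h1, _, h3⟩ => ⟨h1, fun h => by rw [c.Sf_U h] at h3; exact absurd h3 (by decide), h3⟩,
    fun ⟨h1, _, h3⟩ => ⟨h1, c.Bf_Li h1 hq, h3⟩⟩

theorem count_four_U {i : ↥I} (hi : i ≠ 1) {q : c.Vs} (hqU : q ∈ c.U) (hq : q ∉ c.Li i) :
    {v | v ∈ c.Fx i ∧ c.Bf v q = 0 ∧ c.Sf v = 1}.ncard = 32 := by
  obtain ⟨a, ha, h1, h2, h3⟩ := c.exists_outside hi
  have e : {v | v ∈ c.Fx i ∧ c.Bf v q = 0 ∧ c.Sf v = 1} =
      {v | v ∈ c.Fx i ∧ v ∉ c.U ∧ (c.Bf v q = 0 ∧ c.Sf v = 1)} := by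
    ext v
    simp only [Set.mem_setOf_eq]
    exact ⟨fun ⟨a1, a2, a3⟩ => ⟨a1, fun h => by rw [c.Sf_U h] at a3; exact absurd a3 (by decide), a2, a3⟩,
      fun ⟨a1, _, a2, a3⟩ => ⟨a1, a2, a3⟩⟩
  have hd : ∀ d, d ∉ c.U →
      {w | w ∈ c.U ∧ (c.Bf (d + w) q = 0 ∧ c.Sf (d + w) = 1)}.ncard = if c.Bf d q = 0 then 32 else 0 := by
    intro d hdU
    have hw : ∀ w ∈ c.U, c.Bf (d + w) q = c.Bf d q := fun w hw => by
      rw [c.Bf_add_left, c.Bf_U hw hqU, add_zero]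
    by_cases h : c.Bf d q = 0
    · rw [if_pos h, ← c.ncard_coset_half hdU 1]
      congr 1
      ext w
      simp only [Set.mem_setOf_eq]
      exact ⟨fun ⟨a1, _, a3⟩ => ⟨a1, a3⟩, fun ⟨a1, a3⟩ => ⟨a1, by rw [hw w a1, h], a3⟩⟩
    · rw [if_neg h, Set.ncard_eq_zero (Set.toFinite _), Set.eq_empty_iff_forall_notMem]
      exact fun w ⟨a1, a2, _⟩ => h (by rw [← hw w a1, a2])
  rw [e, c.ncard_outside hi ha h1 h2 h3, hd _ h1, hd _ h2, hd _ h3, c.Bf_add_left]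
  have hnot : ¬ (c.Bf a q = 0 ∧ c.Bf (c.om a) q = 0) := by
    rintro ⟨ha0, hb0⟩
    refine hq (c.mem_perp.2 fun v hv => ?_)
    by_cases hvU : v ∈ c.U
    · exact c.Bf_U hvU hqU
    by_contra hne
    -- the three cosets cover the rest
    have hc := c.ncard_outside hi ha h1 h2 h3 fun v => c.Bf v q ≠ 0
    have hz : ∀ d, c.Bf d q = 0 → {w | w ∈ c.U ∧ c.Bf (d + w) q ≠ 0}.ncard = 0 := fun d hd0 => by
      rw [Set.ncard_eq_zero (Set.toFinite _), Set.eq_empty_iff_forall_notMem]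
      rintro w ⟨hw, hw'⟩
      exact hw' (by rw [c.Bf_add_left, hd0, c.Bf_U hw hqU, add_zero])
    rw [hz _ ha0, hz _ hb0, hz _ (by rw [c.Bf_add_left, ha0, hb0, add_zero]), Set.ncard_eq_zero (Set.toFinite _),
      Set.eq_empty_iff_forall_notMem] at hc
    exact hc v ⟨hv, hvU, hne⟩
  rcases c.zero_or_one (c.Bf a q) with e1 | e1 <;> rcases c.zero_or_one (c.Bf (c.om a) q) with e2 | e2
  · exact absurd ⟨e1, e2⟩ hnot
  all_goals simp [e1, e2, show (1 : ZMod 2) + 1 = 0 by decide]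

theorem count_four_dvd {i : ↥I} (hi : i ≠ 1) {q : c.Vs} (hq : q ∈ c.Fx i) :
    16 ∣ {v | v ∈ c.Fx i ∧ c.Bf v q = 0 ∧ c.Sf v = 1}.ncard := by
  have h := card_dvd_ncard_invariant (c.Li i) {v | v ∈ c.Fx i ∧ c.Bf v q = 0 ∧ c.Sf v = 1} ?_
  · rwa [c.card_Li hi] at h
  rintro v ⟨h1, h2, h3⟩ k hk
  refine ⟨add_mem h1 (c.U_le_Fx i (c.Li_le_U i hk)), ?_, ?_⟩
  · rw [c.Bf_add_left, h2, c.Bf_symm k q, c.Bf_Li hq hk, add_zero]
  · rw [c.Sf_add, h3, c.Sf_U (c.Li_le_U i hk), c.Bf_Li h1 hk, add_zero, add_zero]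

open scoped _root_.Classical in
theorem ty_W (hs : c.Split) {i : ↥I} (hi : i ≠ 1) {e : G} (he : e ∈ c.Ei i) (hU : c.pv e ∈ c.U) :
    e * c.lv i ∈ c.W ∧
      (IsConj z (e * c.lv i * z) ↔ (if c.pv e ∈ c.Li i then ¬ IsConj z (e * c.lv i) else IsConj z (e * c.lv i))) := by
  classical
  obtain ⟨hW, him⟩ := c.fibre_mk (show e ∈ c.Ut from ⟨he.1, hU⟩) i
  refine ⟨hW, ?_⟩
  have hll : e * c.lv i * c.lv i = e := by rw [mul_assoc, c.L0_elementary (c.lv_mem i), mul_one]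
  by_cases h : c.pv e ∈ c.Li i
  · rw [if_pos h]
    have h2 := c.zero_single hs hW him hi (by rwa [hll])
    exact ⟨fun h1 h3 => h2.1 h3 h1, fun h1 => not_not.1 fun h3 => h1 (h2.2 h3)⟩
  · rw [if_neg h]
    obtain ⟨f, -, hfx⟩ := c.exists_flip_outside hW him hi hs (by rwa [hll])
    rw [← hfx, c.isConj_z_conj]

theorem lv_mul_mul (i : ↥I) (e : G) : e * c.lv i * c.lv i = e := by
  rw [mul_assoc, c.L0_elementary (c.lv_mem i), mul_one]

theorem fib_part_Li (i : ↥I) : {x | x ∈ c.invFib (i : A) ∧ c.pv (x * c.lv i) ∈ c.Li i}.ncard =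
    2 * (c.Li i : Set c.Vs).ncard := by
  refine c.ncard_fib_part i _ _ (fun v hv => ⟨c.U_le_Fx i (c.Li_le_U i hv), c.Sf_U (c.Li_le_U i hv)⟩) fun e _ => ?_
  rw [c.lv_mul_mul]
  rfl

theorem fib_part_U (i : ↥I) : {x | x ∈ c.invFib (i : A) ∧ c.pv (x * c.lv i) ∈ c.U ∧ c.pv (x * c.lv i) ∉ c.Li i}.ncard =
    2 * ((c.U : Set c.Vs) \ c.Li i).ncard := by
  refine c.ncard_fib_part i _ _ (fun v hv => ⟨c.U_le_Fx i hv.1, c.Sf_U hv.1⟩) fun e _ => ?_
  rw [c.lv_mul_mul]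
  rfl

theorem fib_part_out (i : ↥I) : {x | x ∈ c.invFib (i : A) ∧ c.pv (x * c.lv i) ∉ c.U}.ncard =
    2 * {v | v ∈ c.Fx i ∧ v ∉ c.U ∧ c.Sf v = 0}.ncard := by
  refine c.ncard_fib_part i _ _ (fun v hv => ⟨hv.1, hv.2.2⟩) fun e he => ?_
  rw [c.lv_mul_mul]
  exact ⟨fun h => ⟨he.2.1, h, he.2.2⟩, fun h => h.2.1⟩

end Ctx

end CfsgLib.Spor.JFourType
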