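import Cfsg.Agent.Lib.Spor.JFourType.Order.Inner

/-!
# The census over an inner involution: the numbers
-/

set_option autoImplicit false
set_option linter.style.haveILetI false

namespace CfsgLib.Spor.JFourType.Ctx

open Subgroup

universe u

variable {G : Type u} [Group G] [Finite G] {A : Type} [Group A] {J I R : Subgroup A}
  {z : G} {P : Subgroup G} (c : Ctx J I R z P)
include c

theorem pv_fib_mul_z {i : ↥I} {x : G} (hx : x ∈ c.invFib (i : A)) :
    c.pv (x * z * c.lv i) = c.pv (x * c.lv i) := by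
  rw [c.invFib_inner i] at hx
  obtain ⟨e, he, rfl⟩ := hx
  rw [show e * c.lv i * z * c.lv i = e * (c.lv i * z) * c.lv i by group, c.comm_z (c.lv_H i),
    show e * (z * c.lv i) * c.lv i = (e * z) * c.lv i * c.lv i by group, c.lv_mul_mul, c.lv_mul_mul,
    c.pv_mul he.1 c.z_mem_E, c.pv_z, add_zero]

open scoped _root_.Classical in
/-- The numbers over an inner involution. -/
theorem inner_census (hs : c.Split) {i : ↥I} (hi : i ≠ 1) :
    ∃ k m, (k = 0 ∨ k = 192) ∧ c.nZZ (i : A) = 96 + k ∧ c.nZT (i : A) = 16 ∧ c.nTT (i : A) = 192 - k ∧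
      c.sFour (i : A) = 9216 + k * (32 * m) := by
  have hi' : (i : A) ≠ 1 := fun h => hi (Subtype.ext h)
  set q : G → c.Vs := fun x => c.pv (x * c.lv i) with hq
  set P1 := {x | x ∈ c.invFib (i : A) ∧ q x ∈ c.Li i} with hP1
  set P2 := {x | x ∈ c.invFib (i : A) ∧ q x ∈ c.U ∧ q x ∉ c.Li i} with hP2
  set P3 := {x | x ∈ c.invFib (i : A) ∧ q x ∉ c.U} with hP3
  have hc1 : P1.ncard = 32 := by
    rw [hP1, c.fib_part_Li i, ← Nat.card_coe_set_eq, SetLike.coe_sort_coe, c.card_Li hi]; norm_num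
  have hc2 : P2.ncard = 96 := by
    rw [hP2, c.fib_part_U i, Set.ncard_sdiff (c.Li_le_U i) (Set.toFinite _), ← Nat.card_coe_set_eq (c.U : Set c.Vs),
      ← Nat.card_coe_set_eq (c.Li i : Set c.Vs), SetLike.coe_sort_coe, SetLike.coe_sort_coe, c.card_U, c.card_Li hi]
    norm_num
  have hc3 : P3.ncard = 192 := by rw [hP3, c.fib_part_out i, c.card_outside_sing hi]
  have hEi : ∀ x ∈ c.invFib (i : A), ∃ e ∈ c.Ei i, e * c.lv i = x ∧ q x = c.pv e := by
    intro x hx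
    rw [c.invFib_inner i] at hx
    obtain ⟨e, he, rfl⟩ := hx
    exact ⟨e, he, rfl, by rw [hq]; simp only [c.lv_mul_mul]⟩
  have hqz : ∀ x ∈ c.invFib (i : A), q (x * z) = q x := fun x hx => c.pv_fib_mul_z hx
  -- the types
  have t1 : ∀ x ∈ P1, (IsConj z (x * z) ↔ ¬ IsConj z x) := by
    rintro x ⟨hx, hxq⟩
    obtain ⟨e, he, rfl, hqe⟩ := hEi x hx
    rw [hqe] at hxq
    have := (c.ty_W hs hi he (c.Li_le_U i hxq)).2
    rwa [if_pos hxq] at this
  have t2' : ∀ x ∈ P2, x ∈ c.W ∧ (IsConj z (x * z) ↔ IsConj z x) := by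
    rintro x ⟨hx, hxU, hxq⟩
    obtain ⟨e, he, rfl, hqe⟩ := hEi x hx
    rw [hqe] at hxq hxU
    have := c.ty_W hs hi he hxU
    rwa [if_neg hxq] at this
  have hpairs : {x : G | x ∈ c.W ∧ c.im x = i ∧ IsConj z x ∧ IsConj z (x * z)} = P2 := by
    refine Set.eq_of_subset_of_ncard_le ?_ (by rw [hc2, hs.card_fibre_pair i i.2 hi']) (Set.toFinite _)
    rintro x ⟨hW, him, hc, hcz⟩
    have hx : x ∈ c.invFib (i : A) := ⟨c.W_le_H hW, c.W_sq hW, him⟩
    have hU : q x ∈ c.U := (c.fibre_Ut hW him).2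
    exact ⟨hx, hU, fun hL => (t1 x ⟨hx, hL⟩).1 hcz hc⟩
  have t2 : ∀ x ∈ P2, IsConj z x ∧ IsConj z (x * z) := fun x hx => by
    rw [← hpairs] at hx
    exact ⟨hx.2.2.1, hx.2.2.2⟩
  obtain ⟨x0, hx0⟩ : P3.Nonempty := Set.nonempty_of_ncard_ne_zero (by rw [hc3]; norm_num)
  have t3 : ∀ x ∈ P3, (IsConj z x ↔ IsConj z x0) ∧ c.four x = c.four x0 := by
    rintro x ⟨hx, hxq⟩
    obtain ⟨e, he, rfl, hqe⟩ := hEi x hx
    obtain ⟨e0, he0, hxe0, hqe0⟩ := hEi x0 hx0.1
    rw [hqe] at hxq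
    have h0 := hx0.2
    rw [hqe0] at h0
    obtain ⟨h, hh, hconj⟩ := c.inner_class hi he.1 he0.1 he.2.1 he0.2.1 he.2.2 he0.2.2 hxq h0
    rw [← hxe0, ← hconj, c.isConj_z_conj, four_conj hh]
    exact ⟨Iff.rfl, rfl⟩
  have t3z : ∀ x ∈ P3, (IsConj z (x * z) ↔ IsConj z x0) := fun x hx =>
    (t3 (x * z) ⟨invFib_mul_z hx.1, by rw [hqz x hx.1]; exact hx.2⟩).1
  have hcov : ∀ x ∈ c.invFib (i : A), x ∈ P1 ∨ x ∈ P2 ∨ x ∈ P3 := by
    intro x hx
    by_cases h : q x ∈ c.U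
    · by_cases h' : q x ∈ c.Li i
      · exact Or.inl ⟨hx, h'⟩
      · exact Or.inr (Or.inl ⟨hx, h, h'⟩)
    · exact Or.inr (Or.inr ⟨hx, h⟩)
  have d12 : Disjoint P1 P2 := Set.disjoint_left.2 fun x h h' => h'.2.2 h.2
  have d13 : Disjoint P1 P3 := Set.disjoint_left.2 fun x h h' => h'.2 (c.Li_le_U i h.2)
  have d23 : Disjoint P2 P3 := Set.disjoint_left.2 fun x h h' => h'.2 h.2.1
  set Z1 := {x | x ∈ P1 ∧ IsConj z x} with hZ1
  have hcZ1 : Z1.ncard = 16 := by
    set T1 := {x | x ∈ P1 ∧ ¬ IsConj z x} with hT1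
    have e : (fun x => x * z) '' Z1 = T1 := by
      ext x
      constructor
      · rintro ⟨y, ⟨hy, hyc⟩, rfl⟩
        exact ⟨⟨invFib_mul_z hy.1, by rw [hqz y hy.1]; exact hy.2⟩, fun h => (t1 y hy).1 h hyc⟩
      · rintro ⟨hx, hxc⟩
        refine ⟨x * z, ⟨⟨invFib_mul_z hx.1, by rw [hqz x hx.1]; exact hx.2⟩, (t1 x hx).2 hxc⟩, ?_⟩
        show x * z * z = x
        rw [mul_assoc, c.zz, mul_one]
    have hu : P1 = Z1 ∪ T1 := by
      ext x
      simp only [hZ1, hT1, Set.mem_union, Set.mem_setOf_eq]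
      tauto
    have := congrArg Set.ncard hu
    rw [Set.ncard_union_eq (Set.disjoint_left.2 fun x h h' => h'.2 h.2) (Set.toFinite _) (Set.toFinite _), hc1, ← e,
      Set.ncard_image_of_injective _ (mul_left_injective z)] at this
    omega
  have hZT : {x | x ∈ c.invFib (i : A) ∧ c.TyZT x} = Z1 := by
    ext x
    constructor
    · rintro ⟨hx, hc, hcz⟩
      rcases hcov x hx with h | h | h
      · exact ⟨h, hc⟩
      · exact absurd (t2 x h).2 hcz
      · exact absurd ((t3z x h).2 ((t3 x h).1.1 hc)) hcz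
    · rintro ⟨hx, hc⟩
      exact ⟨hx.1, hc, fun h => (t1 x hx).1 h hc⟩
  have hfour1 : ∀ x ∈ Z1, c.four x = 192 := by
    rintro x ⟨⟨hx, hxq⟩, -⟩
    obtain ⟨e, he, rfl, hqe⟩ := hEi x hx
    rw [c.four_inner he, c.count_four_Li hi (hqe ▸ hxq)]
  have hfour2 : ∀ x ∈ P2, c.four x = 64 := by
    rintro x ⟨hx, hxU, hxq⟩
    obtain ⟨e, he, rfl, hqe⟩ := hEi x hx
    rw [c.four_inner he, c.count_four_U hi (hqe ▸ hxU) (hqe ▸ hxq)]
  obtain ⟨m, hm⟩ : 32 ∣ c.four x0 := by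
    obtain ⟨e0, he0, hxe0, -⟩ := hEi x0 hx0.1
    rw [← hxe0, c.four_inner he0]
    exact mul_dvd_mul (dvd_refl 2) (c.count_four_dvd hi he0.2.1)
  by_cases hk : IsConj z x0
  · refine ⟨192, m, Or.inr rfl, ?_, by rw [nZT, hZT, hcZ1], ?_, ?_⟩
    · have e : {x | x ∈ c.invFib (i : A) ∧ c.TyZZ x} = P2 ∪ P3 := by
        ext x
        constructor
        · rintro ⟨hx, hc, hcz⟩
          exact (hcov x hx).resolve_left fun h => (t1 x h).1 hcz hc
        · rintro (h | h)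
          · exact ⟨h.1, t2 x h⟩
          · exact ⟨h.1, (t3 x h).1.2 hk, (t3z x h).2 hk⟩
      rw [nZZ, e, Set.ncard_union_eq d23 (Set.toFinite _) (Set.toFinite _), hc2, hc3]
    · rw [nTT, Set.ncard_eq_zero (Set.toFinite _), Set.eq_empty_iff_forall_notMem]
      rintro x ⟨hx, hc, hcz⟩
      rcases hcov x hx with h | h | h
      · exact hcz ((t1 x h).2 hc)
      · exact hc (t2 x h).1
      · exact hc ((t3 x h).1.2 hk)
    · have e : {x | x ∈ c.invFib (i : A) ∧ IsConj z x} = Z1 ∪ P2 ∪ P3 := by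
        ext x
        constructor
        · rintro ⟨hx, hc⟩
          rcases hcov x hx with h | h | h
          exacts [Or.inl (Or.inl ⟨h, hc⟩), Or.inl (Or.inr h), Or.inr h]
        · rintro ((⟨h, hc⟩ | h) | h)
          exacts [⟨h.1, hc⟩, ⟨h.1, (t2 x h).1⟩, ⟨h.1, (t3 x h).1.2 hk⟩]
      rw [sFour, e, setSum_union (Set.disjoint_union_left.2 ⟨d13.mono_left fun x h => h.1, d23⟩),
        setSum_union (d12.mono_left fun x h => h.1), setSum_const hfour1, setSum_const hfour2,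
        setSum_const fun x h => (t3 x h).2, hcZ1, hc2, hc3, hm]
  · refine ⟨0, m, Or.inl rfl, ?_, by rw [nZT, hZT, hcZ1], ?_, ?_⟩
    · have e : {x | x ∈ c.invFib (i : A) ∧ c.TyZZ x} = P2 := by
        ext x
        constructor
        · rintro ⟨hx, hc, hcz⟩
          rcases hcov x hx with h | h | h
          · exact absurd hc ((t1 x h).1 hcz)
          · exact h
          · exact absurd ((t3 x h).1.1 hc) hk
        · exact fun h => ⟨h.1, t2 x h⟩
      rw [nZZ, e, hc2]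
    · have e : {x | x ∈ c.invFib (i : A) ∧ c.TyTT x} = P3 := by
        ext x
        constructor
        · rintro ⟨hx, hc, hcz⟩
          rcases hcov x hx with h | h | h
          · exact absurd ((t1 x h).2 hc) hcz
          · exact absurd (t2 x h).1 hc
          · exact h
        · exact fun h => ⟨h.1, fun hc => hk ((t3 x h).1.1 hc), fun hc => hk ((t3z x h).1 hc)⟩
      rw [nTT, e, hc3]
    · have e : {x | x ∈ c.invFib (i : A) ∧ IsConj z x} = Z1 ∪ P2 := by
        ext x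
        constructor
        · rintro ⟨hx, hc⟩
          rcases hcov x hx with h | h | h
          exacts [Or.inl ⟨h, hc⟩, Or.inr h, absurd ((t3 x h).1.1 hc) hk]
        · rintro (⟨h, hc⟩ | h)
          exacts [⟨h.1, hc⟩, ⟨h.1, (t2 x h).1⟩]
      rw [sFour, e, setSum_union (d12.mono_left fun x h => h.1), setSum_const hfour1, setSum_const hfour2, hcZ1,
        hc2, zero_mul]
      norm_num

end CfsgLib.Spor.JFourType.Ctx
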