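import Mathlib

/-!
# A check that no normalizer of a subgroup of a large prime order is possible

Pure arithmetic: divisors from a factorization into primes, each with a trial division bound, and the check of the
Sylow congruence over all admissible pairs.
-/

set_option autoImplicit false

namespace CfsgLib.Spor.JFourType.Kill

/-- The product of a factorization; an entry is a prime, an exponent and a bound for the trial division. -/
def prodF : List (ℕ × ℕ × ℕ) → ℕ
  | [] => 1
  | (q, a, _) :: t => q ^ a * prodF t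

/-- The entries are primes. -/
def factOK : List (ℕ × ℕ × ℕ) → Bool
  | [] => true
  | (q, _, r) :: t =>
    decide (2 ≤ q) && decide (q < (r + 1) * (r + 1)) &&
      (List.range' 2 (r - 1)).all (fun i => decide (q ≤ i) || decide (q % i ≠ 0)) && factOK t

/-- The divisors. -/
def divs : List (ℕ × ℕ × ℕ) → List ℕ
  | [] => [1]
  | (q, a, _) :: t => (divs t).flatMap fun d => (List.range (a + 1)).map fun i => q ^ i * d

theorem prime_of_trial {q r : ℕ} (h2 : 2 ≤ q) (hr : q < (r + 1) * (r + 1))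
    (h : (List.range' 2 (r - 1)).all (fun i => decide (q ≤ i) || decide (q % i ≠ 0)) = true) : q.Prime := by
  rw [Nat.prime_def_le_sqrt]
  refine ⟨h2, fun m hm hms hdvd => ?_⟩
  have hmr : m ≤ r := by
    by_contra hlt
    have h1 : (r + 1) * (r + 1) ≤ m * m := Nat.mul_le_mul (by omega) (by omega)
    have h3 : m * m ≤ q := Nat.le_sqrt.1 hms
    omega
  have hmem : m ∈ List.range' 2 (r - 1) := List.mem_range'_1.2 ⟨hm, by omega⟩
  rcases (Bool.or_eq_true _ _).mp (List.all_eq_true.1 h m hmem) with h' | h'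
  · have hq : q ≤ m := of_decide_eq_true h'
    have hmm : m * m ≤ q := Nat.le_sqrt.1 hms
    nlinarith
  · exact of_decide_eq_true h' (Nat.mod_eq_zero_of_dvd hdvd)

theorem mem_divs : ∀ {l : List (ℕ × ℕ × ℕ)}, factOK l = true → ∀ {d : ℕ}, d ∣ prodF l → d ∈ divs l
  | [], _, d, hd => by simpa [divs, prodF] using hd
  | (q, a, r) :: t, h, d, hd => by
    simp only [factOK, Bool.and_eq_true, decide_eq_true_eq] at h
    obtain ⟨⟨⟨h2, hr⟩, hall⟩, ht⟩ := h
    have hq := prime_of_trial h2 hr hall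
    simp only [prodF] at hd
    obtain ⟨d1, d2, hd1, hd2, rfl⟩ := Nat.dvd_mul.1 hd
    obtain ⟨i, hi, rfl⟩ := (Nat.dvd_prime_pow hq).1 hd1
    simp only [divs, List.mem_flatMap, List.mem_map, List.mem_range]
    exact ⟨d2, mem_divs ht hd2, i, by omega, rfl⟩

/-- The order for `n` conjugates of `z`. -/
def orderFor (n : ℕ) : ℕ := n * 21799895040

/-- `es` factors `p - 1`, `ks` the part of the order prime to `210 * p`, and no pair is possible. -/
def killCheck (n p : ℕ) (es ks : List (ℕ × ℕ × ℕ)) : Bool :=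
  decide (13 ≤ p) && decide (orderFor n % p = 0) && decide (orderFor n % (p * p) ≠ 0) &&
    factOK es && decide (prodF es = p - 1) && factOK ks && decide (orderFor n % (prodF ks * p) = 0) &&
    decide (210 ^ 80 % (orderFor n / (prodF ks * p)) = 0) &&
    (divs es).all fun e => (divs ks).all fun k =>
      decide (orderFor n % (p * e * k) ≠ 0) || decide (orderFor n / (p * e * k) % p ≠ 1)

/-- A divisor prime to `210` lies in the factored part. -/
theorem dvd_part {N p m k : ℕ} (hp : 0 < p) (hm : N % (m * p) = 0) (ha : 210 ^ 80 % (N / (m * p)) = 0)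
    (hk : k.Coprime 210) (hd : p * k ∣ N) : k ∣ m := by
  obtain ⟨a, rfl⟩ := Nat.dvd_of_mod_eq_zero hm
  rcases Nat.eq_zero_or_pos (m * p) with h0 | h0
  · rcases Nat.mul_eq_zero.1 h0 with h | h
    · exact h ▸ dvd_zero k
    · omega
  rw [Nat.mul_div_cancel_left _ h0] at ha
  have hco : k.Coprime a := Nat.Coprime.coprime_dvd_right (Nat.dvd_of_mod_eq_zero ha) (hk.pow_right 80)
  rw [mul_comm m p, mul_assoc] at hd
  exact hco.dvd_of_dvd_mul_right (Nat.dvd_of_mul_dvd_mul_left hp hd)

/-- The check refutes every admissible pair. -/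
theorem pair_none {n p : ℕ} {es ks : List (ℕ × ℕ × ℕ)} (h : killCheck n p es ks = true) {e k : ℕ}
    (he : e ∣ p - 1) (hk : k.Coprime 210) (hd : p * e * k ∣ orderFor n) :
    orderFor n / (p * e * k) % p ≠ 1 := by
  simp only [killCheck, Bool.and_eq_true, decide_eq_true_eq] at h
  obtain ⟨⟨⟨⟨⟨⟨⟨⟨h13, -⟩, -⟩, hes⟩, hprod⟩, hks⟩, hm⟩, ha⟩, hall⟩ := h
  have hek : k ∈ divs ks := mem_divs hks (dvd_part (by omega) hm ha hk
    (dvd_trans ⟨e, by rw [mul_right_comm]⟩ hd))
  have hee : e ∈ divs es := mem_divs hes (hprod ▸ he)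
  rcases (Bool.or_eq_true _ _).mp (List.all_eq_true.1 (List.all_eq_true.1 hall e hee) k hek) with h' | h'
  · exact absurd (Nat.mod_eq_zero_of_dvd hd) (of_decide_eq_true h')
  · exact of_decide_eq_true h'

theorem check_bounds {n p : ℕ} {es ks : List (ℕ × ℕ × ℕ)} (h : killCheck n p es ks = true) :
    13 ≤ p ∧ p ∣ orderFor n ∧ ¬ p ^ 2 ∣ orderFor n := by
  simp only [killCheck, Bool.and_eq_true, decide_eq_true_eq] at h
  obtain ⟨⟨⟨⟨⟨⟨⟨⟨h13, hp⟩, hpp⟩, -⟩, -⟩, -⟩, -⟩, -⟩, -⟩ := h
  exact ⟨h13, Nat.dvd_of_mod_eq_zero hp, fun hd => hpp (Nat.mod_eq_zero_of_dvd (by rwa [pow_two] at hd))⟩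

end CfsgLib.Spor.JFourType.Kill
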