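import Cfsg.Agent.Lib.Spor.JFourType.Order.Defs
import Cfsg.Agent.Lib.Spor.JFourType.SecondClass
import Cfsg.Agent.Lib.Spor.JFourType.Facts22.Group
import Cfsg.Agent.Lib.Spor.JFourType.SevenLocal
import Cfsg.Agent.Lib.Spor.JFourType.FiveStructure
import Cfsg.Agent.Lib.Spor.JFourType.LocalThree

/-!
# Primes from thirteen on

No element of order two, three, five or seven commutes with one of such an order; so the normalizer of a Sylow
subgroup of prime order `p` has order `p * e * k` with `e` dividing `p - 1` and `k` prime to `210`.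
-/

set_option autoImplicit false
set_option linter.style.haveILetI false
set_option linter.unusedSectionVars false

namespace CfsgLib.Spor.JFourType.Ctx

open Subgroup
open scoped Pointwise

universe u

variable {G : Type u} [Group G] [Finite G] {A : Type} [Group A] {J I R : Subgroup A}
  {z : G} {P : Subgroup G} (c : Ctx J I R z P)

omit [Finite G] in
theorem card_centralizer_conj (g x : G) :
    Nat.card ↥(centralizer ({g * x * g⁻¹} : Set G)) = Nat.card ↥(centralizer ({x} : Set G)) := by
  have h : centralizer ({g * x * g⁻¹} : Set G) = (centralizer ({x} : Set G)).map (MulAut.conj g).toMonoidHom := by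
    ext y
    constructor
    · intro hy
      refine ⟨g⁻¹ * y * g, mem_centralizer_singleton_iff.2 ?_, show g * (g⁻¹ * y * g) * g⁻¹ = y by group⟩
      calc g⁻¹ * y * g * x = g⁻¹ * (y * (g * x * g⁻¹)) * g := by group
        _ = g⁻¹ * (g * x * g⁻¹ * y) * g := by rw [mem_centralizer_singleton_iff.1 hy]
        _ = _ := by group
    · rintro ⟨y, hy, rfl⟩
      refine mem_centralizer_singleton_iff.2 ?_
      show g * y * g⁻¹ * (g * x * g⁻¹) = g * x * g⁻¹ * (g * y * g⁻¹)
      rw [conj_mul, conj_mul, mem_centralizer_singleton_iff.1 hy]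
  rw [h]
  exact (Nat.card_congr (equivMapOfInjective _ _ (MulAut.conj g).injective).toEquiv).symm

/-- The order of a product with a normalized subgroup meeting trivially. -/
theorem card_sup_of_normalize {K V : Subgroup G} (hn : K ≤ normalizer (V : Set G)) (hKV : K ⊓ V = ⊥) :
    Nat.card ↥(K ⊔ V) = Nat.card ↥K * Nat.card ↥V := by
  rw [← Nat.card_prod]
  refine (Nat.card_congr (Equiv.ofBijective
    (fun kv : ↥K × ↥V => (⟨(kv.1 : G) * kv.2, mul_mem (mem_sup_left kv.1.2) (mem_sup_right kv.2.2)⟩ : ↥(K ⊔ V)))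
    ⟨?_, ?_⟩)).symm
  · rintro ⟨k, v⟩ ⟨k', v'⟩ h
    have h' : (k : G) * v = k' * v' := congrArg Subtype.val h
    have hm : (k' : G)⁻¹ * k ∈ K ⊓ V := ⟨K.mul_mem (K.inv_mem k'.2) k.2, by
      rw [show (k' : G)⁻¹ * k = v' * (v : G)⁻¹ by
        rw [eq_mul_inv_iff_mul_eq, mul_assoc, h', inv_mul_cancel_left]]
      exact V.mul_mem v'.2 (V.inv_mem v.2)⟩
    rw [hKV, mem_bot, inv_mul_eq_one] at hm
    obtain rfl : k = k' := Subtype.ext hm.symm
    exact Prod.ext rfl (Subtype.ext (mul_left_cancel h'))
  · rintro ⟨w, hw⟩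
    obtain ⟨k, hk, v, hv, e⟩ : w ∈ (K : Set G) * V := by
      rw [← coe_mul_of_left_le_normalizer_right K V hn]
      exact hw
    exact ⟨(⟨k, hk⟩, ⟨v, hv⟩), Subtype.ext e⟩

include c

/-- No element of order two, three, five or seven commutes with an element of a larger prime order. -/
theorem small_not_comm (hs : c.Split) (F : FiveSeven J I R) (he : Extra J I R) {p q : ℕ} (hp : p.Prime)
    (h13 : 13 ≤ p) (hq : q = 2 ∨ q = 3 ∨ q = 5 ∨ q = 7) {w u : G} (hw : orderOf w = q) (hu : orderOf u = p)
    (hwu : w * u = u * w) : False := by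
  have hdvd : p ∣ Nat.card ↥(centralizer ({w} : Set G)) :=
    hu ▸ Subgroup.orderOf_dvd_natCard _ (mem_centralizer_singleton_iff.2 hwu.symm)
  have hbad : ∀ a : ℕ, a ∣ 2 ^ 40 * 3 ^ 8 * 5 ^ 4 * 7 ^ 4 * 11 ^ 4 → ¬ p ∣ a := by
    intro a ha hpa
    have h := hpa.trans ha
    have hpow : ∀ {b k : ℕ}, b.Prime → b < 13 → ¬ p ∣ b ^ k := fun hb hb' h' => by
      have := (Nat.prime_dvd_prime_iff_eq hp hb).1 (hp.dvd_of_dvd_pow h')
      omega
    rcases hp.dvd_mul.1 h with h | h
    · rcases hp.dvd_mul.1 h with h | h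
      · rcases hp.dvd_mul.1 h with h | h
        · rcases hp.dvd_mul.1 h with h | h
          · exact hpow Nat.prime_two (by norm_num) h
          · exact hpow Nat.prime_three (by norm_num) h
        · exact hpow (show Nat.Prime 5 by norm_num) (by norm_num) h
      · exact hpow (show Nat.Prime 7 by norm_num) (by norm_num) h
    · exact hpow (show Nat.Prime 11 by norm_num) (by norm_num) h
  have hH : ¬ p ∣ Nat.card ↥c.H := hbad _ (by rw [c.card_H_local]; norm_num)
  rcases hq with rfl | rfl | rfl | rfl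
  · by_cases hzw : IsConj z w
    · obtain ⟨g, rfl⟩ := isConj_iff.1 hzw
      rw [card_centralizer_conj] at hdvd
      exact hH hdvd
    · obtain ⟨V, K, hV, hK, hn, -, hcV, hKV, hsup, ⟨e⟩⟩ := c.second_centralizer hs he hw hzw
      rw [← hsup, card_sup_of_normalize (hK.trans hn) hKV, Nat.card_congr e.toEquiv, hcV] at hdvd
      have hG : Nat.card ↥Gam * 2 ^ 11 ∣ 2 ^ 40 * 3 ^ 8 * 5 ^ 4 * 7 ^ 4 * 11 ^ 4 := by
        rw [card_Gam]
        norm_num
      exact hbad _ hG hdvd
  · obtain ⟨g, hg⟩ := isConj_iff.1 (c.isConj_three hs c.ord_pg hw)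
    rw [← hg, card_centralizer_conj] at hdvd
    refine hH (hdvd.trans (card_dvd_of_le fun y hy => ?_))
    have hyP : y ∈ centralizer (P : Set G) := by
      refine mem_centralizer_iff.2 fun b hb => ?_
      obtain ⟨i, hi⟩ := mem_zpowers_iff.1 (c.zpowers_pg.symm ▸ hb : b ∈ zpowers c.pg)
      rw [← hi]
      exact ((show Commute y c.pg from mem_centralizer_singleton_iff.1 hy).zpow_right i).eq.symm
    rw [c.centralizer_P_eq hs] at hyP
    exact hyP.1
  · haveI : Fact (Nat.Prime 5) := ⟨by norm_num⟩
    obtain ⟨x, n, s, h₀, f, -⟩ := c.exists_fiveFull F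
    have hfac : (Nat.card G).factorization 5 = 1 := by
      have h1 := ((by norm_num : Nat.Prime 5).dvd_iff_one_le_factorization Nat.card_pos.ne').1
        (hw ▸ orderOf_dvd_natCard w)
      by_contra hne
      exact f.not_dvd hs (((by norm_num : Nat.Prime 5).pow_dvd_iff_le_factorization (k := 2)
        Nat.card_pos.ne').2 (by omega))
    have hcz : ∀ {v : G}, orderOf v = 5 → Nat.card ↥(zpowers v) = 5 ^ (Nat.card G).factorization 5 := fun h => by
      rw [hfac, pow_one, Nat.card_zpowers, h]
    obtain ⟨g, hg⟩ := MulAction.exists_smul_eq G (Sylow.ofCard (zpowers x) (hcz f.base.ord_x))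
      (Sylow.ofCard (zpowers w) (hcz hw))
    have hmap : g * x * g⁻¹ ∈ zpowers w := by
      have h1 := congrArg (fun S : Sylow 5 G => (S : Subgroup G)) hg
      simp only [Sylow.coe_subgroup_smul, Sylow.coe_ofCard] at h1
      rw [← h1]
      exact ⟨x, mem_zpowers x, rfl⟩
    obtain ⟨i, hi⟩ := mem_zpowers_iff.1 hmap
    have hd : p ∣ Nat.card ↥(centralizer ({g * x * g⁻¹} : Set G)) := by
      refine hdvd.trans (card_dvd_of_le fun y hy => mem_centralizer_singleton_iff.2 ?_)
      rw [← hi]
      exact ((show Commute y w from mem_centralizer_singleton_iff.1 hy).zpow_right i).eq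
    rw [card_centralizer_conj, f.card_centralizer hs] at hd
    exact hbad _ (by norm_num) hd
  · rw [((c.seven_local hs F he).2 w hw).card_centralizer] at hdvd
    exact hbad _ (by norm_num) hdvd

/-- The centralizer of an element of a large prime order has order prime to `210`. -/
theorem coprime_centralizer (hs : c.Split) (F : FiveSeven J I R) (he : Extra J I R) {p : ℕ} (hp : p.Prime)
    (h13 : 13 ≤ p) {u : G} (hu : orderOf u = p) :
    (Nat.card ↥(centralizer ({u} : Set G))).Coprime 210 := by
  have key : ∀ q, (q = 2 ∨ q = 3 ∨ q = 5 ∨ q = 7) → (Nat.card ↥(centralizer ({u} : Set G))).Coprime q := by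
    intro q hq
    have hqp : q.Prime := by rcases hq with rfl | rfl | rfl | rfl <;> norm_num
    haveI : Fact q.Prime := ⟨hqp⟩
    refine ((hqp.coprime_iff_not_dvd).2 fun hd => ?_).symm
    obtain ⟨w, hw⟩ := exists_prime_orderOf_dvd_card' q hd
    exact c.small_not_comm hs F he hp h13 hq (w := (w : G)) (by rw [Subgroup.orderOf_coe, hw]) hu
      (mem_centralizer_singleton_iff.1 w.2)
  have h : (Nat.card ↥(centralizer ({u} : Set G))).Coprime (2 * 3 * 5 * 7) :=
    (((key 2 (by simp)).mul_right (key 3 (by simp))).mul_right (key 5 (by simp))).mul_right (key 7 (by simp))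
  simpa using h

/-- The normalizer of a subgroup of a large prime order `p` with `p ^ 2` not dividing the order. -/
theorem normalizer_shape (hs : c.Split) (F : FiveSeven J I R) (he : Extra J I R) {p : ℕ} (hp : p.Prime)
    (h13 : 13 ≤ p) (h2 : ¬ p ^ 2 ∣ Nat.card G) {u : G} (hu : orderOf u = p) :
    ∃ e k : ℕ, Nat.card ↥(centralizer ({u} : Set G)) = p * k ∧
      Nat.card ↥(normalizer (zpowers u : Set G)) = p * e * k ∧ e ∣ p - 1 ∧ k.Coprime 210 ∧
      (Nat.card G / (p * e * k)) % p = 1 := by
  haveI : Fact p.Prime := ⟨hp⟩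
  set N := normalizer (zpowers u : Set G)
  set C := centralizer ({u} : Set G)
  obtain ⟨k, hk⟩ : p ∣ Nat.card ↥C :=
    hu ▸ Subgroup.orderOf_dvd_natCard _ (mem_centralizer_singleton_iff.2 rfl)
  set φ := (zpowers u).normalizerMonoidHom
  have hker : Nat.card ↥φ.ker = Nat.card ↥C := by
    have hCN : centralizer (zpowers u : Set G) ≤ N := centralizer_le_normalizer _
    rw [normalizerMonoidHom_ker, Nat.card_congr (subgroupOfEquivOfLe hCN).toEquiv, zpowers_eq_closure,
      centralizer_closure]
  have hrange : Nat.card ↥φ.range ∣ p - 1 := by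
    refine (card_subgroup_dvd_card φ.range).trans ?_
    haveI : IsCyclic ↥(zpowers u) := inferInstance
    rw [IsCyclic.card_mulAut, Nat.card_zpowers, hu, Nat.totient_prime hp]
  have hN : Nat.card ↥N = p * Nat.card ↥φ.range * k := by
    rw [card_eq_card_quotient_mul_card_subgroup φ.ker, Nat.card_congr (QuotientGroup.quotientKerEquivRange φ).toEquiv,
      hker, hk]
    ring
  refine ⟨Nat.card ↥φ.range, k, hk, hN, hrange, ?_, ?_⟩
  · have h := c.coprime_centralizer hs F he hp h13 hu
    rw [show Nat.card ↥(centralizer ({u} : Set G)) = p * k from hk] at h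
    exact h.coprime_mul_left
  · rw [← hN, ← N.index_mul_card, Nat.mul_div_cancel _ Nat.card_pos]
    have hQ : Nat.card ↥(zpowers u) = p := by rw [Nat.card_zpowers, hu]
    have h1 : p ∣ Nat.card G := hu ▸ orderOf_dvd_natCard u
    have hfac : (Nat.card G).factorization p = 1 := by
      have h := (hp.dvd_iff_one_le_factorization Nat.card_pos.ne').1 h1
      by_contra hne
      exact h2 ((hp.pow_dvd_iff_le_factorization Nat.card_pos.ne').2 (by omega))
    let S : Sylow p G := Sylow.ofCard (zpowers u) (by rw [hfac, pow_one, hQ])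
    have h := card_sylow_modEq_one p G
    rw [S.card_eq_index_normalizer, Nat.ModEq, Nat.mod_eq_of_lt hp.one_lt] at h
    exact h

end CfsgLib.Spor.JFourType.Ctx
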