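import Cfsg.Agent.Lib.Spor.JFourType.Order.KillCheck
import Cfsg.Agent.Lib.Spor.JFourType.Order.LargeLocal

/-!
# Candidates refuted by the normalizer of a large prime

If `p` divides the order once and the check finds no possible normalizer, the number of conjugates of `z` is not
the candidate.
-/

set_option autoImplicit false
set_option linter.style.haveILetI false

namespace CfsgLib.Spor.JFourType.Ctx

open Subgroup

universe u

variable {G : Type u} [Group G] [Finite G] {A : Type} [Group A] {J I R : Subgroup A}
  {z : G} {P : Subgroup G} (c : Ctx J I R z P)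
include c

theorem card_eq_orderFor {n : ℕ} (h : c.zclass = n) : Nat.card G = Kill.orderFor n := by
  rw [c.card_eq_zclass, c.card_H_local, h, Kill.orderFor]
  norm_num

/-- A candidate with a successful check is not the number of conjugates of `z`. -/
theorem zclass_ne (hs : c.Split) (F : FiveSeven J I R) (he : Extra J I R) {n p : ℕ} {es ks : List (ℕ × ℕ × ℕ)}
    (hp : p.Prime) (h : Kill.killCheck n p es ks = true) : c.zclass ≠ n := by
  intro hn
  have hG := c.card_eq_orderFor hn
  obtain ⟨h13, hdvd, hsq⟩ := Kill.check_bounds h
  haveI : Fact p.Prime := ⟨hp⟩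
  rw [← hG] at hdvd hsq
  obtain ⟨u, hu⟩ := exists_prime_orderOf_dvd_card' (G := G) p hdvd
  obtain ⟨e, k, -, hN, hep, hk, hmod⟩ := c.normalizer_shape hs F he hp h13 hsq hu
  have hd : p * e * k ∣ Nat.card G := hN ▸ card_subgroup_dvd_card _
  rw [hG] at hd hmod
  exact Kill.pair_none h hep hk hd hmod

end CfsgLib.Spor.JFourType.Ctx
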