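import Cfsg.Agent.Lib.Spor.JFourType.Order.KillCheck

/-!
# The possible normalizers at the five primes from 23 on

Pure arithmetic: the pairs admitted by the Sylow congruence, and the pairs left after comparing two primes one of
which divides the centralizer of the other.
-/

set_option autoImplicit false

namespace CfsgLib.Spor.JFourType.Kill

/-- The order for the number of conjugates of `z` in question. -/
def ord4 : ℕ := orderFor 3980549947

/-- The admissible pairs. -/
def opts (p : ℕ) (es ks : List (ℕ × ℕ × ℕ)) : List (ℕ × ℕ) :=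
  (divs es).flatMap fun e => ((divs ks).filter fun k =>
    decide (ord4 % (p * e * k) = 0) && decide (ord4 / (p * e * k) % p = 1)).map fun k => (e, k)

theorem mem_opts {p : ℕ} {es ks : List (ℕ × ℕ × ℕ)} (hes : factOK es = true) (hks : factOK ks = true)
    (hp : 0 < p) (hprod : prodF es = p - 1) (hm : ord4 % (prodF ks * p) = 0)
    (ha : 210 ^ 80 % (ord4 / (prodF ks * p)) = 0) {e k : ℕ} (he : e ∣ p - 1) (hk : k.Coprime 210)
    (hd : p * e * k ∣ ord4) (hmod : ord4 / (p * e * k) % p = 1) : (e, k) ∈ opts p es ks := by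
  simp only [opts, List.mem_flatMap, List.mem_map, List.mem_filter, Bool.and_eq_true, decide_eq_true_eq]
  exact ⟨e, mem_divs hes (hprod ▸ he), k, ⟨mem_divs hks (dvd_part hp hm ha hk
    (dvd_trans ⟨e, by rw [mul_right_comm]⟩ hd)), Nat.mod_eq_zero_of_dvd hd, hmod⟩, rfl⟩

/-- Two pairs which may occur together: one prime divides the centralizer of the other exactly when the other does,
and then the small primes of the automizers agree. -/
def compat (p q : ℕ) (a b : ℕ × ℕ) : Bool :=
  (decide (a.2 % q = 0) == decide (b.2 % p = 0)) &&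
    (decide (a.2 % q ≠ 0) || [2, 3, 5, 7].all fun r => decide (a.1 % r = 0) == decide (b.1 % r = 0))

theorem compat_of {p q : ℕ} {a b : ℕ × ℕ} (h1 : q ∣ a.2 ↔ p ∣ b.2)
    (h2 : q ∣ a.2 → ∀ r ∈ [2, 3, 5, 7], (r ∣ a.1 ↔ r ∣ b.1)) : compat p q a b = true := by
  simp only [compat, Bool.and_eq_true, beq_iff_eq, decide_eq_decide, Bool.or_eq_true, decide_eq_true_eq,
    List.all_eq_true, ne_eq]
  refine ⟨by simpa [Nat.dvd_iff_mod_eq_zero] using h1, ?_⟩
  by_cases hq : q ∣ a.2
  · exact Or.inr fun r hr => by simpa [Nat.dvd_iff_mod_eq_zero] using h2 hq r hr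
  · exact Or.inl fun h => hq (Nat.dvd_of_mod_eq_zero h)

/-- The pairs of the first list compatible with one of the second. -/
def restrict (p q : ℕ) (as bs : List (ℕ × ℕ)) : List (ℕ × ℕ) :=
  as.filter fun a => bs.any fun b => compat p q a b

theorem mem_restrict {p q : ℕ} {as bs : List (ℕ × ℕ)} {a b : ℕ × ℕ} (ha : a ∈ as) (hb : b ∈ bs)
    (h : compat p q a b = true) : a ∈ restrict p q as bs :=
  List.mem_filter.2 ⟨ha, List.any_eq_true.2 ⟨b, hb, h⟩⟩

/-- At 23, with eleven dividing the automizer. -/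
def d23 : List (ℕ × ℕ) :=
  (opts 23 [(2, 1, 1), (11, 1, 3)] [(11, 3, 3), (29, 1, 5), (31, 1, 5), (37, 1, 6), (43, 1, 6)]).filter
    fun a => decide (a.1 % 11 = 0)

/-- At 29. -/
def d29 : List (ℕ × ℕ) :=
  opts 29 [(2, 2, 1), (7, 1, 2)] [(11, 3, 3), (23, 1, 4), (31, 1, 5), (37, 1, 6), (43, 1, 6)]

/-- At 31, with five dividing the automizer. -/
def d31 : List (ℕ × ℕ) :=
  (opts 31 [(2, 1, 1), (3, 1, 1), (5, 1, 2)] [(11, 3, 3), (23, 1, 4), (29, 1, 5), (37, 1, 6), (43, 1, 6)]).filter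
    fun a => decide (a.1 % 5 = 0) && !(decide (a.1 % 3 = 0) && decide (a.2 = 11))

/-- At 37. -/
def d37 : List (ℕ × ℕ) :=
  opts 37 [(2, 2, 1), (3, 2, 1)] [(11, 3, 3), (23, 1, 4), (29, 1, 5), (31, 1, 5), (43, 1, 6)]

/-- At 43. -/
def d43 : List (ℕ × ℕ) :=
  opts 43 [(2, 1, 1), (3, 1, 1), (7, 1, 2)] [(11, 3, 3), (23, 1, 4), (29, 1, 5), (31, 1, 5), (37, 1, 6)]

theorem r23 : restrict 23 43 (restrict 23 31 d23 d31) d43 = [(22, 1)] := by decide +kernel

theorem r29 :
    restrict 29 43 (restrict 29 37 (restrict 29 31 (restrict 29 23 d29 [(22, 1)]) d31) d37) d43 = [(28, 1)] := by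
  decide +kernel

theorem r31 : restrict 31 37 (restrict 31 29 (restrict 31 23 d31 [(22, 1)]) [(28, 1)]) d37 = [(10, 1)] := by
  decide +kernel

theorem r37 :
    restrict 37 43 (restrict 37 31 (restrict 37 29 (restrict 37 23 d37 [(22, 1)]) [(28, 1)]) [(10, 1)]) d43
      = [(12, 1)] := by
  decide +kernel

theorem r43 : restrict 43 31 (restrict 43 29 (restrict 43 23 d43 [(22, 1)]) [(28, 1)]) [(10, 1)] = [(14, 1)] := by
  decide +kernel

end CfsgLib.Spor.JFourType.Kill
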