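import Cfsg.Agent.Lib.Spor.JFourType.Order.LargeLocal
import Cfsg.Agent.Lib.Spor.JFourType.TenFinal
import Cfsg.Agent.Lib.Spor.LineTwentyThree

/-!
# The automizers at 23 and 31

The group of degree 24 in the normalizer of `W` doubles an element of order 23; the linear group in dimension five in
the normalizer of a subgroup of order `2 ^ 10` squares one of order 31.
-/

set_option autoImplicit false
set_option linter.style.haveILetI false
set_option linter.unusedSectionVars false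

namespace CfsgLib.Spor.JFourType

open Subgroup

universe u v

/-- An element of prime order and one conjugating it to a power lift through a kernel of prime order to it. -/
theorem exists_lift_automizer {Γ : Type u} [Group Γ] [Finite Γ] {Q : Type v} [Group Q] (φ : Γ →* Q)
    (hφ : Function.Surjective φ) {q a : ℕ} (hq : q.Prime) (hco : ¬ q ∣ Nat.card ↥φ.ker) {g h : Q}
    (hg : orderOf g = q) (hh : h * g * h⁻¹ = g ^ a) :
    ∃ u m : Γ, orderOf u = q ∧ m * u * m⁻¹ = u ^ a := by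
  haveI : Fact q.Prime := ⟨hq⟩
  obtain ⟨n, rfl⟩ := hφ g
  obtain ⟨m, rfl⟩ := hφ h
  set K := Nat.card ↥φ.ker with hK
  set u := n ^ K
  have hg' : orderOf (φ u) = q := by
    rw [map_pow, Nat.Coprime.orderOf_pow (hg.symm ▸ hq.coprime_iff_not_dvd.2 hco), hg]
  have hu : orderOf u = q := by
    have h1 : (n ^ q) ^ K = 1 := by
      have hm : n ^ q ∈ φ.ker := by rw [MonoidHom.mem_ker, map_pow, ← hg, pow_orderOf_eq_one]
      exact congrArg Subtype.val (pow_card_eq_one' (G := ↥φ.ker) (x := ⟨n ^ q, hm⟩))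
    refine orderOf_eq_prime ?_ fun e => ?_
    · rw [← pow_mul, mul_comm, pow_mul, h1]
    · rw [e, map_one, orderOf_one] at hg'
      exact hq.ne_one hg'.symm
  have hconj : φ m * φ u * (φ m)⁻¹ = φ u ^ a := by
    rw [map_pow, ← conj_pow, hh, ← pow_mul, ← pow_mul, mul_comm]
  set S := (zpowers (φ u)).comap φ
  have hS : Nat.card ↥S = q * K := by
    rw [← card_mul_index (φ.ker.subgroupOf S), Nat.card_congr (subgroupOfEquivOfLe (fun x hx => by
      rw [mem_comap, MonoidHom.mem_ker.1 hx]; exact one_mem _)).toEquiv, mul_comm, ← hK]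
    congr 1
    rw [show φ.ker.subgroupOf S = (φ.comp S.subtype).ker from rfl, index_ker,
      ← MonoidHom.map_range, Subgroup.range_subtype, map_comap_eq_self_of_surjective hφ, Nat.card_zpowers, hg']
  have hfac : (Nat.card ↥S).factorization q = 1 := by
    rw [hS, Nat.factorization_mul hq.ne_zero Nat.card_pos.ne', Finsupp.add_apply, hq.factorization_self,
      Nat.factorization_eq_zero_of_not_dvd hco]
  have huS : u ∈ S := mem_zpowers _
  have hvS : m * u * m⁻¹ ∈ S := by
    rw [mem_comap, map_mul, map_mul, map_inv, hconj]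
    exact pow_mem (mem_zpowers _) a
  have hc : ∀ v : ↥S, orderOf (v : Γ) = q → Nat.card ↥(zpowers v) = q ^ (Nat.card ↥S).factorization q := fun v hv => by
    rw [hfac, pow_one, Nat.card_zpowers, ← Subgroup.orderOf_coe, hv]
  have hmu : orderOf (m * u * m⁻¹) = q := by rw [← MulAut.conj_apply, MulEquiv.orderOf_eq, hu]
  obtain ⟨s, hs⟩ := MulAction.exists_smul_eq ↥S (Sylow.ofCard (zpowers (⟨_, hvS⟩ : ↥S)) (hc _ hmu))
    (Sylow.ofCard (zpowers (⟨u, huS⟩ : ↥S)) (hc _ hu))
  have hmem : s * ⟨_, hvS⟩ * s⁻¹ ∈ zpowers (⟨u, huS⟩ : ↥S) := by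
    have h1 := congrArg (fun P : Sylow q ↥S => (P : Subgroup ↥S)) hs
    simp only [Sylow.coe_subgroup_smul, Sylow.coe_ofCard] at h1
    rw [← h1]
    exact ⟨⟨_, hvS⟩, mem_zpowers _, rfl⟩
  obtain ⟨i, hi⟩ := mem_zpowers_iff.1 hmem
  have hi' : u ^ i = (s : Γ) * m * u * ((s : Γ) * m)⁻¹ := by
    have h1 := congrArg Subtype.val hi
    simp only [SubgroupClass.coe_zpow, Subgroup.coe_mul, InvMemClass.coe_inv] at h1
    rw [h1]
    group
  refine ⟨u, (s : Γ) * m, hu, ?_⟩
  rw [← hi', ← zpow_natCast u a, zpow_eq_zpow_iff_modEq, hu]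
  have hsc : φ (s : Γ) * φ u ^ a * (φ (s : Γ))⁻¹ = φ u ^ a := by
    obtain ⟨j, hj⟩ := mem_zpowers_iff.1 (mem_comap.1 s.2)
    rw [← hj, (((Commute.refl (φ u)).pow_right a).zpow_left j).eq, mul_inv_cancel_right]
  have h2 : φ u ^ i = φ u ^ (a : ℤ) := by
    rw [zpow_natCast, ← hsc, ← map_zpow, hi', ← hconj, map_mul, map_mul, map_inv, map_mul]
    group
  rw [zpow_eq_zpow_iff_modEq, hg'] at h2
  exact h2

/-- An element conjugating to a power of prime multiplicative order enlarges the automizer by that order. -/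
theorem mul_centralizer_dvd_normalizer {Γ : Type u} [Group Γ] [Finite Γ] {u m : Γ} {a k : ℕ} (hk : k.Prime)
    (hm : m * u * m⁻¹ = u ^ a) (ha : u ^ a ≠ u) (hak : u ^ a ^ k = u) :
    k * Nat.card ↥(centralizer ({u} : Set Γ)) ∣ Nat.card ↥(normalizer (zpowers u : Set Γ)) := by
  haveI : Fact k.Prime := ⟨hk⟩
  have hpow : ∀ i : ℕ, m ^ i * u * (m ^ i)⁻¹ = u ^ a ^ i := by
    intro i
    induction i with
    | zero => simp
    | succ i ih =>
      calc m ^ (i + 1) * u * (m ^ (i + 1))⁻¹ = m * (m ^ i * u * (m ^ i)⁻¹) * m⁻¹ := by rw [pow_succ']; group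
        _ = (m * u * m⁻¹) ^ a ^ i := by rw [ih, conj_pow]
        _ = _ := by rw [hm, ← pow_mul, pow_succ']
  have hmN : m ∈ normalizer (zpowers u : Set Γ) := by
    refine mem_normalizer_fintype fun y hy => ?_
    obtain ⟨i, rfl⟩ := mem_zpowers_iff.1 hy
    rw [← conj_zpow, hm]
    exact zpow_mem (npow_mem_zpowers u a) i
  set φ := (zpowers u).normalizerMonoidHom
  have hker : Nat.card ↥φ.ker = Nat.card ↥(centralizer ({u} : Set Γ)) := by
    rw [normalizerMonoidHom_ker, Nat.card_congr (subgroupOfEquivOfLe (centralizer_le_normalizer _)).toEquiv,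
      zpowers_eq_closure, centralizer_closure]
  have hcz : centralizer (zpowers u : Set Γ) = centralizer ({u} : Set Γ) := by
    rw [zpowers_eq_closure, centralizer_closure]
  have hiff : ∀ i : ℕ, φ ⟨m, hmN⟩ ^ i = 1 ↔ m ^ i * u * (m ^ i)⁻¹ = u := by
    intro i
    rw [← map_pow, ← MonoidHom.mem_ker, normalizerMonoidHom_ker, mem_subgroupOf, hcz,
      mem_centralizer_singleton_iff, mul_inv_eq_iff_eq_mul]
    simp only [SubgroupClass.coe_pow]
  have hord : orderOf (φ ⟨m, hmN⟩) = k := by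
    refine orderOf_eq_prime ((hiff k).2 (by rw [hpow, hak])) fun e => ?_
    have h1 := (hiff 1).1 (by rw [pow_one]; exact e)
    rw [pow_one, hm] at h1
    exact ha h1
  rw [card_eq_card_quotient_mul_card_subgroup φ.ker, Nat.card_congr (QuotientGroup.quotientKerEquivRange φ).toEquiv,
    hker]
  exact Nat.mul_dvd_mul_right (hord ▸ Subgroup.orderOf_dvd_natCard φ.range ⟨_, rfl⟩) _

/-- In the group of degree 24 the doubling map conjugates the translation to its square. -/
theorem w_conj_t : LineTwentyThree.w * LineTwentyThree.t * LineTwentyThree.w⁻¹ = LineTwentyThree.t ^ 2 := by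
  rw [mul_inv_eq_iff_eq_mul, pow_two, mul_assoc]
  refine Equiv.ext fun p => ?_
  have ht : ∀ q, LineTwentyThree.t q = q.map (fun x : ZMod 23 => x + 1) := fun q => by
    rw [LineTwentyThree.t, ← shift_eq]
    cases q <;> simp
  have hw : ∀ q, LineTwentyThree.w q = q.map (fun x : ZMod 23 => 2 * x) := fun q => by
    have h := LineTwentyThree.pow_w 1 q
    simpa only [pow_one] using h
  simp only [Equiv.Perm.mul_apply, ht, hw]
  cases p
  · rfl
  · simp only [Option.map_some, mul_add, mul_one]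
    congr 1
    ring

namespace Ctx

variable {G : Type u} [Group G] [Finite G] {A : Type} [Group A] {J I R : Subgroup A}
  {z : G} {P : Subgroup G} (c : Ctx J I R z P)
include c

/-- Eleven divides the automizer at 23. -/
theorem eleven_dvd_automizer (hs : c.Split) (he : Extra J I R) :
    ∃ u : G, orderOf u = 23 ∧ 11 * Nat.card ↥(centralizer ({u} : Set G)) ∣
      Nat.card ↥(normalizer (zpowers u : Set G)) := by
  obtain ⟨φ, e, hker, hsurj, -, -⟩ := c.exists_hom_M24 hs he.card_NI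
  have ht : LineTwentyThree.t ∈ Cfsg.M24 := (LineTwentyThree.F_le LineTwentyThree.t_memF).1
  have hw : LineTwentyThree.w ∈ Cfsg.M24 := (LineTwentyThree.F_le LineTwentyThree.w_memF).1
  obtain ⟨u, m, hu, hm⟩ := exists_lift_automizer φ hsurj (q := 23) (a := 2) (by norm_num) (by
      rw [hker, Nat.card_congr (subgroupOfEquivOfLe le_normalizer).toEquiv, c.card_W]
      norm_num)
    (g := ⟨LineTwentyThree.t, ht⟩) (h := ⟨LineTwentyThree.w, hw⟩)
    (by rw [Subgroup.orderOf_mk, LineTwentyThree.t_order]) (Subtype.ext w_conj_t)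
  rw [← Subgroup.orderOf_coe] at hu
  refine ⟨(u : G), hu, mul_centralizer_dvd_normalizer (m := (m : G)) (a := 2) (by norm_num)
    (by simpa using congrArg Subtype.val hm) (fun h => ?_) ?_⟩
  · have h1 : (u : G) = 1 := mul_eq_left.1 (by rwa [pow_two] at h)
    rw [h1, orderOf_one] at hu
    norm_num at hu
  · rw [← pow_mod_orderOf, hu]
    norm_num

/-- Five divides the automizer at 31. -/
theorem five_dvd_automizer (hs : c.Split) (he : Extra J I R) (hx : SpreadFacts J I) :
    ∃ u : G, orderOf u = 31 ∧ 5 * Nat.card ↥(centralizer ({u} : Set G)) ∣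
      Nat.card ↥(normalizer (zpowers u : Set G)) := by
  obtain ⟨M, hN, -⟩ := c.ten_model hs he hx
  obtain ⟨B, -, -, -, ⟨eB⟩⟩ := M.exists_complement c.z_ne hN
  -- the multiplication by a primitive element of the field of 32 elements, and the squaring map
  let g : Matrix (Fin 5) (Fin 5) (ZMod 2) :=
    !![0, 0, 0, 0, 1; 1, 0, 0, 0, 0; 0, 1, 0, 0, 1; 0, 0, 1, 0, 0; 0, 0, 0, 1, 0]
  let g2 : Matrix (Fin 5) (Fin 5) (ZMod 2) :=
    !![0, 0, 0, 1, 0; 0, 0, 0, 0, 1; 1, 0, 0, 1, 0; 0, 1, 0, 0, 1; 0, 0, 1, 0, 0]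
  let g4 : Matrix (Fin 5) (Fin 5) (ZMod 2) :=
    !![0, 1, 0, 0, 1; 0, 0, 1, 0, 0; 0, 1, 0, 1, 1; 0, 0, 1, 0, 1; 1, 0, 0, 1, 0]
  let g8 : Matrix (Fin 5) (Fin 5) (ZMod 2) :=
    !![1, 0, 1, 1, 0; 0, 1, 0, 1, 1; 1, 0, 0, 1, 1; 1, 1, 0, 0, 1; 0, 1, 1, 0, 0]
  let g16 : Matrix (Fin 5) (Fin 5) (ZMod 2) :=
    !![1, 1, 1, 0, 0; 1, 1, 1, 1, 0; 0, 0, 0, 1, 1; 1, 0, 0, 0, 1; 1, 1, 0, 0, 0]
  let h : Matrix (Fin 5) (Fin 5) (ZMod 2) :=
    !![1, 0, 0, 0, 1; 0, 0, 0, 1, 0; 0, 1, 0, 0, 1; 0, 0, 0, 1, 1; 0, 0, 1, 0, 0]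
  let h4 : Matrix (Fin 5) (Fin 5) (ZMod 2) :=
    !![1, 1, 0, 1, 0; 0, 1, 1, 1, 0; 0, 0, 0, 0, 1; 0, 1, 0, 0, 0; 0, 1, 0, 1, 0]
  have e2 : g * g = g2 := by decide +kernel
  have e4 : g2 * g2 = g4 := by decide +kernel
  have e8 : g4 * g4 = g8 := by decide +kernel
  have e16 : g8 * g8 = g16 := by decide +kernel
  have e31 : g16 * g8 * g4 * g2 * g = 1 := by decide +kernel
  have eh : h4 * h = 1 := by decide +kernel
  have ehg : h * g = g2 * h := by decide +kernel
  have hdet : ∀ {a b : Matrix (Fin 5) (Fin 5) (ZMod 2)}, b * a = 1 → a.det = 1 := fun {a b} hab => by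
    have hu : IsUnit a.det := Matrix.isUnit_det_of_left_inverse hab
    have hne := hu.ne_zero
    revert hne
    generalize a.det = d
    revert d
    decide
  let G31 : Matrix.SpecialLinearGroup (Fin 5) (ZMod 2) := ⟨g, hdet e31⟩
  let H31 : Matrix.SpecialLinearGroup (Fin 5) (ZMod 2) := ⟨h, hdet eh⟩
  haveI : Fact (Nat.Prime 31) := ⟨by norm_num⟩
  have hG : orderOf G31 = 31 := by
    refine orderOf_eq_prime (Subtype.ext ?_) fun e => ?_
    · rw [Matrix.SpecialLinearGroup.coe_pow, Matrix.SpecialLinearGroup.coe_one]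
      show g ^ 31 = 1
      have p2 : g ^ 2 = g2 := by rw [pow_two, e2]
      have p4 : g ^ 4 = g4 := by rw [show 4 = 2 + 2 from rfl, pow_add, p2, e4]
      have p8 : g ^ 8 = g8 := by rw [show 8 = 4 + 4 from rfl, pow_add, p4, e8]
      have p16 : g ^ 16 = g16 := by rw [show 16 = 8 + 8 from rfl, pow_add, p8, e16]
      rw [show 31 = 16 + 8 + 4 + 2 + 1 from rfl, pow_add, pow_add, pow_add, pow_add, p16, p8, p4, p2, pow_one, e31]
    · have h0 : g = 1 := congrArg Subtype.val e
      have h00 := congrFun (congrFun h0 0) 0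
      revert h00
      decide +kernel
  have hHG : H31 * G31 * H31⁻¹ = G31 ^ 2 := by
    rw [mul_inv_eq_iff_eq_mul]
    refine Subtype.ext ?_
    show h * g = (g ^ 2) * h
    rw [pow_two, e2, ehg]
  set u : ↥B := eB.symm G31
  have hu : orderOf (u : G) = 31 := by rw [Subgroup.orderOf_coe, MulEquiv.orderOf_eq, hG]
  have hm : (eB.symm H31 : G) * (u : G) * (eB.symm H31 : G)⁻¹ = (u : G) ^ 2 := by
    have h1 := congrArg (fun y => ((eB.symm y : ↥B) : G)) hHG
    simpa only [map_mul, map_inv, map_pow, Subgroup.coe_mul, InvMemClass.coe_inv, SubgroupClass.coe_pow] using h1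
  refine ⟨(u : G), hu, mul_centralizer_dvd_normalizer (a := 2) (by norm_num) hm (fun e => ?_) ?_⟩
  · have h1 : (u : G) = 1 := mul_eq_left.1 (by rwa [pow_two] at e)
    rw [h1, orderOf_one] at hu
    norm_num at hu
  · rw [← pow_mod_orderOf, hu]
    norm_num

end Ctx

end CfsgLib.Spor.JFourType
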