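import Cfsg.Agent.Lib.Spor.JFourType.Order.ElevenCube
import Cfsg.Agent.Lib.Spor.JFourType.Order.LargeLocal
import Cfsg.Agent.Lib.Spor.JFourType.PrimeLift

/-!
# Elements of order eleven commuting with an element of order three

They are conjugate to powers of the chosen one, whose centralizer has no element of a large prime order: the
quaternion group would act faithfully on a group of prime order.
-/

set_option autoImplicit false
set_option linter.style.haveILetI false
set_option linter.unusedSectionVars false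

namespace CfsgLib.Spor.JFourType.Ctx

open Subgroup

universe u

variable {G : Type u} [Group G] [Finite G] {A : Type} [Group A] {J I R : Subgroup A}
  {z : G} {P : Subgroup G} (c : Ctx J I R z P)
include c

/-- No element of a large prime order commutes with an element of order eleven of `C0`. -/
theorem large_not_comm_C0 {p : ℕ} (hp : p.Prime) (h13 : 13 ≤ p) (h2 : ¬ p ^ 2 ∣ Nat.card G) {x u : G}
    (hx : x ∈ c.C0) (ho : orderOf x = 11) (hu : orderOf u = p) (hux : u * x = x * u) : False := by
  classical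
  haveI : Fact p.Prime := ⟨hp⟩
  haveI : Fact (Nat.Prime 2) := ⟨Nat.prime_two⟩
  set S := centralizer ({x} : Set G)
  have hzS : z ∈ S := mem_centralizer_singleton_iff.2 (c.comm_z hx.1).symm
  obtain ⟨e, heE, f, hfE, hex, hfx, hef⟩ := c.exists_comm_pair hx ho
  have hiso : Cfsg.IsIsolatedInvolution (⟨z, hzS⟩ : ↥S) := by
    refine ⟨by rw [Subgroup.orderOf_mk, c.ord], fun g hg => Subtype.ext ?_⟩
    exact c.eq_z_of_comm_eleven hx ho (CfsgLib.Invol.invol_conj c.ord _)
      (mem_centralizer_singleton_iff.2 (congrArg Subtype.val hg.eq).symm)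
      (mem_centralizer_singleton_iff.1 (g * ⟨z, hzS⟩ * g⁻¹ : ↥S).2)
  refine false_of_once (p := p) (L := ↥S) (z := ⟨z, hzS⟩) (T := c.E.subgroupOf S)
    (e := ⟨e, mem_centralizer_singleton_iff.2 hex⟩) (f := ⟨f, mem_centralizer_singleton_iff.2 hfx⟩)
    (by omega) hiso.1 (CfsgLib.Invol.zstar hiso) c.E_isPGroup.comap_subtype (mem_subgroupOf.2 heE)
    (mem_subgroupOf.2 hfE) (mem_subgroupOf.2 c.z_mem_E) (Subtype.ext hef) ?_ ?_
    (fun h => h2 (h.trans (card_subgroup_dvd_card S)))
  · intro hd
    have hle : Nat.card ↥(centralizer ({(⟨z, hzS⟩ : ↥S)} : Set ↥S)) ∣ Nat.card ↥c.H := by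
      rw [Nat.card_congr (equivMapOfInjective _ S.subtype S.subtype_injective).toEquiv]
      refine card_dvd_of_le ?_
      rintro _ ⟨g, hg, rfl⟩
      exact mem_centralizer_singleton_iff.2 (congrArg Subtype.val (mem_centralizer_singleton_iff.1 hg))
    have h := hd.trans hle
    rw [c.card_H_local, show 3 * 2 ^ 13 * (2 * 443520) = 2 ^ 21 * 3 ^ 3 * 5 * 7 * 11 by norm_num] at h
    have hq : ∀ {b : ℕ}, b.Prime → b < 13 → ¬ p ∣ b := fun hb hb' h' => by
      have := (Nat.prime_dvd_prime_iff_eq hp hb).1 h'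
      omega
    rcases hp.dvd_mul.1 h with h | h
    · rcases hp.dvd_mul.1 h with h | h
      · rcases hp.dvd_mul.1 h with h | h
        · rcases hp.dvd_mul.1 h with h | h
          · exact hq Nat.prime_two (by norm_num) (hp.dvd_of_dvd_pow h)
          · exact hq Nat.prime_three (by norm_num) (hp.dvd_of_dvd_pow h)
        · exact hq (show Nat.Prime 5 by norm_num) (by norm_num) h
      · exact hq (show Nat.Prime 7 by norm_num) (by norm_num) h
    · exact hq (show Nat.Prime 11 by norm_num) (by norm_num) h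
  · exact hu ▸ Subgroup.orderOf_dvd_natCard _ (mem_centralizer_singleton_iff.2 hux)

/-- No element of a large prime order commutes with an element of order eleven commuting with one of order three. -/
theorem large_not_comm_eleven (hs : c.Split) {p : ℕ} (hp : p.Prime) (h13 : 13 ≤ p) (h2 : ¬ p ^ 2 ∣ Nat.card G)
    {y w u : G} (hy : orderOf y = 11) (hw : orderOf w = 3) (hyw : y * w = w * y) (hu : orderOf u = p)
    (huy : u * y = y * u) : False := by
  obtain ⟨g, hg⟩ := isConj_iff.1 (c.isConj_three hs hw c.ord_pg)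
  set y' := g * y * g⁻¹
  have hyC : y' ∈ c.C0 := by
    rw [← c.centralizer_P_eq hs]
    refine mem_centralizer_iff.2 fun b hb => ?_
    obtain ⟨i, hi⟩ := mem_zpowers_iff.1 (c.zpowers_pg.symm ▸ hb : b ∈ zpowers c.pg)
    have h : Commute y' c.pg := by
      show g * y * g⁻¹ * c.pg = c.pg * (g * y * g⁻¹)
      rw [← hg, conj_mul, conj_mul, hyw]
    rw [← hi]
    exact (h.zpow_right i).eq.symm
  refine c.large_not_comm_C0 hp h13 h2 hyC ?_ (u := g * u * g⁻¹) ?_ ?_
  · show orderOf (g * y * g⁻¹) = 11
    rw [← MulAut.conj_apply, MulEquiv.orderOf_eq, hy]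
  · rw [← MulAut.conj_apply, MulEquiv.orderOf_eq, hu]
  · show g * u * g⁻¹ * (g * y * g⁻¹) = g * y * g⁻¹ * (g * u * g⁻¹)
    rw [conj_mul, conj_mul, huy]

end CfsgLib.Spor.JFourType.Ctx
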