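import Cfsg.Agent.Lib.Spor.JFourType.Order.LargeEleven

/-!
# From one large prime to another in its centralizer

For `q` in the centralizer of a subgroup `U` of order `p`, an element of small prime order of the normalizer of `U`
may be chosen to normalize a Sylow `q`-subgroup of the centralizer (Frattini).
-/

set_option autoImplicit false
set_option linter.style.haveILetI false
set_option linter.unusedSectionVars false

namespace CfsgLib.Spor.JFourType.Ctx

open Subgroup

universe u

variable {G : Type u} [Group G] [Finite G] {A : Type} [Group A] {J I R : Subgroup A}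
  {z : G} {P : Subgroup G} (c : Ctx J I R z P)

/-- The index of the centralizer in the normalizer of a cyclic subgroup. -/
theorem exists_normalizing {p q r : ℕ} (hp : p.Prime) (hq : q.Prime) (hr : r.Prime) {u : G} (hu : orderOf u = p)
    {e k : ℕ} (hC : Nat.card ↥(centralizer ({u} : Set G)) = p * k)
    (hN : Nat.card ↥(normalizer (zpowers u : Set G)) = p * e * k) (hre : r ∣ e) (hrC : ¬ r ∣ p * k)
    (hqk : q ∣ k) (hq2 : ¬ q ^ 2 ∣ p * k) :
    ∃ v w : G, orderOf v = q ∧ orderOf w = r ∧ v * u = u * v ∧ w ∈ normalizer (zpowers v : Set G) ∧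
      w ∈ normalizer (zpowers u : Set G) := by
  classical
  haveI : Fact q.Prime := ⟨hq⟩
  haveI : Fact r.Prime := ⟨hr⟩
  set N := normalizer (zpowers u : Set G)
  set C := centralizer ({u} : Set G)
  have hCeq : centralizer (zpowers u : Set G) = C := by rw [zpowers_eq_closure, centralizer_closure]
  have hCN : C ≤ N := hCeq ▸ centralizer_le_normalizer _
  haveI hn : (C.subgroupOf N).Normal := by
    rw [← hCeq, ← normalizerMonoidHom_ker]
    infer_instance
  set C' := C.subgroupOf N
  have hC' : Nat.card ↥C' = p * k := by rw [Nat.card_congr (subgroupOfEquivOfLe hCN).toEquiv, hC]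
  let S : Sylow q ↥C' := default
  set Q : Subgroup ↥N := (S : Subgroup ↥C').map C'.subtype
  set M := normalizer (Q : Set ↥N)
  have hsup : M ⊔ C' = ⊤ := Sylow.normalizer_sup_eq_top S
  have hdvd : r ∣ Nat.card ↥M := by
    have hidx : r ∣ C'.index := by
      have h := C'.card_mul_index
      rw [hC', hN] at h
      have hrpk : r.Coprime (p * k) := hr.coprime_iff_not_dvd.2 hrC
      refine hrpk.dvd_of_dvd_mul_left (h ▸ ?_)
      exact Dvd.dvd.mul_right (Dvd.dvd.mul_left hre p) k
    refine hidx.trans ?_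
    rw [← relIndex_top_right, ← hsup, relIndex_sup_right]
    exact relIndex_dvd_card C' M
  have hQc : Nat.card ↥Q = q := by
    rw [← Nat.card_congr (equivMapOfInjective _ C'.subtype C'.subtype_injective).toEquiv, S.card_eq_multiplicity,
      hC']
    have hpos : p * k ≠ 0 := hC' ▸ Nat.card_pos.ne'
    have h1 := (hq.dvd_iff_one_le_factorization hpos).1 (Dvd.dvd.mul_left hqk p)
    have h2 : (p * k).factorization q < 2 := by
      by_contra hge
      exact hq2 ((hq.pow_dvd_iff_le_factorization hpos).2 (Nat.not_lt.1 hge))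
    rw [show (p * k).factorization q = 1 by omega, pow_one]
  obtain ⟨w, hw⟩ := exists_prime_orderOf_dvd_card' (G := ↥M) r hdvd
  obtain ⟨v, hv⟩ := exists_prime_orderOf_dvd_card' (G := ↥Q) q (by rw [hQc])
  rw [← Subgroup.orderOf_coe] at hw hv
  rw [← Subgroup.orderOf_coe] at hw hv
  have hQv : zpowers (v : ↥N) = Q := eq_of_le_of_card_ge (zpowers_le.2 v.2)
    (by rw [Nat.card_zpowers, ← Subgroup.orderOf_coe, hv, hQc])
  refine ⟨((v : ↥N) : G), ((w : ↥N) : G), hv, hw, ?_, ?_, (w : ↥N).2⟩
  · obtain ⟨a, -, ha⟩ := v.2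
    rw [← ha]
    exact mem_centralizer_singleton_iff.1 a.2
  · refine mem_normalizer_iff.2 fun b => ?_
    have hmap : zpowers ((v : ↥N) : G) = Q.map N.subtype := by
      conv_rhs => rw [← hQv]
      rw [MonoidHom.map_zpowers]
      rfl
    rw [hmap]
    have hwn := mem_normalizer_iff.1 w.2
    constructor
    · rintro ⟨a, ha, rfl⟩
      exact ⟨(w : ↥N) * a * (w : ↥N)⁻¹, (hwn a).1 ha, rfl⟩
    · rintro ⟨a, ha, hab⟩
      refine ⟨(w : ↥N)⁻¹ * a * (w : ↥N), (hwn _).2 ?_, ?_⟩
      · rwa [show (w : ↥N) * ((w : ↥N)⁻¹ * a * (w : ↥N)) * (w : ↥N)⁻¹ = a by group]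
      · show ((w : ↥N) : G)⁻¹ * (a : G) * ((w : ↥N) : G) = b
        rw [show (a : G) = ((w : ↥N) : G) * b * ((w : ↥N) : G)⁻¹ from hab]
        group

include c

/-- The small primes of the automizer pass to a large prime in the centralizer. -/
theorem dvd_automizer (hs : c.Split) (F : FiveSeven J I R) (he : Extra J I R) {p q r : ℕ} (hp : p.Prime)
    (hq : q.Prime) (hq13 : 13 ≤ q) (hr : r = 2 ∨ r = 3 ∨ r = 5 ∨ r = 7) {u : G} (hu : orderOf u = p)
    {e k : ℕ} (hC : Nat.card ↥(centralizer ({u} : Set G)) = p * k)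
    (hN : Nat.card ↥(normalizer (zpowers u : Set G)) = p * e * k) (hre : r ∣ e) (hrC : ¬ r ∣ p * k)
    (hqk : q ∣ k) (hq2 : ¬ q ^ 2 ∣ p * k) :
    ∃ v : G, orderOf v = q ∧ r * Nat.card ↥(centralizer ({v} : Set G)) ∣
      Nat.card ↥(normalizer (zpowers v : Set G)) := by
  have hrp : r.Prime := by rcases hr with rfl | rfl | rfl | rfl <;> norm_num
  haveI : Fact r.Prime := ⟨hrp⟩
  obtain ⟨v, w, hv, hw, -, hwv, -⟩ := exists_normalizing hp hq hrp hu hC hN hre hrC hqk hq2
  refine ⟨v, hv, ?_⟩
  set N := normalizer (zpowers v : Set G)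
  set φ := (zpowers v).normalizerMonoidHom
  have hCeq : centralizer (zpowers v : Set G) = centralizer ({v} : Set G) := by
    rw [zpowers_eq_closure, centralizer_closure]
  have hker : Nat.card ↥φ.ker = Nat.card ↥(centralizer ({v} : Set G)) := by
    rw [normalizerMonoidHom_ker, Nat.card_congr (subgroupOfEquivOfLe (centralizer_le_normalizer _)).toEquiv, hCeq]
  have hne : φ ⟨w, hwv⟩ ≠ 1 := fun h => by
    have hm : (⟨w, hwv⟩ : ↥N) ∈ φ.ker := MonoidHom.mem_ker.2 h
    rw [normalizerMonoidHom_ker, mem_subgroupOf, hCeq] at hm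
    exact c.small_not_comm hs F he hq hq13 hr hw hv (mem_centralizer_singleton_iff.1 hm)
  have hord : orderOf (φ ⟨w, hwv⟩) = r := orderOf_eq_prime (by
    rw [← map_pow, show (⟨w, hwv⟩ : ↥N) ^ r = 1 from Subtype.ext (by
      rw [SubgroupClass.coe_pow, OneMemClass.coe_one, ← hw, pow_orderOf_eq_one]), map_one]) hne
  rw [card_eq_card_quotient_mul_card_subgroup φ.ker, Nat.card_congr (QuotientGroup.quotientKerEquivRange φ).toEquiv,
    hker]
  exact Nat.mul_dvd_mul_right (hord ▸ Subgroup.orderOf_dvd_natCard φ.range ⟨_, rfl⟩) _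

/-- An element of order three normalizing a subgroup of order eleven in the centralizer is impossible. -/
theorem false_of_three_eleven (hs : c.Split) {p : ℕ} (hp : p.Prime) (h13 : 13 ≤ p)
    (h2 : ¬ p ^ 2 ∣ Nat.card G) {u : G} (hu : orderOf u = p) {e k : ℕ}
    (hC : Nat.card ↥(centralizer ({u} : Set G)) = p * k)
    (hN : Nat.card ↥(normalizer (zpowers u : Set G)) = p * e * k) (hre : 3 ∣ e) (hrC : ¬ 3 ∣ p * k)
    (hqk : 11 ∣ k) (hq2 : ¬ 11 ^ 2 ∣ p * k) : False := by
  haveI : Fact (Nat.Prime 3) := ⟨Nat.prime_three⟩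
  obtain ⟨v, w, hv, hw, hvu, hwv, -⟩ :=
    exists_normalizing hp (show Nat.Prime 11 by norm_num) Nat.prime_three hu hC hN hre hrC hqk hq2
  -- an automorphism of order three of a group of order eleven is trivial
  have hvw : v * w = w * v := by
    have hm : w * v * w⁻¹ ∈ zpowers v := (mem_normalizer_iff.1 hwv v).1 (mem_zpowers v)
    set φ := (zpowers v).normalizerMonoidHom
    have h3 : orderOf (φ ⟨w, hwv⟩) ∣ 3 := (orderOf_map_dvd φ _).trans (by rw [Subgroup.orderOf_mk, hw])
    have h10 : orderOf (φ ⟨w, hwv⟩) ∣ 10 := by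
      haveI : IsCyclic ↥(zpowers v) := inferInstance
      have h := orderOf_dvd_natCard (φ ⟨w, hwv⟩)
      rw [IsCyclic.card_mulAut, Nat.card_zpowers, hv, Nat.totient_prime (show Nat.Prime 11 by norm_num)] at h
      exact h
    have h1 : φ ⟨w, hwv⟩ = 1 := orderOf_eq_one_iff.1 (Nat.eq_one_of_dvd_coprimes (by norm_num) h3 h10)
    have hmem : (⟨w, hwv⟩ : ↥(normalizer (zpowers v : Set G))) ∈ φ.ker := MonoidHom.mem_ker.2 h1
    rw [normalizerMonoidHom_ker, mem_subgroupOf] at hmem
    exact mem_centralizer_iff.1 hmem v (mem_zpowers v)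
  exact c.large_not_comm_eleven hs hp h13 h2 hv hw hvw hu hvu.symm

end CfsgLib.Spor.JFourType.Ctx
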