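import Cfsg.Agent.Lib.Spor.JFourType.Order.LargeArith
import Cfsg.Agent.Lib.Spor.JFourType.Order.LargeTransfer
import Cfsg.Agent.Lib.Spor.JFourType.Order.LargeElements
import Cfsg.Agent.Lib.Spor.JFourType.Order.Killer

/-!
# The five primes from 23 on

With the order known, the Sylow congruence leaves a short list at each prime; a prime dividing the centralizer of
another forces the converse and the same small primes in both automizers, and this leaves one pair at each.
-/

set_option autoImplicit false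
set_option linter.style.haveILetI false
set_option linter.unusedSectionVars false

namespace CfsgLib.Spor.JFourType.Ctx

open Subgroup

universe u

variable {G : Type u} [Group G] [Finite G] {A : Type} [Group A] {J I R : Subgroup A}
  {z : G} {P : Subgroup G} (c : Ctx J I R z P)

/-- All elements of order `p` have centralizers of order `p * k` and normalizers of order `p * e * k`. -/
def Shape (G : Type u) [Group G] (p e k : ℕ) : Prop :=
  ∀ u : G, orderOf u = p → Nat.card ↥(centralizer ({u} : Set G)) = p * k ∧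
    Nat.card ↥(normalizer (zpowers u : Set G)) = p * e * k

/-- Two elements of a prime order which divides the order once have centralizers and normalizers of equal order. -/
theorem card_local_eq {p : ℕ} (hp : p.Prime) (h2 : ¬ p ^ 2 ∣ Nat.card G) {u v : G} (hu : orderOf u = p)
    (hv : orderOf v = p) :
    Nat.card ↥(centralizer ({u} : Set G)) = Nat.card ↥(centralizer ({v} : Set G)) ∧
      Nat.card ↥(normalizer (zpowers u : Set G)) = Nat.card ↥(normalizer (zpowers v : Set G)) := by
  haveI : Fact p.Prime := ⟨hp⟩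
  have hfac : (Nat.card G).factorization p = 1 := by
    have h := (hp.dvd_iff_one_le_factorization Nat.card_pos.ne').1 (hu ▸ orderOf_dvd_natCard u)
    by_contra hne
    exact h2 ((hp.pow_dvd_iff_le_factorization Nat.card_pos.ne').2 (by omega))
  have hcz : ∀ {w : G}, orderOf w = p → Nat.card ↥(zpowers w) = p ^ (Nat.card G).factorization p := fun h => by
    rw [hfac, pow_one, Nat.card_zpowers, h]
  obtain ⟨g, hg⟩ := MulAction.exists_smul_eq G (Sylow.ofCard (zpowers u) (hcz hu))
    (Sylow.ofCard (zpowers v) (hcz hv))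
  have hmap : (zpowers u).map (MulAut.conj g).toMonoidHom = zpowers v := by
    have h1 := congrArg (fun S : Sylow p G => (S : Subgroup G)) hg
    simp only [Sylow.coe_subgroup_smul, Sylow.coe_ofCard] at h1
    rw [← h1]
    rfl
  refine ⟨?_, ?_⟩
  · have hgu : zpowers (g * u * g⁻¹) = zpowers v := by
      rw [← hmap, MonoidHom.map_zpowers]
      rfl
    rw [← card_centralizer_conj g u, ← centralizer_closure ({g * u * g⁻¹} : Set G), ← zpowers_eq_closure, hgu,
      zpowers_eq_closure, centralizer_closure]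
  · rw [← hmap, ← map_equiv_normalizer_eq]
    exact Nat.card_congr (equivMapOfInjective _ _ (MulAut.conj g).injective).toEquiv

include c

/-- The shape at a prime with its facts. -/
theorem exists_shape (hs : c.Split) (F : FiveSeven J I R) (he : Extra J I R) (hX : c.zclass = 3980549947) {p : ℕ}
    (hp : p.Prime) (h13 : 13 ≤ p) (h1 : p ∣ Kill.ord4) (h2 : ¬ p ^ 2 ∣ Kill.ord4) :
    ∃ e k, Shape G p e k ∧ e ∣ p - 1 ∧ k.Coprime 210 ∧ p * e * k ∣ Kill.ord4 ∧
      Kill.ord4 / (p * e * k) % p = 1 := by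
  haveI : Fact p.Prime := ⟨hp⟩
  have hG : Nat.card G = Kill.ord4 := c.card_eq_orderFor hX
  rw [← hG] at h1 h2
  obtain ⟨u, hu⟩ := exists_prime_orderOf_dvd_card' (G := G) p h1
  obtain ⟨e, k, hC, hN, hep, hk, hmod⟩ := c.normalizer_shape hs F he hp h13 h2 hu
  refine ⟨e, k, fun v hv => ?_, hep, hk, hG ▸ hN ▸ card_subgroup_dvd_card _, hG ▸ hmod⟩
  obtain ⟨eC, eN⟩ := card_local_eq hp h2 hv hu
  exact ⟨eC.trans hC, eN.trans hN⟩

/-- One large prime in the centralizer of another. -/
theorem compat_shapes (hs : c.Split) (F : FiveSeven J I R) (he : Extra J I R) {p q ep kp eq kq : ℕ} (hp : p.Prime)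
    (hq : q.Prime) (hp13 : 13 ≤ p) (hq13 : 13 ≤ q) (hpq : p ≠ q) (hp1 : p ∣ Nat.card G) (hq1 : q ∣ Nat.card G)
    (hp2 : ¬ p ^ 2 ∣ Nat.card G) (hq2 : ¬ q ^ 2 ∣ Nat.card G) (hsp : Shape G p ep kp) (hsq : Shape G q eq kq) :
    Kill.compat p q (ep, kp) (eq, kq) = true := by
  -- passing from one prime to the other
  have key : ∀ {p q ep kp eq kq : ℕ}, p.Prime → q.Prime → 13 ≤ p → 13 ≤ q → p ≠ q → p ∣ Nat.card G →
      ¬ q ^ 2 ∣ Nat.card G → Shape G p ep kp → Shape G q eq kq → q ∣ kp →
      p ∣ kq ∧ ∀ r ∈ [2, 3, 5, 7], r ∣ ep → r ∣ eq := by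
    intro p q ep kp eq kq hp hq hp13 hq13 hne hp1 hq2 hsp hsq hqk
    haveI : Fact p.Prime := ⟨hp⟩
    haveI : Fact q.Prime := ⟨hq⟩
    obtain ⟨u, hu⟩ := exists_prime_orderOf_dvd_card' (G := G) p hp1
    obtain ⟨hC, hN⟩ := hsp u hu
    obtain ⟨v, hv⟩ := exists_prime_orderOf_dvd_card' (G := ↥(centralizer ({u} : Set G))) q
      (hC ▸ Dvd.dvd.mul_left hqk p)
    rw [← Subgroup.orderOf_coe] at hv
    refine ⟨?_, fun r hr hre => ?_⟩
    · have hd : p ∣ q * kq := by
        rw [← (hsq _ hv).1, ← hu]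
        exact Subgroup.orderOf_dvd_natCard _
          (mem_centralizer_singleton_iff.2 (mem_centralizer_singleton_iff.1 v.2).symm)
      exact (hp.dvd_mul.1 hd).resolve_left fun h => hne ((Nat.prime_dvd_prime_iff_eq hp hq).1 h)
    · have hr' : r = 2 ∨ r = 3 ∨ r = 5 ∨ r = 7 := by simpa using hr
      have hrp : r.Prime := by rcases hr' with rfl | rfl | rfl | rfl <;> norm_num
      have hco := c.coprime_centralizer hs F he hp hp13 hu
      rw [hC] at hco
      have hrC : ¬ r ∣ p * kp := fun h => by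
        have h' := hco.coprime_dvd_left h
        rcases hr' with rfl | rfl | rfl | rfl <;> norm_num at h'
      obtain ⟨v', hv', hd⟩ := c.dvd_automizer hs F he hp hq hq13 hr' hu hC hN hre hrC hqk
        fun h => hq2 (h.trans (hC ▸ card_subgroup_dvd_card (centralizer ({u} : Set G))))
      obtain ⟨hC', hN'⟩ := hsq v' hv'
      rw [hC', hN', mul_comm q eq, mul_assoc] at hd
      have hpos : 0 < q * kq := hC' ▸ Nat.card_pos
      exact Nat.dvd_of_mul_dvd_mul_right hpos hd
  refine Kill.compat_of ⟨fun h => (key hp hq hp13 hq13 hpq hp1 hq2 hsp hsq h).1,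
    fun h => (key hq hp hq13 hp13 hpq.symm hq1 hp2 hsq hsp h).1⟩ fun h r hr => ?_
  obtain ⟨h', hr1⟩ := key hp hq hp13 hq13 hpq hp1 hq2 hsp hsq h
  exact ⟨hr1 r hr, (key hq hp hq13 hp13 hpq.symm hq1 hp2 hsq hsp h').2 r hr⟩

/-- The five pairs. -/
theorem large_shapes (hs : c.Split) (F : FiveSeven J I R) (he : Extra J I R) (hx : SpreadFacts J I)
    (hX : c.zclass = 3980549947) :
    Shape G 23 22 1 ∧ Shape G 29 28 1 ∧ Shape G 31 10 1 ∧ Shape G 37 12 1 ∧ Shape G 43 14 1 := by
  have hG : Nat.card G = Kill.ord4 := c.card_eq_orderFor hX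
  have P23 : Nat.Prime 23 := by norm_num
  have P29 : Nat.Prime 29 := by norm_num
  have P31 : Nat.Prime 31 := by norm_num
  have P37 : Nat.Prime 37 := by norm_num
  have P43 : Nat.Prime 43 := by norm_num
  have g1 : ∀ p ∈ [23, 29, 31, 37, 43], p ∣ Kill.ord4 ∧ ¬ p ^ 2 ∣ Kill.ord4 := by decide +kernel
  obtain ⟨e23, k23, s23, a23, b23, f23, m23⟩ :=
    c.exists_shape hs F he hX P23 (by norm_num) (g1 23 (by simp)).1 (g1 23 (by simp)).2
  obtain ⟨e29, k29, s29, a29, b29, f29, m29⟩ :=
    c.exists_shape hs F he hX P29 (by norm_num) (g1 29 (by simp)).1 (g1 29 (by simp)).2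
  obtain ⟨e31, k31, s31, a31, b31, f31, m31⟩ :=
    c.exists_shape hs F he hX P31 (by norm_num) (g1 31 (by simp)).1 (g1 31 (by simp)).2
  obtain ⟨e37, k37, s37, a37, b37, f37, m37⟩ :=
    c.exists_shape hs F he hX P37 (by norm_num) (g1 37 (by simp)).1 (g1 37 (by simp)).2
  obtain ⟨e43, k43, s43, a43, b43, f43, m43⟩ :=
    c.exists_shape hs F he hX P43 (by norm_num) (g1 43 (by simp)).1 (g1 43 (by simp)).2
  -- eleven and five divide two of the automizers
  have h11 : 11 ∣ e23 := by
    obtain ⟨u, hu, hd⟩ := c.eleven_dvd_automizer hs he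
    obtain ⟨hC, hN⟩ := s23 u hu
    rw [hC, hN, mul_comm 23 e23, mul_assoc] at hd
    have hpos : 0 < 23 * k23 := hC ▸ Nat.card_pos
    exact Nat.dvd_of_mul_dvd_mul_right hpos hd
  have h5 : 5 ∣ e31 := by
    obtain ⟨u, hu, hd⟩ := c.five_dvd_automizer hs he hx
    obtain ⟨hC, hN⟩ := s31 u hu
    rw [hC, hN, mul_comm 31 e31, mul_assoc] at hd
    have hpos : 0 < 31 * k31 := hC ▸ Nat.card_pos
    exact Nat.dvd_of_mul_dvd_mul_right hpos hd
  -- eleven alone in the centralizer excludes three in the automizer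
  have h31 : ¬ (3 ∣ e31 ∧ k31 = 11) := by
    rintro ⟨h3, rfl⟩
    haveI : Fact (Nat.Prime 31) := ⟨P31⟩
    obtain ⟨u, hu⟩ := exists_prime_orderOf_dvd_card' (G := G) 31 (hG ▸ (g1 31 (by simp)).1)
    obtain ⟨hC, hN⟩ := s31 u hu
    exact c.false_of_three_eleven hs P31 (by norm_num) (hG ▸ (g1 31 (by simp)).2) hu hC hN h3 (by norm_num)
      (dvd_refl 11) (by norm_num)
  have m1 : (e23, k23) ∈ Kill.d23 := List.mem_filter.2
    ⟨Kill.mem_opts (by decide +kernel) (by decide +kernel) (by norm_num) (by decide +kernel) (by decide +kernel)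
      (by decide +kernel) a23 b23 f23 m23, by simpa using Nat.mod_eq_zero_of_dvd h11⟩
  have m2 : (e29, k29) ∈ Kill.d29 :=
    Kill.mem_opts (by decide +kernel) (by decide +kernel) (by norm_num) (by decide +kernel) (by decide +kernel)
      (by decide +kernel) a29 b29 f29 m29
  have m3 : (e31, k31) ∈ Kill.d31 := List.mem_filter.2
    ⟨Kill.mem_opts (by decide +kernel) (by decide +kernel) (by norm_num) (by decide +kernel) (by decide +kernel)
      (by decide +kernel) a31 b31 f31 m31, by
        rw [Bool.and_eq_true, decide_eq_true_eq]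
        refine ⟨Nat.mod_eq_zero_of_dvd h5, ?_⟩
        rw [Bool.not_eq_true', Bool.and_eq_false_iff, decide_eq_false_iff_not, decide_eq_false_iff_not]
        by_cases h : k31 = 11
        · exact Or.inl fun h' => h31 ⟨Nat.dvd_of_mod_eq_zero h', h⟩
        · exact Or.inr h⟩
  have m4 : (e37, k37) ∈ Kill.d37 :=
    Kill.mem_opts (by decide +kernel) (by decide +kernel) (by norm_num) (by decide +kernel) (by decide +kernel)
      (by decide +kernel) a37 b37 f37 m37
  have m5 : (e43, k43) ∈ Kill.d43 :=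
    Kill.mem_opts (by decide +kernel) (by decide +kernel) (by norm_num) (by decide +kernel) (by decide +kernel)
      (by decide +kernel) a43 b43 f43 m43
  have co : ∀ {p q ep kp eq kq : ℕ}, p ∈ [23, 29, 31, 37, 43] → q ∈ [23, 29, 31, 37, 43] → p.Prime → q.Prime →
      13 ≤ p → 13 ≤ q → p ≠ q → Shape G p ep kp → Shape G q eq kq → Kill.compat p q (ep, kp) (eq, kq) = true := by
    intro p q ep kp eq kq hpm hqm hp hq hp13 hq13 hpq sp sq
    exact c.compat_shapes hs F he hp hq hp13 hq13 hpq (hG ▸ (g1 p hpm).1) (hG ▸ (g1 q hqm).1)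
      (hG ▸ (g1 p hpm).2) (hG ▸ (g1 q hqm).2) sp sq
  have c1 := co (p := 23) (q := 31) (by simp) (by simp) P23 P31 (by norm_num) (by norm_num) (by norm_num) s23 s31
  have c2 := co (p := 23) (q := 43) (by simp) (by simp) P23 P43 (by norm_num) (by norm_num) (by norm_num) s23 s43
  have r1 := Kill.mem_restrict (Kill.mem_restrict m1 m3 c1) m5 c2
  rw [Kill.r23, List.mem_singleton, Prod.mk.injEq] at r1
  obtain ⟨rfl, rfl⟩ := r1
  have n1 : (22, 1) ∈ [((22 : ℕ), (1 : ℕ))] := List.mem_singleton_self _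
  have c3 := co (p := 29) (q := 23) (by simp) (by simp) P29 P23 (by norm_num) (by norm_num) (by norm_num) s29 s23
  have c4 := co (p := 29) (q := 31) (by simp) (by simp) P29 P31 (by norm_num) (by norm_num) (by norm_num) s29 s31
  have c5 := co (p := 29) (q := 37) (by simp) (by simp) P29 P37 (by norm_num) (by norm_num) (by norm_num) s29 s37
  have c6 := co (p := 29) (q := 43) (by simp) (by simp) P29 P43 (by norm_num) (by norm_num) (by norm_num) s29 s43
  have r2 := Kill.mem_restrict (Kill.mem_restrict (Kill.mem_restrict (Kill.mem_restrict m2 n1 c3) m3 c4) m4 c5) m5 c6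
  rw [Kill.r29, List.mem_singleton, Prod.mk.injEq] at r2
  obtain ⟨rfl, rfl⟩ := r2
  have n2 : (28, 1) ∈ [((28 : ℕ), (1 : ℕ))] := List.mem_singleton_self _
  have c7 := co (p := 31) (q := 23) (by simp) (by simp) P31 P23 (by norm_num) (by norm_num) (by norm_num) s31 s23
  have c8 := co (p := 31) (q := 29) (by simp) (by simp) P31 P29 (by norm_num) (by norm_num) (by norm_num) s31 s29
  have c9 := co (p := 31) (q := 37) (by simp) (by simp) P31 P37 (by norm_num) (by norm_num) (by norm_num) s31 s37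
  have r3 := Kill.mem_restrict (Kill.mem_restrict (Kill.mem_restrict m3 n1 c7) n2 c8) m4 c9
  rw [Kill.r31, List.mem_singleton, Prod.mk.injEq] at r3
  obtain ⟨rfl, rfl⟩ := r3
  have n3 : (10, 1) ∈ [((10 : ℕ), (1 : ℕ))] := List.mem_singleton_self _
  have d1 := co (p := 37) (q := 23) (by simp) (by simp) P37 P23 (by norm_num) (by norm_num) (by norm_num) s37 s23
  have d2 := co (p := 37) (q := 29) (by simp) (by simp) P37 P29 (by norm_num) (by norm_num) (by norm_num) s37 s29
  have d3 := co (p := 37) (q := 31) (by simp) (by simp) P37 P31 (by norm_num) (by norm_num) (by norm_num) s37 s31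
  have d4 := co (p := 37) (q := 43) (by simp) (by simp) P37 P43 (by norm_num) (by norm_num) (by norm_num) s37 s43
  have r4 := Kill.mem_restrict (Kill.mem_restrict (Kill.mem_restrict (Kill.mem_restrict m4 n1 d1) n2 d2) n3 d3) m5 d4
  rw [Kill.r37, List.mem_singleton, Prod.mk.injEq] at r4
  obtain ⟨rfl, rfl⟩ := r4
  have d5 := co (p := 43) (q := 23) (by simp) (by simp) P43 P23 (by norm_num) (by norm_num) (by norm_num) s43 s23
  have d6 := co (p := 43) (q := 29) (by simp) (by simp) P43 P29 (by norm_num) (by norm_num) (by norm_num) s43 s29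
  have d7 := co (p := 43) (q := 31) (by simp) (by simp) P43 P31 (by norm_num) (by norm_num) (by norm_num) s43 s31
  have r5 := Kill.mem_restrict (Kill.mem_restrict (Kill.mem_restrict m5 n1 d5) n2 d6) n3 d7
  rw [Kill.r43, List.mem_singleton, Prod.mk.injEq] at r5
  obtain ⟨rfl, rfl⟩ := r5
  exact ⟨s23, s29, s31, s37, s43⟩

/-- The Sylow subgroups at the five primes. -/
theorem large_primes (hs : c.Split) (F : FiveSeven J I R) (he : Extra J I R) (hx : SpreadFacts J I)
    (hX : c.zclass = 3980549947) :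
    ∀ p e : ℕ, (p, e) ∈ [(23, 22), (29, 28), (31, 10), (37, 12), (43, 14)] → ∀ U : Sylow p G,
      centralizer ((U : Subgroup G) : Set G) = (U : Subgroup G) ∧
        Nat.card ↥(normalizer ((U : Subgroup G) : Set G)) = p * e := by
  intro p e hpe U
  obtain ⟨t1, t2, t3, t4, t5⟩ := c.large_shapes hs F he hx hX
  have hG : Nat.card G = Kill.ord4 := c.card_eq_orderFor hX
  have hall : p.Prime ∧ p ∣ Kill.ord4 ∧ ¬ p ^ 2 ∣ Kill.ord4 ∧ Shape G p e 1 := by
    simp only [List.mem_cons, Prod.mk.injEq, List.not_mem_nil, or_false] at hpe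
    rcases hpe with ⟨rfl, rfl⟩ | ⟨rfl, rfl⟩ | ⟨rfl, rfl⟩ | ⟨rfl, rfl⟩ | ⟨rfl, rfl⟩
    exacts [⟨by norm_num, by decide +kernel, by decide +kernel, t1⟩,
      ⟨by norm_num, by decide +kernel, by decide +kernel, t2⟩,
      ⟨by norm_num, by decide +kernel, by decide +kernel, t3⟩,
      ⟨by norm_num, by decide +kernel, by decide +kernel, t4⟩,
      ⟨by norm_num, by decide +kernel, by decide +kernel, t5⟩]
  obtain ⟨hp, h1, h2, hsh⟩ := hall
  rw [← hG] at h1 h2
  haveI : Fact p.Prime := ⟨hp⟩
  have hU : Nat.card ↥(U : Subgroup G) = p := by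
    have h := (hp.dvd_iff_one_le_factorization Nat.card_pos.ne').1 h1
    have h' : (Nat.card G).factorization p < 2 := by
      by_contra hge
      exact h2 ((hp.pow_dvd_iff_le_factorization Nat.card_pos.ne').2 (Nat.not_lt.1 hge))
    rw [U.card_eq_multiplicity, show (Nat.card G).factorization p = 1 by omega, pow_one]
  obtain ⟨u, hu⟩ := exists_prime_orderOf_dvd_card' (G := ↥(U : Subgroup G)) p (by rw [hU])
  rw [← Subgroup.orderOf_coe] at hu
  have hUu : zpowers (u : G) = (U : Subgroup G) :=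
    eq_of_le_of_card_ge (zpowers_le.2 u.2) (by rw [Nat.card_zpowers, hu, hU])
  obtain ⟨hC, hN⟩ := hsh _ hu
  have hcent : centralizer (zpowers (u : G) : Set G) = centralizer ({(u : G)} : Set G) := by
    rw [zpowers_eq_closure, centralizer_closure]
  rw [← hUu, hcent]
  refine ⟨(eq_of_le_of_card_ge (zpowers_le.2 (mem_centralizer_singleton_iff.2 rfl)) ?_).symm, by rw [hN, mul_one]⟩
  rw [hC, mul_one, Nat.card_zpowers, hu]

end CfsgLib.Spor.JFourType.Ctx
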