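import Cfsg.Agent.Lib.Spor.JFourType.Order.Pgl23
import Cfsg.Agent.Lib.Spor.JFourType.Order.Fixers
import Cfsg.Agent.Lib.Spor.JFourType.Facts22Ten

/-!
# The orbit of 82575360 of the normalizer of `W`

The conjugate through the second fixed point of an element of order 23 has as stabilizer the special linear group
over 23 elements, and every fixed point other than `W` of such an element is in its orbit.
-/

set_option autoImplicit false
set_option linter.style.haveILetI false

namespace CfsgLib.Spor.JFourType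

open Subgroup Cfsg
open scoped Pointwise

universe u

/-- A normalizing element carries each generator into the subgroup it generates. -/
theorem conj_mem_zpowers_of {Γ : Type u} [Group Γ] {w t X : Γ} (hw : w ∈ normalizer (zpowers t : Set Γ))
    (h1 : X ∈ zpowers t) (h2 : t ∈ zpowers X) : w * X * w⁻¹ ∈ zpowers X :=
  zpowers_le.2 h2 ((mem_normalizer_iff.1 hw X).1 h1)

namespace Ctx

section

variable {G : Type u} [Group G] [Finite G] {A : Type} [Group A] {J I R : Subgroup A}
  {z : G} {P : Subgroup G} (c : Ctx J I R z P)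
include c

/-- The meet of the two normalizers has the order of the special linear group. -/
theorem card_meet {u g : G}
    (ψ : ↥(normalizer (c.W : Set G) ⊓
        (normalizer (c.W : Set G)).map (MulAut.conj g).toMonoidHom : Subgroup G) →* ↥Cfsg.M24)
    (hCu : ∀ y, y * u = u * y → y ∈ zpowers u) (hgu : g * u * g⁻¹ ∈ zpowers u)
    (hgN : g ∉ normalizer (c.W : Set G)) (hgg : g * g ∈ normalizer (c.W : Set G))
    (huS : u ∈ normalizer (c.W : Set G) ⊓ (normalizer (c.W : Set G)).map (MulAut.conj g).toMonoidHom)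
    (hψ : Function.Injective ψ) (hF : LineTwentyThree.F ≤ ψ.range.map Cfsg.M24.subtype)
    (hcard : 253 < Nat.card ↥ψ.range) :
    Nat.card ↥(normalizer (c.W : Set G) ⊓
        (normalizer (c.W : Set G)).map (MulAut.conj g).toMonoidHom : Subgroup G) = 6072 := by
  classical
  let N := normalizer (c.W : Set G)
  let S : Subgroup G := N ⊓ N.map (MulAut.conj g).toMonoidHom
  have hmapN : ∀ y, y ∈ N.map (MulAut.conj g).toMonoidHom ↔ g⁻¹ * y * g ∈ N := fun y => by
    rw [mem_map_equiv, MulAut.conj_symm_apply]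
  have hgS : g ∈ normalizer (S : Set G) := by
    refine mem_normalizer_fintype fun y hy => ?_
    obtain ⟨hy1, hy2⟩ := mem_inf.1 hy
    rw [hmapN] at hy2
    refine mem_inf.2 ⟨?_, (hmapN _).2 (by simpa [mul_assoc] using hy1)⟩
    have := mul_mem (mul_mem hgg hy2) (inv_mem hgg)
    simpa [mul_assoc] using this
  set Xs : Subgroup (Equiv.Perm GolayPt) := ψ.range.map Cfsg.M24.subtype with hXs
  let e : ↥S ≃* ↥Xs := (MonoidHom.ofInjective hψ).trans (equivMapOfInjective _ _ Cfsg.M24.subtype_injective)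
  have hout : ∀ s : ↥S, ¬ ∀ y : ↥S, g * (y : G) * g⁻¹ = (s : G) * y * (s : G)⁻¹ := by
    intro s hs'
    have h1 : ((s : G)⁻¹ * g) * u = u * ((s : G)⁻¹ * g) := by
      have := hs' ⟨u, huS⟩
      calc (s : G)⁻¹ * g * u = (s : G)⁻¹ * (g * u * g⁻¹) * g := by group
        _ = (s : G)⁻¹ * ((s : G) * u * (s : G)⁻¹) * g := by rw [this]
        _ = u * ((s : G)⁻¹ * g) := by group
    refine hgN ?_
    have h2 := zpowers_le.2 (mem_inf.1 huS).1 (hCu _ h1)
    simpa using mul_mem (mem_inf.1 s.2).1 h2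
  let cg : MulAut ↥S :=
    MulEquiv.ofBijective (((MulAut.conj g).toMonoidHom.comp S.subtype).codRestrict S fun y =>
      (mem_normalizer_iff.1 hgS y).1 y.2) (Finite.injective_iff_bijective.1 fun a b h => Subtype.ext (by
        have := congrArg Subtype.val h
        simpa using this))
  let α : MulAut ↥Xs := (e.symm.trans cg).trans e
  have hev : ∀ y : ↥S, (e y : Equiv.Perm GolayPt) = ((ψ y : ↥M24) : Equiv.Perm GolayPt) := fun _ => rfl
  have hα : ∀ y : ↥S, α (e y) = e (cg y) := fun y => by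
    show e (cg (e.symm (e y))) = _
    rw [e.symm_apply_apply]
  have hcg : ∀ y : ↥S, (cg y : G) = g * y * g⁻¹ := fun y => rfl
  have hnin : ∀ k ∈ Xs, ¬ ∀ l : ↥Xs, (α l : Equiv.Perm GolayPt) * k = k * l := by
    intro k hk h
    refine hout (e.symm ⟨k, hk⟩) fun y => ?_
    have h' := h (e y)
    rw [hα] at h'
    have h2 : e (cg y) = (⟨k, hk⟩ : ↥Xs) * e y * (⟨k, hk⟩ : ↥Xs)⁻¹ := Subtype.ext (by
      rw [Subgroup.coe_mul, Subgroup.coe_mul, Subgroup.coe_inv]
      exact eq_mul_inv_of_mul_eq h')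
    have h3 := congrArg (fun w => (e.symm w : G)) h2
    simp only [map_mul, map_inv, e.symm_apply_apply, Subgroup.coe_mul, Subgroup.coe_inv, hcg] at h3
    exact h3
  have hXle : Xs ≤ Cfsg.M24 := map_subtype_le _
  have hcardS : Nat.card ↥S = Nat.card ↥Xs := Nat.card_congr e.toEquiv
  rcases LineTwentyThree.four_groups hF hXle with h | h | h | h
  · exfalso
    have h1 : Nat.card ↥Xs = Nat.card ↥ψ.range := card_map_of_injective Cfsg.M24.subtype_injective
    rw [h, LineTwentyThree.card_F] at h1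
    omega
  · exfalso
    have hT : Xs = Cfsg.Spor.M23 := by
      rw [h]
      ext x
      rw [OuterAut.mem_M23, mem_inf, MulAction.mem_stabilizer_iff]
      rfl
    let eT : ↥Xs ≃* ↥Cfsg.Spor.M23 := MulEquiv.subgroupCongr hT
    obtain ⟨k, hk⟩ := OuterAut.inner_M23 ((eT.symm.trans α).trans eT)
    refine hnin (k : Equiv.Perm GolayPt) ((SetLike.ext_iff.1 hT _).2 k.2) fun l => ?_
    have h1 := congrArg (fun σ : MulAut ↥Cfsg.Spor.M23 => ((σ (eT l) : ↥Cfsg.Spor.M23) : Equiv.Perm GolayPt)) hk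
    simp only [MulEquiv.trans_apply, MulEquiv.symm_apply_apply] at h1
    rw [show ((α l : ↥Xs) : Equiv.Perm GolayPt) = ((eT (α l) : ↥Cfsg.Spor.M23) : Equiv.Perm GolayPt) from rfl, ← h1,
      MulAut.conj_apply, Subgroup.coe_mul, Subgroup.coe_mul, Subgroup.coe_inv, inv_mul_cancel_right]
    rfl
  swap
  · exfalso
    let eT : ↥Xs ≃* ↥Cfsg.M24 := MulEquiv.subgroupCongr h
    obtain ⟨k, hk⟩ := OuterAut.inner_M24 ((eT.symm.trans α).trans eT)
    refine hnin (k : Equiv.Perm GolayPt) ((SetLike.ext_iff.1 h _).2 k.2) fun l => ?_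
    have h1 := congrArg (fun σ : MulAut ↥Cfsg.M24 => ((σ (eT l) : ↥Cfsg.M24) : Equiv.Perm GolayPt)) hk
    simp only [MulEquiv.trans_apply, MulEquiv.symm_apply_apply] at h1
    rw [show ((α l : ↥Xs) : Equiv.Perm GolayPt) = ((eT (α l) : ↥Cfsg.M24) : Equiv.Perm GolayPt) from rfl, ← h1,
      MulAut.conj_apply, Subgroup.coe_mul, Subgroup.coe_mul, Subgroup.coe_inv, inv_mul_cancel_right]
    rfl
  show Nat.card ↥S = 6072
  rw [hcardS, h]
  exact LineTwentyThree.main.1.2.1

end

variable {G : Type u} [Group G] [Finite G] {z : G} {P : Subgroup G} (c : Ctx J22 I22 R22 z P)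
include c

/-- The orbit. -/
theorem orbit_six (hs : c.Split) :
    ∃ V : Subgroup G, (∃ g : G, c.W.map (MulAut.conj g).toMonoidHom = V) ∧ V ≠ c.W ∧
      {U : Subgroup G | ∃ n ∈ normalizer (c.W : Set G), V.map (MulAut.conj n).toMonoidHom = U}.ncard = 82575360 ∧
      ∀ u ∈ normalizer (c.W : Set G), orderOf u = 23 → ∀ U : Subgroup G,
        (∃ g : G, c.W.map (MulAut.conj g).toMonoidHom = U) → U ≠ c.W → u ∈ normalizer (U : Set G) →
        ∃ n ∈ normalizer (c.W : Set G), V.map (MulAut.conj n).toMonoidHom = U := by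
  classical
  haveI : Fact (Nat.Prime 23) := ⟨by norm_num⟩
  have hX := c.zclass_eq hs
  obtain ⟨u₀, g, ψ, hou, hCu, hgu, hgN, hgg, huS, hψ, hF, hcard, hut⟩ :=
    c.exists_swap hs fiveSeven22 extra22 spreadFacts22 hX
  obtain ⟨hshape, -⟩ := c.large_shapes hs fiveSeven22 extra22 spreadFacts22 hX
  obtain ⟨-, hNu⟩ := hshape u₀ hou
  have hcN := c.card_normalizer_W hs extra22.card_NI
  have h6072 := c.card_meet ψ hCu hgu hgN hgg huS hψ hF hcard
  set V := c.W.map (MulAut.conj g).toMonoidHom with hV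
  have hmapmap : ∀ a b : G, (c.W.map (MulAut.conj b).toMonoidHom).map (MulAut.conj a).toMonoidHom =
      c.W.map (MulAut.conj (a * b)).toMonoidHom := fun a b => by
    ext v
    simp only [mem_map_equiv, MulAut.conj_symm_apply]
    rw [show b⁻¹ * (a⁻¹ * v * a) * b = (a * b)⁻¹ * v * (a * b) by group]
  have hfixW : ∀ n ∈ (normalizer (c.W : Set G)), c.W.map (MulAut.conj n).toMonoidHom = c.W := fun n hn => by
    ext v
    rw [mem_map_equiv, MulAut.conj_symm_apply, mem_normalizer_iff.1 hn (n⁻¹ * v * n),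
      show n * (n⁻¹ * v * n) * n⁻¹ = v by group]
  have hNV : normalizer (V : Set G) = (normalizer (c.W : Set G)).map (MulAut.conj g).toMonoidHom := by
    ext x
    rw [mem_map_equiv, MulAut.conj_symm_apply, mem_normalizer_iff, mem_normalizer_iff]
    constructor
    · intro h w
      have := h (g * w * g⁻¹)
      rw [hV, mem_map_equiv, mem_map_equiv, MulAut.conj_symm_apply, MulAut.conj_symm_apply,
        show g⁻¹ * (g * w * g⁻¹) * g = w by group,
        show g⁻¹ * (x * (g * w * g⁻¹) * x⁻¹) * g = g⁻¹ * x * g * w * (g⁻¹ * x * g)⁻¹ by group] at this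
      exact this
    · intro h w
      have := h (g⁻¹ * w * g)
      rw [hV, mem_map_equiv, mem_map_equiv, MulAut.conj_symm_apply, MulAut.conj_symm_apply]
      rwa [show g⁻¹ * x * g * (g⁻¹ * w * g) * (g⁻¹ * x * g)⁻¹ = g⁻¹ * (x * w * x⁻¹) * g by group] at this
  refine ⟨V, ⟨g, rfl⟩, fun h => hgN ?_, ?_, ?_⟩
  · refine mem_normalizer_fintype fun w hw => ?_
    have : g * w * g⁻¹ ∈ V := by rw [hV]; exact ⟨w, hw, rfl⟩
    rwa [h] at this
  · have h := ncard_orbit_subgroup (normalizer (c.W : Set G)) V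
    rw [hNV, h6072, hcN] at h
    omega
  -- the fixed points
  intro u hu hou' U hU hUW huU
  obtain ⟨h, rfl⟩ := hU
  set NG := normalizer (zpowers u₀ : Set G) with hNG
  set D := (normalizer (c.W : Set G)) ⊓ NG with hD
  have hgNG : g ∈ NG := (CfsgLib.Spor.mem_normalizer_zpowers u₀ g).2 hgu
  have hD253 : 253 ∣ Nat.card ↥D := by
    rw [← LineTwentyThree.card_F]
    have hex : ∀ w : ↥LineTwentyThree.F, ∃ y : ↥((normalizer (c.W : Set G)) ⊓ (normalizer (c.W : Set G)).map (MulAut.conj g).toMonoidHom : Subgroup G),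
        ((ψ y : ↥M24) : Equiv.Perm GolayPt) = (w : Equiv.Perm GolayPt) := fun w => by
      obtain ⟨_, ⟨y, rfl⟩, hy⟩ := hF w.2
      exact ⟨y, hy⟩
    choose s hse using hex
    have hmemD : ∀ w, (s w : G) ∈ D := fun w => by
      refine ⟨(s w).2.1, (CfsgLib.Spor.mem_normalizer_zpowers u₀ _).2 ?_⟩
      obtain ⟨h1, h2⟩ := hut huS
      have h3 := conj_mem_zpowers_of (LineTwentyThree.F_norm w.2) h1 h2
      obtain ⟨i, hi⟩ := mem_zpowers_iff.1 h3
      have h4 : ψ (s w * ⟨u₀, huS⟩ * (s w)⁻¹) = ψ (⟨u₀, huS⟩ ^ i) := Subtype.ext (by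
        rw [map_mul, map_mul, map_inv, map_zpow, Subgroup.coe_mul, Subgroup.coe_mul, Subgroup.coe_inv,
          SubgroupClass.coe_zpow, hse, hi])
      have h5 := congrArg Subtype.val (hψ h4)
      rw [Subgroup.coe_mul, Subgroup.coe_mul, Subgroup.coe_inv, SubgroupClass.coe_zpow] at h5
      rw [h5]
      exact zpow_mem (mem_zpowers u₀) i
    let f : ↥LineTwentyThree.F →* ↥D := MonoidHom.mk' (fun w => ⟨s w, hmemD w⟩) fun v w => Subtype.ext (by
      show (s (v * w) : G) = (s v : G) * (s w : G)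
      rw [← Subgroup.coe_mul]
      refine congrArg Subtype.val (hψ (Subtype.ext ?_))
      rw [map_mul, Subgroup.coe_mul, hse, hse, hse, Subgroup.coe_mul])
    refine Subgroup.card_dvd_of_injective f fun v w e => Subtype.ext ?_
    rw [← hse v, ← hse w, show s v = s w from Subtype.ext (congrArg Subtype.val e :)]
  have hNG506 : Nat.card ↥NG = 506 := by rw [hNG, hNu]
  have hidx : (D.subgroupOf NG).index = 2 := by
    have h1 := (D.subgroupOf NG).card_mul_index
    rw [Nat.card_congr (subgroupOfEquivOfLe (inf_le_right : D ≤ NG)).toEquiv, hNG506] at h1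
    obtain ⟨k, hk⟩ := hD253
    rw [hk, mul_assoc, show (506 : ℕ) = 253 * 2 by norm_num] at h1
    have h2 := Nat.eq_of_mul_eq_mul_left (by norm_num) h1
    rcases k with _ | _ | k
    · omega
    · omega
    · exfalso
      have hne : (D.subgroupOf NG).index ≠ 1 := fun e => hgN (by
        have := (Subgroup.index_eq_one.1 e) ▸ mem_top (⟨g, hgNG⟩ : ↥NG)
        exact (mem_subgroupOf.1 this).1)
      have hne0 := (D.subgroupOf NG).index_ne_zero_of_finite
      have h3 : 2 * 2 ≤ (k + 1 + 1) * (D.subgroupOf NG).index := Nat.mul_le_mul (by omega) (by omega)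
      omega
  -- conjugacy of the subgroups of order 23 in `(normalizer (c.W : Set G))`
  have hsyl : ∀ v ∈ (normalizer (c.W : Set G)), orderOf v = 23 → ∃ m ∈ (normalizer (c.W : Set G)), m * v * m⁻¹ ∈ zpowers u₀ := by
    intro v hv hov
    have hfac : (Nat.card ↥(normalizer (c.W : Set G))).factorization 23 = 1 := by
      rw [hcN]
      have e : (2 ^ 11 * 244823040 : ℕ) = 23 * 21799895040 := by norm_num
      rw [e, Nat.factorization_mul (by norm_num) (by norm_num), Finsupp.add_apply,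
        (by norm_num : Nat.Prime 23).factorization_self, Nat.factorization_eq_zero_of_not_dvd (by norm_num)]
    have hc : ∀ {y : ↥(normalizer (c.W : Set G))}, orderOf y = 23 → Nat.card ↥(zpowers y) = 23 ^ (Nat.card ↥(normalizer (c.W : Set G))).factorization 23 :=
      fun hy => by rw [hfac, pow_one, Nat.card_zpowers, hy]
    have o1 : orderOf (⟨v, hv⟩ : ↥(normalizer (c.W : Set G))) = 23 := by rw [Subgroup.orderOf_mk, hov]
    have o2 : orderOf (⟨u₀, huS.1⟩ : ↥(normalizer (c.W : Set G))) = 23 := by rw [Subgroup.orderOf_mk, hou]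
    obtain ⟨m, hm⟩ := MulAction.exists_smul_eq ↥(normalizer (c.W : Set G)) (Sylow.ofCard (zpowers (⟨v, hv⟩ : ↥(normalizer (c.W : Set G)))) (hc o1))
      (Sylow.ofCard (zpowers (⟨u₀, huS.1⟩ : ↥(normalizer (c.W : Set G)))) (hc o2))
    have h1 := congrArg (fun T : Sylow 23 ↥(normalizer (c.W : Set G)) => (T : Subgroup ↥(normalizer (c.W : Set G)))) hm
    simp only [Sylow.coe_subgroup_smul, Sylow.coe_ofCard] at h1
    have h2 : zpowers (m * ⟨v, hv⟩ * m⁻¹) = zpowers (⟨u₀, huS.1⟩ : ↥(normalizer (c.W : Set G))) := by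
      rw [← h1]
      exact (MonoidHom.map_zpowers (MulAut.conj m).toMonoidHom _).symm
    have h3 : m * ⟨v, hv⟩ * m⁻¹ ∈ zpowers (⟨u₀, huS.1⟩ : ↥(normalizer (c.W : Set G))) := by
      rw [← h2]; exact mem_zpowers _
    obtain ⟨i, hi⟩ := mem_zpowers_iff.1 h3
    exact ⟨(m : G), m.2, mem_zpowers_iff.2 ⟨i, by simpa using congrArg Subtype.val hi⟩⟩
  have hgen : ∀ v, orderOf v = 23 → v ∈ zpowers u₀ → u₀ ∈ zpowers v := fun v hov hv => by
    have : zpowers v = zpowers u₀ := eq_of_le_of_card_ge (zpowers_le.2 hv)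
      (by rw [Nat.card_zpowers, Nat.card_zpowers, hov, hou])
    exact this ▸ mem_zpowers u₀
  obtain ⟨m, hm, hmu⟩ := hsyl u hu hou'
  have hom : orderOf (m * u * m⁻¹) = 23 := (MulEquiv.orderOf_eq (MulAut.conj m) u).trans hou'
  set k := m * h with hk
  have hu0U : k⁻¹ * u₀ * k ∈ (normalizer (c.W : Set G)) := by
    obtain ⟨i, hi⟩ := mem_zpowers_iff.1 (hgen _ hom hmu)
    rw [← hi, show k⁻¹ * (m * u * m⁻¹) ^ i * k = k⁻¹ * (m * u * m⁻¹) ^ i * k⁻¹⁻¹ by rw [inv_inv], ← conj_zpow,
      show k⁻¹ * (m * u * m⁻¹) * k⁻¹⁻¹ = h⁻¹ * u * h by rw [hk]; group]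
    refine zpow_mem (mem_normalizer_fintype fun w hw => ?_) i
    have h1 : h * w * h⁻¹ ∈ c.W.map (MulAut.conj h).toMonoidHom := ⟨w, hw, rfl⟩
    have h2 := (mem_normalizer_iff.1 huU _).1 h1
    rw [mem_map_equiv, MulAut.conj_symm_apply] at h2
    rwa [show h⁻¹ * u * h * w * (h⁻¹ * u * h)⁻¹ = h⁻¹ * (u * (h * w * h⁻¹) * u⁻¹) * h by group]
  obtain ⟨n, hn, hnu⟩ := hsyl _ hu0U (by
    have := MulEquiv.orderOf_eq (MulAut.conj k⁻¹) u₀
    rw [MulAut.conj_apply, inv_inv] at this
    rw [this, hou])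
  set j := k * n⁻¹ with hj
  have hjNG : j ∈ NG := by
    have hji : j⁻¹ ∈ NG := (CfsgLib.Spor.mem_normalizer_zpowers u₀ _).2 (by
      rw [hj, show (k * n⁻¹)⁻¹ * u₀ * (k * n⁻¹)⁻¹⁻¹ = n * (k⁻¹ * u₀ * k) * n⁻¹ by group]
      exact hnu)
    simpa using inv_mem hji
  have hUeq : (c.W.map (MulAut.conj h).toMonoidHom).map (MulAut.conj m).toMonoidHom =
      c.W.map (MulAut.conj j).toMonoidHom := by
    rw [hmapmap, ← hk, show k = j * n by rw [hj]; group, ← hmapmap j n, hfixW n hn]
  have hjD : j ∉ D := fun hjD => hUW (by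
    have h1 := hfixW j hjD.1
    rw [← hUeq] at h1
    have h2 := congrArg (fun T : Subgroup G => T.map (MulAut.conj m⁻¹).toMonoidHom) h1
    rw [hmapmap, hmapmap, show m⁻¹ * (m * h) = h by group, hfixW _ (inv_mem hm)] at h2
    exact h2)
  have hd : g⁻¹ * j ∈ D := by
    have := Subgroup.mul_mem_iff_of_index_two hidx (a := (⟨g, hgNG⟩ : ↥NG)⁻¹) (b := ⟨j, hjNG⟩)
    have hgD : g⁻¹ ∉ D := fun h => hgN (inv_mem_iff.1 (h.1 : g⁻¹ ∈ normalizer (c.W : Set G)))
    exact mem_subgroupOf.1 (this.2 (iff_of_false (fun h => hgD (mem_subgroupOf.1 h))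
      fun h => hjD (mem_subgroupOf.1 h)))
  refine ⟨m⁻¹, inv_mem hm, ?_⟩
  have hVj : V = c.W.map (MulAut.conj j).toMonoidHom := by
    rw [hV, show j = g * (g⁻¹ * j) by group, ← hmapmap, hfixW _ hd.1]
  rw [hVj, ← hUeq, hmapmap, hmapmap, show m⁻¹ * (m * h) = h by group]

end Ctx

end CfsgLib.Spor.JFourType
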