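import Cfsg.Agent.Lib.Spor.JFourType.Order.OuterSide

/-!
# The centralizers of the outer involutions that are not conjugate to `z`

Over the class of 1386 all involutions of a fibre are conjugate and the centralizer in `H` has order 40960; over the
class of 330 it has order 344064.  In both cases it maps onto the centralizer of the image.
-/

set_option autoImplicit false
set_option linter.style.haveILetI false

namespace CfsgLib.Spor.JFourType.Ctx

open Subgroup Cfsg

universe u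

variable {G : Type u} [Group G] [Finite G] {z : G} {P : Subgroup G} (c : Ctx J22 I22 R22 z P)
include c

/-- Over the trivial image the centralizer of an outer involution lies in the core. -/
theorem ker_le_E {x h : G} (hx : c.OuterT x) (hh : h ∈ c.H) (hc : h * x = x * h) (hi : c.im h = 1) : h ∈ c.E := by
  obtain ⟨e, he, q, hq, hd⟩ := c.ker_decomp hh (by rw [← c.im_eq hh]; exact hi)
  have hqH : q ∈ c.H := (c.P_le_C0 hq).1
  have hact : ∀ v, c.act h v = c.act q v := fun v => by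
    rw [hd, c.act_apply_mul (c.E_le he) hqH, (c.act_eq_one (c.E_le he)).2 he]; rfl
  have hcomm : ∀ v, c.act q (c.act x v) = c.act x (c.act q v) := fun v => by
    rw [← hact, ← hact, ← c.act_apply_mul hh hx.1, hc, c.act_apply_mul hx.1 hh]
  rcases c.mem_P hq with rfl | rfl | rfl
  · rw [hd, mul_one]; exact he
  all_goals
    exfalso
    obtain ⟨v, hv⟩ : ∃ v : c.Vs, v ≠ 0 := by
      haveI : Nontrivial c.Vs := Finite.one_lt_card_iff_nontrivial.1 (by rw [c.card_V]; norm_num)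
      exact exists_ne 0
    have key : ∀ w, c.om (c.om (c.act x w)) = c.om (c.act x w) := by
      intro w
      have h1 := hcomm w
      have h2 := hcomm (c.om (c.om w))
      first
      | (change c.om (c.act x w) = c.act x (c.om w) at h1
         rw [c.om_outer hx.1 hx.notMem_M] at h1
         exact h1.symm)
      | (rw [c.act_pg_inv, c.act_pg_inv] at h1
         change c.om (c.om (c.act x w)) = c.act x (c.om (c.om w)) at h1
         rw [c.om_outer hx.1 hx.notMem_M, c.om_outer hx.1 hx.notMem_M, c.om_cube] at h1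
         exact h1)
    refine hv (c.om_fixed (v := v) ?_)
    have h := key (c.act x⁻¹ (c.om (c.om v)))
    rw [c.act_apply_inv hx.1] at h; simp only [c.om_cube] at h
    exact h

theorem card_EC_le {x : G} (hx : c.OuterT x) :
    Nat.card ↥(c.E ⊓ centralizer ({x} : Set G) : Subgroup G) ≤ 128 := by
  have h64 := (c.outer_fix_eq_range hx.1 hx.notMem_M hx.2.1).2
  rw [← SetLike.coe_sort_coe, Nat.card_coe_set_eq]
  refine (Set.ncard_le_ncard (t := {e | e ∈ c.E ∧ c.pv e ∈ (c.fix {x} : Set c.Vs)}) ?_ (Set.toFinite _)).trans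
    (le_of_eq ?_)
  · intro e he
    refine ⟨he.1, c.mem_fix_singleton.2 ?_⟩
    rw [← c.pv_conj hx.1 he.1, ← mem_centralizer_singleton_iff.1 he.2, mul_inv_cancel_right]
  · rw [c.ncard_over, ← Nat.card_coe_set_eq, SetLike.coe_sort_coe, h64]

/-- When the core part is small the centralizer maps onto that of the image. -/
theorem im_onto {x : G} (hx : c.OuterT x)
    (h : Nat.card ↥(c.E ⊓ centralizer ({x} : Set G) : Subgroup G) * Nat.card ↥(centralizer ({c.im x} : Set ↥Gam)) ≤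
      Nat.card ↥(c.H ⊓ centralizer ({x} : Set G) : Subgroup G)) :
    ∀ k, k * c.im x = c.im x * k → ∃ w ∈ c.H, w * x = x * w ∧ c.im w = k := by
  intro k hk
  set C := c.H ⊓ centralizer ({x} : Set G) with hC
  let F : ↥C →* ↥Gam := MonoidHom.mk' (fun w => c.im (w : G)) fun v w => c.im_mul v.2.1 w.2.1
  have hker : Nat.card ↥F.ker ≤ Nat.card ↥(c.E ⊓ centralizer ({x} : Set G) : Subgroup G) := by
    refine Nat.card_le_card_of_injective (fun w => ⟨((w : ↥C) : G),
      c.ker_le_E hx (w : ↥C).2.1 (mem_centralizer_singleton_iff.1 (w : ↥C).2.2) (MonoidHom.mem_ker.1 w.2),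
      (w : ↥C).2.2⟩) fun v w e => ?_
    exact Subtype.ext (Subtype.ext (congrArg (fun t : ↥(c.E ⊓ centralizer ({x} : Set G) : Subgroup G) => (t : G)) e))
  have hle : F.range ≤ centralizer ({c.im x} : Set ↥Gam) := by
    rintro _ ⟨w, rfl⟩
    refine mem_centralizer_singleton_iff.2 ?_
    show c.im (w : G) * c.im x = c.im x * c.im (w : G)
    rw [← c.im_mul w.2.1 hx.1, ← c.im_mul hx.1 w.2.1, mem_centralizer_singleton_iff.1 w.2.2]
  have hmul := F.ker.card_mul_index
  rw [Subgroup.index_ker] at hmul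
  have heq : F.range = centralizer ({c.im x} : Set ↥Gam) := by
    refine eq_of_le_of_card_ge hle ?_
    have h2 := Nat.mul_le_mul_right (Nat.card ↥F.range) hker
    rw [hmul] at h2
    exact Nat.le_of_mul_le_mul_left (h.trans h2) Nat.card_pos
  obtain ⟨w, hw⟩ : k ∈ F.range := heq.symm ▸ mem_centralizer_singleton_iff.2 hk
  exact ⟨w, w.2.1, mem_centralizer_singleton_iff.1 w.2.2, hw⟩

theorem mem_cent_side {g x y : G} {t : G} (e : g * x * g⁻¹ = t) (h : y * x = x * y) :
    g * y * g⁻¹ ∈ centralizer ({t} : Set G) :=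
  mem_centralizer_singleton_iff.2 (by rw [← e, conj_mul, conj_mul, h])

/-- The facts over the class of 1386. -/
theorem five_data (hs : c.Split) {x : G} (hx : c.OuterT x)
    (hcl : Nat.card ↥(centralizer ({c.im x} : Set ↥Gam)) = 640) :
    Nat.card ↥(c.H ⊓ centralizer ({x} : Set G) : Subgroup G) = 40960 ∧
      (∃ h ∈ c.H, h * x * h⁻¹ = x * z) ∧
      (∀ k, k * c.im x = c.im x * k → ∃ w ∈ c.H, w * x = x * w ∧ c.im w = k) ∧
      (∀ (g : G) (a b : c.Star), a ≠ b → g * x * g⁻¹ = c.tau hs a b →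
        c.sp hs extra22 (g * z * g⁻¹) a = b ∧ {d | c.sp hs extra22 (g * z * g⁻¹) d = d}.ncard = 0) := by
  classical
  haveI : Fact (Nat.Prime 5) := ⟨by norm_num⟩
  obtain ⟨k, hk, hcase⟩ := c.cent_card hs hx
  rw [hcl] at hk
  set C := c.H ⊓ centralizer ({x} : Set G) with hC
  have h5 : 5 ∣ Nat.card ↥C := by
    rcases hcase with ⟨rfl, -⟩ | ⟨rfl, -⟩ <;> omega
  obtain ⟨f0, hf0⟩ := exists_prime_orderOf_dvd_card' (G := ↥C) 5 h5
  set f : G := (f0 : G) with hfdef
  have hfo : orderOf f = 5 := by rw [hfdef, Subgroup.orderOf_coe, hf0]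
  have hfH : f ∈ c.H := f0.2.1
  have hfx : f * x = x * f := mem_centralizer_singleton_iff.1 f0.2.2
  have side : ∀ (g : G) (a b : c.Star), a ≠ b → g * x * g⁻¹ = c.tau hs a b →
      c.sp hs extra22 (g * z * g⁻¹) a = b ∧ {d | c.sp hs extra22 (g * z * g⁻¹) d = d}.ncard = 0 ∧
      Nat.card ↥(c.W ⊓ centralizer ({g * z * g⁻¹} : Set G) : Subgroup G) ≤ 64 ∧
      Nat.card ↥(c.W ⊓ centralizer ({g * z * g⁻¹} : Set G) ⊓ centralizer ({g * f * g⁻¹} : Set G) : Subgroup G) ≤ 4 := by
    intro g a b hab e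
    obtain ⟨ψ, hψ, hψJ⟩ := c.exists_pairHom hs extra22 hab
    have hy := c.mem_cent_side e (c.comm_z hx.1).symm
    have hf' := c.mem_cent_side e hfx
    obtain ⟨hya, hyb, -, -, -⟩ := c.image_class hs hx hab e (Or.inl rfl) hfH hfx hfo ψ hψ hψJ hy
    have hle := c.cent_Tset_le hs (c.tau_Tset hs hab)
    have hfo' : orderOf (g * f * g⁻¹) = 5 := (MulEquiv.orderOf_eq (MulAut.conj g) f).trans hfo
    have hfy : g * f * g⁻¹ * (g * z * g⁻¹) = g * z * g⁻¹ * (g * f * g⁻¹) := by
      rw [conj_mul, conj_mul, c.comm_z hfH]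
    have hfab : c.sp hs extra22 (g * f * g⁻¹) a = a ∧ c.sp hs extra22 (g * f * g⁻¹) b = b := by
      rcases c.sp_pair hs extra22 (hle hf') hab (mem_centralizer_singleton_iff.1 hf') with h | ⟨h1, h2⟩
      · exact h
      exfalso
      set τ := c.sp hs extra22 (g * f * g⁻¹)
      have h0 : c.sp hs extra22 ((g * f * g⁻¹) ^ 5) a = a := by
        rw [show (g * f * g⁻¹) ^ 5 = 1 from hfo' ▸ pow_orderOf_eq_one _, c.sp_one]; rfl
      have e5 : (g * f * g⁻¹) ^ 5 = g * f * g⁻¹ * (g * f * g⁻¹ * (g * f * g⁻¹ * (g * f * g⁻¹ * (g * f * g⁻¹)))) := by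
        simp only [pow_succ', pow_zero, mul_one]
      have hm := fun {u} (hu : u ∈ centralizer ({c.tau hs a b} : Set G)) => hle hu
      rw [e5, c.sp_mul hs extra22 (hm hf') (hm (mul_mem hf' (mul_mem hf' (mul_mem hf' hf')))),
        c.sp_mul hs extra22 (hm hf') (hm (mul_mem hf' (mul_mem hf' hf'))),
        c.sp_mul hs extra22 (hm hf') (hm (mul_mem hf' hf')), c.sp_mul hs extra22 (hm hf') (hm hf'),
        h1, h2, h1, h2, h1] at h0
      exact hab h0.symm
    obtain ⟨h64, h4, hfix⟩ := c.W_cent_five hs (hle hy) (by rw [conj_mul, c.zz, mul_one, mul_inv_cancel])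
      (c.side_notMem hs hx (e ▸ c.tau_W hs a b)) (hle hf') hfo' hfy hab hya hyb hfab.1 hfab.2
    exact ⟨hya, hfix, h64, h4⟩
  obtain ⟨g, a, b, hab, e, hN, -⟩ := c.exists_side hs hx.1 hx.2.1 hx.ne_one hx.2.2.2
  obtain ⟨ψ, hψ, hψJ⟩ := c.exists_pairHom hs extra22 hab
  have hy := c.mem_cent_side e (c.comm_z hx.1).symm
  have hf' := c.mem_cent_side e hfx
  obtain ⟨-, -, h640, -, hord⟩ := c.image_class hs hx hab e (Or.inl rfl) hfH hfx hfo ψ hψ hψJ hy
  obtain ⟨-, -, h64, h4⟩ := side g a b hab e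
  have hdvd := c.cent_dvd hs hx.1 e hN ψ hψ hy
  rw [h640 rfl] at hdvd
  have hbound : Nat.card ↥C ≤ 64 * 640 :=
    (Nat.le_of_dvd (Nat.mul_pos Nat.card_pos (by norm_num)) hdvd).trans (Nat.mul_le_mul_right _ h64)
  obtain ⟨hk384, hC40⟩ : k = 384 ∧ Nat.card ↥C = 40960 := by
    rcases hcase with ⟨rfl, -⟩ | ⟨rfl, -⟩
    · omega
    · exact ⟨rfl, by omega⟩
  have hswap : ∃ h ∈ c.H, h * x * h⁻¹ = x * z := by
    rcases hcase with ⟨h, -⟩ | ⟨-, h⟩
    · omega
    · exact h
  refine ⟨hC40, hswap, c.im_onto hx ?_, fun g a b hab e => ⟨(side g a b hab e).1, (side g a b hab e).2.1⟩⟩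
  rw [hcl, hC40]
  suffices hsuff : Nat.card ↥(c.E ⊓ centralizer ({x} : Set G) : Subgroup G) ≤ 64 from
    Nat.mul_le_mul_right 640 hsuff
  by_contra hbig
  push Not at hbig
  set K := c.E ⊓ centralizer ({x} : Set G) with hK
  have hK128 := c.card_EC_le hx
  rw [← hK] at hK128
  have hKcard : Nat.card ↥K = 128 := by
    obtain ⟨i, hi, hi'⟩ := (Nat.dvd_prime_pow Nat.prime_two).1
      ((card_dvd_of_le (inf_le_left : K ≤ c.E)).trans (dvd_of_eq c.card_E))
    rw [hi'] at hbig hK128 ⊢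
    have h6 : 6 < i := (Nat.pow_lt_pow_iff_right (by norm_num : 1 < 2)).1 (by simpa using hbig)
    have h7 : i ≤ 7 := (Nat.pow_le_pow_iff_right (by norm_num : 1 < 2)).1 (by simpa using hK128)
    rw [show i = 7 by omega]; norm_num
  have hfK : ∀ u ∈ K, f * u * f⁻¹ ∈ K := fun u hu => ⟨c.conj_E hfH hu.1, mem_centralizer_singleton_iff.2 (by
    have hfi : f⁻¹ * x = x * f⁻¹ := (Commute.inv_left hfx).eq
    calc f * u * f⁻¹ * x = f * u * (f⁻¹ * x) := by group
      _ = f * (u * x) * f⁻¹ := by rw [hfi]; group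
      _ = (f * x) * u * f⁻¹ := by rw [mem_centralizer_singleton_iff.1 hu.2]; group
      _ = _ := by rw [hfx]; group)⟩
  have hm := card_modEq_centralizer (q := 5) (by norm_num) hfo K hfK
  set Kf := K ⊓ centralizer ({f} : Set G) with hKf
  obtain ⟨i, hi, hi'⟩ := (Nat.dvd_prime_pow Nat.prime_two).1
    ((card_dvd_of_le (inf_le_left : Kf ≤ K)).trans (dvd_of_eq (hKcard.trans (by norm_num : (128 : ℕ) = 2 ^ 7))))
  have hi3 : 3 ≤ i := by
    rw [hKcard, hi'] at hm
    have key : ∀ i : Fin 8, 128 % 5 = 2 ^ (i : ℕ) % 5 → 3 ≤ (i : ℕ) := by decide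
    exact key ⟨i, by omega⟩ hm
  -- the image in the pair stabilizer
  let cg : ↥Kf →* ↥(centralizer ({c.tau hs a b} : Set G)) :=
    ((MulAut.conj g).toMonoidHom.comp Kf.subtype).codRestrict _ fun u =>
      c.mem_cent_side e (mem_centralizer_singleton_iff.1 u.2.1.2)
  let F := ψ.comp cg
  have hrange : Nat.card ↥F.range ∣ 2 := by
    have h1 : Nat.card ↥F.range ∣ 10 := by
      rw [← gam_cent_five (hord hf')]
      refine Subgroup.card_dvd_of_le ?_
      rintro _ ⟨u, rfl⟩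
      refine mem_centralizer_singleton_iff.2 ?_
      show ψ (cg u) * ψ ⟨_, hf'⟩ = ψ ⟨_, hf'⟩ * ψ (cg u)
      rw [← map_mul, ← map_mul]
      refine congrArg ψ (Subtype.ext ?_)
      show g * (u : G) * g⁻¹ * (g * f * g⁻¹) = g * f * g⁻¹ * (g * (u : G) * g⁻¹)
      rw [conj_mul, conj_mul, mem_centralizer_singleton_iff.1 u.2.2]
    have h2 : Nat.card ↥F.range ∣ 128 := (card_range_dvd F).trans (by
      rw [show (128 : ℕ) = 2 ^ 7 by norm_num, hi']; exact pow_dvd_pow 2 hi)
    simpa using Nat.dvd_gcd h1 h2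
  set T : Subgroup G := c.W ⊓ centralizer ({g * z * g⁻¹} : Set G) ⊓ centralizer ({g * f * g⁻¹} : Set G) with hT
  let κ : ↥F.ker →* ↥T :=
    (((MulAut.conj g).toMonoidHom.comp Kf.subtype).comp F.ker.subtype).codRestrict _ fun u => by
      refine ⟨⟨hψ _ u.2, mem_centralizer_singleton_iff.2 ?_⟩, mem_centralizer_singleton_iff.2 ?_⟩
      · show g * ((u : ↥Kf) : G) * g⁻¹ * (g * z * g⁻¹) = g * z * g⁻¹ * (g * ((u : ↥Kf) : G) * g⁻¹)
        rw [conj_mul, conj_mul, c.comm_z (c.E_le (u : ↥Kf).2.1.1)]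
      · show g * ((u : ↥Kf) : G) * g⁻¹ * (g * f * g⁻¹) = g * f * g⁻¹ * (g * ((u : ↥Kf) : G) * g⁻¹)
        rw [conj_mul, conj_mul, mem_centralizer_singleton_iff.1 (u : ↥Kf).2.2]
  have hκ : Function.Injective κ := fun u v h =>
    Subtype.ext (Subtype.ext ((MulAut.conj g).injective (congrArg Subtype.val h)))
  have htT : c.tau hs a b ∈ T := ⟨⟨c.tau_W hs a b, mem_centralizer_singleton_iff.2
      (mem_centralizer_singleton_iff.1 hy).symm⟩,
    mem_centralizer_singleton_iff.2 (mem_centralizer_singleton_iff.1 hf').symm⟩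
  have hne : κ.range ≠ ⊤ := fun h => by
    obtain ⟨u, hu⟩ : (⟨_, htT⟩ : ↥T) ∈ κ.range := h ▸ mem_top _
    have h1 : g * ((u : ↥Kf) : G) * g⁻¹ = g * x * g⁻¹ := (congrArg Subtype.val hu).trans e.symm
    have h2 : x ∈ c.E := ((MulAut.conj g).injective h1) ▸ (u : ↥Kf).2.1.1
    exact hx.2.2.1 (by rw [c.im_E h2]; exact one_mem _)
  have hker : 2 * Nat.card ↥F.ker ≤ 4 := by
    refine le_trans ?_ h4
    rw [Nat.card_congr (MonoidHom.ofInjective hκ).toEquiv, ← κ.range.card_mul_index, mul_comm]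
    refine Nat.mul_le_mul_left _ ?_
    by_contra hlt
    have := κ.range.index_eq_one.1 (by have := κ.range.index_ne_zero_of_finite; omega)
    exact hne this
  have hmul := F.ker.card_mul_index
  rw [Subgroup.index_ker, hi'] at hmul
  have h8 : 2 ^ 3 ≤ 2 ^ i := Nat.pow_le_pow_right (by norm_num) hi3
  have hr2 := Nat.le_of_dvd (by norm_num) hrange
  have := Nat.mul_le_mul (show Nat.card ↥F.ker ≤ 2 by omega) hr2
  omega

/-- The facts over the class of 330. -/
theorem seven_data (hs : c.Split) {x : G} (hx : c.OuterT x)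
    (hcl : Nat.card ↥(centralizer ({c.im x} : Set ↥Gam)) = 2688) (hzt : c.nZT (c.im x) = 192) :
    Nat.card ↥(c.H ⊓ centralizer ({x} : Set G) : Subgroup G) = 344064 ∧
      (∀ h ∈ c.H, h * x * h⁻¹ ≠ x * z) ∧
      (∀ k, k * c.im x = c.im x * k → ∃ w ∈ c.H, w * x = x * w ∧ c.im w = k) ∧
      (∀ (g : G) (a b : c.Star), a ≠ b → g * x * g⁻¹ = c.tau hs a b →
        c.sp hs extra22 (g * z * g⁻¹) a = b ∧ {d | c.sp hs extra22 (g * z * g⁻¹) d = d}.ncard = 8) := by
  classical
  haveI : Fact (Nat.Prime 7) := ⟨by norm_num⟩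
  obtain ⟨k, hk, hcase⟩ := c.cent_card hs hx
  rw [hcl] at hk
  obtain ⟨hk192, hno⟩ : k = 192 ∧ ∀ h ∈ c.H, h * x * h⁻¹ ≠ x * z := by
    rcases hcase with h | ⟨-, h, hh, e⟩
    · exact h
    exfalso
    have hxz : ¬ IsConj z (x * z) := fun h' => hx.2.2.2 ((c.isConj_z_conj h x).1 (e ▸ h'))
    have h0 : c.nZT (c.im x) = 0 := by
      rw [nZT, Set.ncard_eq_zero (Set.toFinite _), Set.eq_empty_iff_forall_notMem]
      rintro t ⟨ht, htc, -⟩
      obtain ⟨w, hw, ew⟩ := (c.outer_fib hx.1 hx.notMem_M hx.2.1).2 t ht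
      have := (c.isConj_z_conj w t).2 htc
      rcases ew with ew | ew <;> rw [ew] at this
      exacts [hx.2.2.2 this, hxz this]
    omega
  subst hk192
  set C := c.H ⊓ centralizer ({x} : Set G) with hC
  have hC34 : Nat.card ↥C = 344064 := by omega
  obtain ⟨f0, hf0⟩ := exists_prime_orderOf_dvd_card' (G := ↥C) 7 (by rw [hC34]; norm_num)
  set f : G := (f0 : G) with hfdef
  have hfo : orderOf f = 7 := by rw [hfdef, Subgroup.orderOf_coe, hf0]
  have hfH : f ∈ c.H := f0.2.1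
  have hfx : f * x = x * f := mem_centralizer_singleton_iff.1 f0.2.2
  refine ⟨hC34, hno, c.im_onto hx ?_, fun g a b hab e => ?_⟩
  · rw [hcl, hC34]
    exact (Nat.mul_le_mul_right _ (c.card_EC_le hx)).trans (by norm_num)
  obtain ⟨ψ, hψ, hψJ⟩ := c.exists_pairHom hs extra22 hab
  have hy := c.mem_cent_side e (c.comm_z hx.1).symm
  have hf' := c.mem_cent_side e hfx
  obtain ⟨hya, hyb, -, -, -⟩ := c.image_class hs hx hab e (Or.inr rfl) hfH hfx hfo ψ hψ hψJ hy
  refine ⟨hya, ?_⟩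
  have hle := c.cent_Tset_le hs (c.tau_Tset hs hab)
  have hfo' : orderOf (g * f * g⁻¹) = 7 := (MulEquiv.orderOf_eq (MulAut.conj g) f).trans hfo
  set y := g * z * g⁻¹ with hydef
  set τ := c.sp hs extra22 (g * f * g⁻¹) with hτ
  set σ := c.sp hs extra22 y with hσ
  have h3 : {d | τ d = d}.ncard = 3 :=
    ((c.fix_stars hs extra22 (hle hf')).2.2.1 7 (by norm_num) (by norm_num) hfo').trans (by norm_num)
  have hinv := (c.fix_stars hs extra22 (hle hy)).2.1
  rcases hinv (by rw [hydef, conj_mul, c.zz, mul_one, mul_inv_cancel])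
    (c.side_notMem hs hx (e ▸ c.tau_W hs a b)) with h | h
  · exact h
  exfalso
  have hcomm : ∀ d, σ (τ d) = τ (σ d) := fun d => by
    rw [hσ, hτ, ← c.sp_mul hs extra22 (hle hy) (hle hf'), ← c.sp_mul hs extra22 (hle hf') (hle hy), hydef,
      conj_mul, conj_mul, c.comm_z hfH]
  have hσσ : ∀ d, σ (σ d) = d := fun d => by
    rw [hσ, ← c.sp_mul hs extra22 (hle hy) (hle hy), hydef, conj_mul, c.zz, mul_one, mul_inv_cancel, c.sp_one]; rfl
  -- the involution acts on three points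
  have hmap : ∀ d, σ d ∈ {d | τ d = d} ↔ d ∈ {d | τ d = d} := fun d => by
    show τ (σ d) = σ d ↔ τ d = d
    rw [← hcomm, σ.injective.eq_iff]
  have hmod := ncard_fix_modEq (p := 2) Nat.prime_two σ
    (by rw [pow_two]; exact Equiv.ext hσσ) {d | τ d = d} hmap
  rw [h3] at hmod
  have h0 : {d | d ∈ {d | τ d = d} ∧ σ d = d}.ncard = 0 :=
    Nat.le_zero.1 ((Set.ncard_le_ncard (fun d hd => hd.2) (Set.toFinite _)).trans h.le)
  rw [h0] at hmod
  norm_num at hmod

end CfsgLib.Spor.JFourType.Ctx
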