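import Cfsg.Agent.Lib.Spor.JFourType.Order.OuterData
import Cfsg.Agent.Lib.Spor.MathieuSimple

/-!
# The two classes of outer involutions in the pair stabilizer

Each list is closed under conjugation by four generators of the simple subgroup and every member is reached from the
root, so it is a class; the outer members of the abelian subgroup of order 32 all occur.
-/

set_option autoImplicit false
set_option maxRecDepth 20000

namespace CfsgLib.Spor.JFourType

open Cfsg Subgroup

/-- The code is a normalized permutation and the next is larger. -/
def memRow (W n i : ℕ) : Bool :=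
  isPermCode (arrGet 120 W i) && ((permMulCode idPacked (arrGet 120 W i) == arrGet 120 W i) &&
    (i + 1 == n || decide (arrGet 120 W i < arrGet 120 W (i + 1))))

/-- The conjugate by each generator is the stated member. -/
def closedRow (W T n i : ℕ) : Bool :=
  (List.range 4).all fun g => decide (arrGet 12 T (4 * i + g) < n) &&
    twine (arrGet 120 m22Values g) (arrGet 120 W i) (arrGet 120 W (arrGet 12 T (4 * i + g)))

/-- The member is obtained from one nearer to the root. -/
def reachRow (T P R r n i : ℕ) : Bool :=
  i == r || (decide (arrGet 14 P i / 4 < n) && (decide (arrGet 12 R (arrGet 14 P i / 4) < arrGet 12 R i) &&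
    (arrGet 12 T (arrGet 14 P i) == i)))

/-- All rows. -/
def classCheck (W T P R r n : ℕ) : Bool :=
  (List.range n).all fun i => memRow W n i && (closedRow W T n i && reachRow T P R r n i)

theorem clsA_ok : classCheck clsAW clsAT clsAP clsAR clsA0 1386 = true := by decide +kernel

theorem clsB_ok : classCheck clsBW clsBT clsBP clsBR clsB0 330 = true := by decide +kernel

theorem roots_ok : (arrGet 120 clsAW clsA0 == el 19) = true ∧ (arrGet 120 clsBW clsB0 == el 44) = true ∧
    clsA0 < 1386 ∧ clsB0 < 330 ∧ (permFn (el 19) 23 != 23) = true ∧ (permFn (el 44) 23 != 23) = true ∧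
    mRR.testBit 19 = true ∧ mRR.testBit 44 = true := by decide +kernel

/-- An outer member of the abelian subgroup is listed. -/
def atRow (i : ℕ) : Bool :=
  !(mRR.testBit i) || (permFn (el i) 23 == 23) || outerAt.any fun q => (q.1 == i) &&
    (((q.2.1 == 0) && (decide (q.2.2 < 1386) && (arrGet 120 clsAW q.2.2 == el i))) ||
      ((q.2.1 == 1) && (decide (q.2.2 < 330) && (arrGet 120 clsBW q.2.2 == el i))))

theorem at_ok : (List.range 256).all atRow = true := by decide +kernel

theorem m22_gens : closure {g | ∃ i < m22Gens, permOf (arrGet 120 m22Values i) = g} = chainSub 2 :=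
  eq_chainSub_of_cover (by norm_num) m22Cover_true (isPermCode_of_slpCheck m22Slp_true)
    (fixed_of_closure (mem_chainSub_of_check (by norm_num) m22Gen_true m22Fix_true))
    (mem_of_slpCheck m22Slp_true _ fun i hi => subset_closure ⟨i, hi, rfl⟩)

end CfsgLib.Spor.JFourType
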