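import Cfsg.Agent.Lib.Spor.JFourType.Order.Census
import Cfsg.Agent.Lib.Spor.JFourType.Order.OuterClass22
import Cfsg.Agent.Lib.Spor.JFourType.CentT
import Cfsg.Agent.Lib.Spor.JFourType.CodeM24
import Cfsg.Agent.Lib.Spor.JFourType.Facts22.FiveSeven
import Cfsg.Agent.Lib.Spor.JFourType.Facts22Extra
import Cfsg.Agent.Lib.Spor.PointSubgroups
import Cfsg.Agent.Lib.Spor.OuterAut

/-!
# The stars as points: fixed points and the map to the pair stabilizer
-/

set_option autoImplicit false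
set_option linter.style.haveILetI false

namespace CfsgLib.Spor.JFourType

open Subgroup Cfsg

universe u v

/-- An element of prime order fixes as many elements of a subgroup it normalizes as there are, modulo the prime. -/
theorem card_modEq_centralizer {Γ : Type u} [Group Γ] [Finite Γ] {q : ℕ} (hq : q.Prime) {f : Γ}
    (hf : orderOf f = q) (K : Subgroup Γ) (hn : ∀ x ∈ K, f * x * f⁻¹ ∈ K) :
    Nat.card ↥K % q = Nat.card ↥(K ⊓ centralizer ({f} : Set Γ) : Subgroup Γ) % q := by
  classical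
  haveI : Fact q.Prime := ⟨hq⟩
  have hun : f ∈ normalizer (K : Set Γ) := mem_normalizer_fintype fun x hx => hn x hx
  have hle : zpowers f ≤ normalizer (K : Set Γ) := zpowers_le.2 hun
  letI : MulAction ↥(zpowers f) ↥K :=
    { smul := fun g x => ⟨(g : Γ) * x * (g : Γ)⁻¹, (mem_normalizer_iff.1 (hle g.2) _).1 x.2⟩
      one_smul := fun x => Subtype.ext (show ((1 : ↥(zpowers f)) : Γ) * x * ((1 : ↥(zpowers f)) : Γ)⁻¹ = x by simp)
      mul_smul := fun a b x => Subtype.ext (show ((a * b : ↥(zpowers f)) : Γ) * x * ((a * b : ↥(zpowers f)) : Γ)⁻¹ =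
        (a : Γ) * ((b : Γ) * x * (b : Γ)⁻¹) * (a : Γ)⁻¹ by rw [Subgroup.coe_mul]; group) }
  have hp : IsPGroup q ↥(zpowers f) := IsPGroup.of_card (n := 1) (by rw [Nat.card_zpowers, hf, pow_one])
  have h := hp.card_modEq_card_fixedPoints ↥K
  have h1 : Nat.card (MulAction.fixedPoints ↥(zpowers f) ↥K) =
      Nat.card ↥(K ⊓ centralizer ({f} : Set Γ) : Subgroup Γ) := by
    refine Nat.card_congr ⟨fun x => ⟨x.1, mem_inf.2 ⟨x.1.2, mem_centralizer_singleton_iff.2 ?_⟩⟩,
      fun x => ⟨⟨x, x.2.1⟩, ?_⟩, fun x => rfl, fun x => rfl⟩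
    · have hfix : f * (x.1 : Γ) * f⁻¹ = x.1 := congrArg Subtype.val (x.2 ⟨f, mem_zpowers f⟩)
      exact (mul_inv_eq_iff_eq_mul.1 hfix).symm
    · intro g
      refine Subtype.ext ?_
      show (g : Γ) * x * (g : Γ)⁻¹ = x
      obtain ⟨n, hn'⟩ := mem_zpowers_iff.1 g.2
      have hc : Commute f (x : Γ) := (mem_centralizer_singleton_iff.1 x.2.2).symm
      rw [← hn', (hc.zpow_left n).eq, mul_inv_cancel_right]
  rw [h1] at h
  exact h

namespace Ctx

variable {G : Type u} [Group G] [Finite G] {A : Type} [Group A] {J I R : Subgroup A}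
  {z : G} {P : Subgroup G} (c : Ctx J I R z P)
include c

/-- The permutation of the stars given by an element normalizing `W`, total. -/
noncomputable def sp (hs : c.Split) (he : Extra J I R) (x : G) : Equiv.Perm c.Star := by
  classical exact if h : x ∈ normalizer (c.W : Set G) then c.starHom hs he.card_NI ⟨x, h⟩ else 1

theorem sp_eq (hs : c.Split) (he : Extra J I R) {x : G} (h : x ∈ normalizer (c.W : Set G)) :
    c.sp hs he x = c.starHom hs he.card_NI ⟨x, h⟩ := by rw [sp]; exact dif_pos h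

theorem sp_one (hs : c.Split) (he : Extra J I R) : c.sp hs he 1 = 1 := by
  rw [c.sp_eq hs he (one_mem _)]
  exact map_one _

theorem sp_mul (hs : c.Split) (he : Extra J I R) {x y : G} (hx : x ∈ normalizer (c.W : Set G))
    (hy : y ∈ normalizer (c.W : Set G)) (a : c.Star) :
    c.sp hs he (x * y) a = c.sp hs he x (c.sp hs he y a) := by
  rw [c.sp_eq hs he hx, c.sp_eq hs he hy, c.sp_eq hs he (mul_mem hx hy),
    show (⟨x * y, mul_mem hx hy⟩ : ↥(normalizer (c.W : Set G))) = ⟨x, hx⟩ * ⟨y, hy⟩ from rfl, map_mul]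
  rfl

theorem sp_tau (hs : c.Split) (he : Extra J I R) {x : G} (hx : x ∈ normalizer (c.W : Set G)) (a b : c.Star) :
    c.tau hs (c.sp hs he x a) (c.sp hs he x b) = x * c.tau hs a b * x⁻¹ := by
  rw [c.sp_eq hs he hx]
  exact c.tau_starHom hs he.card_NI ⟨x, hx⟩ a b

theorem sp_of_W (hs : c.Split) (he : Extra J I R) {x : G} (hx : x ∈ c.W) (a : c.Star) : c.sp hs he x a = a := by
  rw [c.sp_eq hs he (c.W_le_normalizer hx)]
  exact c.isImage_unique hs (c.starPerm_spec hs he.card_NI ⟨x, c.W_le_normalizer hx⟩ a) fun d hd => by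
    show c.Inc (x * c.tau hs a d * x⁻¹) a.1
    rw [c.W_comm hx (c.tau_W hs a d), mul_inv_cancel_right]
    exact (c.tau_spec hs (Ne.symm hd)).1

theorem exists_moved (hs : c.Split) (he : Extra J I R) {x : G} (hx : x ∈ normalizer (c.W : Set G))
    (hxW : x ∉ c.W) : ∃ a, c.sp hs he x a ≠ a := by
  by_contra hcon
  push Not at hcon
  refine hxW (c.centralizer_W.le (c.fix_W_of_stars hs he.card_NI (n := ⟨x, hx⟩) ?_))
  ext1 a
  have := hcon a
  rwa [c.sp_eq hs he hx] at this

/-- A pair of stars is fixed or exchanged by what centralizes its element. -/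
theorem sp_pair (hs : c.Split) (he : Extra J I R) {x : G} (hx : x ∈ normalizer (c.W : Set G)) {a b : c.Star}
    (hab : a ≠ b) (hc : x * c.tau hs a b = c.tau hs a b * x) :
    (c.sp hs he x a = a ∧ c.sp hs he x b = b) ∨ (c.sp hs he x a = b ∧ c.sp hs he x b = a) :=
  c.tau_inj hs (fun h => hab ((c.sp hs he x).injective h)) hab (by rw [c.sp_tau hs he hx, hc, mul_inv_cancel_right])

theorem tau_ne_one (hs : c.Split) {a b : c.Star} (h : a ≠ b) : c.tau hs a b ≠ 1 := (c.tau_Tset hs h).2.1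

/-- The numbers of fixed stars. -/
theorem fix_stars (hs : c.Split) (he : Extra J I R) {x : G} (hx : x ∈ normalizer (c.W : Set G)) :
    ((∀ a, c.sp hs he x a = a) → x ∈ c.W) ∧
    (x * x = 1 → x ∉ c.W → {a | c.sp hs he x a = a}.ncard = 8 ∨ {a | c.sp hs he x a = a}.ncard = 0) ∧
    (∀ p : ℕ, p.Prime → 5 ≤ p → orderOf x = p → {a | c.sp hs he x a = a}.ncard = 24 % p) ∧
    (x ∉ c.W → {a | c.sp hs he x a = a}.ncard ≤ 8) := by
  classical
  obtain ⟨φ, e, hker, -, -, hφ⟩ := c.exists_hom_M24 hs he.card_NI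
  set σ : Equiv.Perm GolayPt := ((φ ⟨x, hx⟩ : ↥M24) : Equiv.Perm GolayPt) with hσ
  have hσM : σ ∈ M24 := (φ ⟨x, hx⟩).2
  have hval : ∀ a, σ (e a) = e (c.sp hs he x a) := fun a => by
    rw [hσ, hφ, c.sp_eq hs he hx]
  have hcard : {a | c.sp hs he x a = a}.ncard = (fixSet σ).card := by
    rw [← Set.ncard_coe_finset, ← Set.ncard_image_of_injective _ e.injective]
    congr 1
    ext q
    simp only [Set.mem_image, Set.mem_setOf_eq, Finset.mem_coe, PointSub.mem_fixSet]
    constructor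
    · rintro ⟨a, ha, rfl⟩
      rw [hval, ha]
    · intro hq
      refine ⟨e.symm q, e.injective ?_, e.apply_symm_apply q⟩
      rw [← hval, e.apply_symm_apply, hq]
  have hσW : σ = 1 ↔ x ∈ c.W := by
    have : φ ⟨x, hx⟩ = 1 ↔ x ∈ c.W := by rw [← MonoidHom.mem_ker, hker, mem_subgroupOf]
    rw [← this, hσ]
    exact ⟨fun h => Subtype.ext h, fun h => by rw [h]; rfl⟩
  refine ⟨fun h => hσW.1 (Equiv.ext fun q => ?_), fun h2 hxW => ?_, fun p hp hp5 ho => ?_, fun hxW => ?_⟩
  · rw [← e.apply_symm_apply q, hval, h]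
    rfl
  · have h2' : orderOf σ = 2 := orderOf_eq_prime (by
      rw [pow_two, hσ, ← Subgroup.coe_mul, ← map_mul,
        show (⟨x, hx⟩ : ↥(normalizer (c.W : Set G))) * ⟨x, hx⟩ = 1 from Subtype.ext h2, map_one]
      rfl) fun h => hxW (hσW.1 h)
    rcases two_fix hσM h2' with h | h
    · exact Or.inl (hcard.trans h.2)
    · exact Or.inr (hcard.trans (by rw [h]; rfl))
  · haveI : Fact p.Prime := ⟨hp⟩
    rw [hcard]
    refine PointSub.fix_card hp5 hσM (orderOf_eq_prime ?_ fun h => ?_)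
    · rw [hσ, ← SubgroupClass.coe_pow, ← map_pow,
        show (⟨x, hx⟩ : ↥(normalizer (c.W : Set G))) ^ p = 1 from Subtype.ext (by
          rw [SubgroupClass.coe_pow]; exact ho ▸ pow_orderOf_eq_one x), map_one]
      rfl
    · have h2 : orderOf x ∣ 2 := orderOf_dvd_of_pow_eq_one (by rw [pow_two, c.W_sq (hσW.1 h)])
      have := Nat.le_of_dvd (by norm_num) h2
      omega
  · rw [hcard]
    exact PointSub.fix_le_eight hσM fun h => hxW (hσW.1 h)

/-- The map of the centralizer of the element of a pair to the pair stabilizer. -/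
theorem exists_pairHom (hs : c.Split) (he : Extra J I R) {a b : c.Star} (hab : a ≠ b) :
    ∃ ψ : ↥(centralizer ({c.tau hs a b} : Set G)) →* ↥Gam, (∀ x, ψ x = 1 → (x : G) ∈ c.W) ∧
      ∀ x, ψ x ∈ J22 ↔ c.sp hs he (x : G) a = a := by
  classical
  obtain ⟨φ, e, hker, -, -, hφ⟩ := c.exists_hom_M24 hs he.card_NI
  obtain ⟨g, hg, hgm⟩ := OuterAut.exists_map (n := 2) (by norm_num) ![e a, e b] ![none, some 0]
    (by intro i j; fin_cases i <;> fin_cases j <;> simp [hab, Ne.symm hab])
    (by intro i j; fin_cases i <;> fin_cases j <;> simp)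
  have hga : g (e a) = none := hgm 0
  have hgb : g (e b) = some 0 := hgm 1
  have hga' : g⁻¹ none = e a := Equiv.Perm.inv_eq_iff_eq.2 hga.symm
  have hgb' : g⁻¹ (some 0) = e b := Equiv.Perm.inv_eq_iff_eq.2 hgb.symm
  have hle := c.cent_Tset_le hs (c.tau_Tset hs hab)
  let incl : ↥(centralizer ({c.tau hs a b} : Set G)) →* ↥(normalizer (c.W : Set G)) := Subgroup.inclusion hle
  let f : ↥(centralizer ({c.tau hs a b} : Set G)) →* Equiv.Perm GolayPt :=
    (MulAut.conj g).toMonoidHom.comp ((M24.subtype.comp φ).comp incl)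
  have hf : ∀ x p, f x p = g (((φ (incl x) : ↥M24) : Equiv.Perm GolayPt) (g⁻¹ p)) := fun _ _ => rfl
  have hsp : ∀ (x : ↥(centralizer ({c.tau hs a b} : Set G))) d, c.starHom hs he.card_NI (incl x) d = c.sp hs he x d :=
    fun x d => by rw [c.sp_eq hs he (hle x.2)]; rfl
  have hor := fun x : ↥(centralizer ({c.tau hs a b} : Set G)) =>
    c.sp_pair hs he (hle x.2) hab (mem_centralizer_singleton_iff.1 x.2)
  have hmem : ∀ x, f x ∈ Gam := by
    intro x
    refine mem_Gam.2 ⟨mul_mem (mul_mem hg (φ (incl x)).2) (inv_mem hg), ?_⟩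
    rw [hf, hf, hga', hgb', hφ, hφ, hsp, hsp]
    rcases hor x with ⟨h1, h2⟩ | ⟨h1, h2⟩ <;> rw [h1, h2]
    · exact Or.inl ⟨hga, hgb⟩
    · exact Or.inr ⟨hgb, hga⟩
  refine ⟨f.codRestrict Gam hmem, fun x hx => ?_, fun x => ?_⟩
  · have h1 : f x = 1 := congrArg Subtype.val hx
    have h2 : φ (incl x) = 1 := by
      refine Subtype.ext (Equiv.ext fun p => g.injective ?_)
      have h := congrArg (fun σ : Equiv.Perm GolayPt => σ (g p)) h1
      simpa [hf] using h
    have h3 : incl x ∈ φ.ker := h2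
    rw [hker] at h3
    exact mem_subgroupOf.1 h3
  · rw [mem_J22]
    show f x none = none ↔ _
    rw [hf, hga', hφ, hsp]
    refine ⟨fun h => e.injective (g.injective (h.trans hga.symm)), fun h => by rw [h, hga]⟩

end Ctx

variable {G : Type u} [Group G] [Finite G] {z : G} {P : Subgroup G} (c : Ctx J22 I22 R22 z P)
include c

/-- The centralizers of the involutions of the pair stabilizer. -/
theorem Ctx.gam_centralizer (hs : c.Split) {s : ↥Gam} (h2 : s * s = 1) (h1 : s ≠ 1) :
    (s ∈ J22 ∧ Nat.card ↥(centralizer ({s} : Set ↥Gam)) = 768) ∨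
    (s ∉ J22 ∧ {x | IsConj s x}.ncard = 1386 ∧ Nat.card ↥(centralizer ({s} : Set ↥Gam)) = 640) ∨
    (s ∉ J22 ∧ {x | IsConj s x}.ncard = 330 ∧ Nat.card ↥(centralizer ({s} : Set ↥Gam)) = 2688) := by
  have hmul : {x | IsConj s x}.ncard * Nat.card ↥(centralizer ({s} : Set ↥Gam)) = 887040 := by
    have h := Ctx.ncard_orbit_mul (⊤ : Subgroup ↥Gam) s
    rw [top_inf_eq, Subgroup.card_top, card_Gam] at h
    rw [← h]
    congr 2
    ext y
    constructor
    · intro hy
      obtain ⟨k, hk⟩ := isConj_iff.1 hy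
      exact ⟨k, mem_top _, hk⟩
    · rintro ⟨k, -, hk⟩
      exact isConj_iff.2 ⟨k, hk⟩
  by_cases hJ : s ∈ J22
  · left
    refine ⟨hJ, ?_⟩
    have ho : orderOf s = 2 := orderOf_eq_prime (by rw [pow_two, h2]) h1
    have e : {x | IsConj s x} = {x : ↥Gam | x ∈ J22 ∧ orderOf x = 2} := by
      ext x
      constructor
      · intro hx
        obtain ⟨k, rfl⟩ := isConj_iff.1 hx
        exact ⟨Subgroup.Normal.conj_mem inferInstance _ hJ k,
          (MulEquiv.orderOf_eq (MulAut.conj k) s).trans ho⟩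
      · rintro ⟨hx, hxo⟩
        obtain ⟨i, hi⟩ : ∃ i : ↥I22, i ≠ 1 := by
          haveI : Nontrivial ↥I22 := Finite.one_lt_card_iff_nontrivial.1 (by rw [c.facts.card_I]; norm_num)
          exact exists_ne 1
        have hi' : (i : ↥Gam) ≠ 1 := fun h => hi (Subtype.ext h)
        exact (c.conj_invol_J i.2 hi' hJ ho).symm.trans (c.conj_invol_J i.2 hi' hx hxo)
    rw [e, c.card_invol_J hs extra22.card_NI] at hmul
    omega
  · right
    obtain ⟨a, b, -, -, -, -, ca, cb, hout⟩ := outerTwo22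
    rcases hout s hJ h2 with h | h
    · have e : {x | IsConj s x} = {x | IsConj a x} := by
        ext x; exact ⟨fun hx => h.trans hx, fun hx => h.symm.trans hx⟩
      rw [e, ca] at hmul
      exact Or.inl ⟨hJ, by rw [e, ca], by omega⟩
    · have e : {x | IsConj s x} = {x | IsConj b x} := by
        ext x; exact ⟨fun hx => h.trans hx, fun hx => h.symm.trans hx⟩
      rw [e, cb] at hmul
      exact Or.inr ⟨hJ, by rw [e, cb], by omega⟩

omit c in
/-- The centralizer of an element of order five. -/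
theorem gam_cent_five {r : ↥Gam} (hr : orderOf r = 5) : Nat.card ↥(centralizer ({r} : Set ↥Gam)) = 10 := by
  haveI : Fact (Nat.Prime 5) := ⟨by norm_num⟩
  obtain ⟨r0, -, -, -, -, -, -, hr0, -, -, -, -, -, -, -, h10, -⟩ := fiveSeven22.five
  have hfac : (Nat.card ↥Gam).factorization 5 = 1 := by
    rw [card_Gam]
    have e : (887040 : ℕ) = 5 * 177408 := by norm_num
    rw [e, Nat.factorization_mul (by norm_num) (by norm_num), Finsupp.add_apply,
      (by norm_num : Nat.Prime 5).factorization_self, Nat.factorization_eq_zero_of_not_dvd (by norm_num)]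
  have hc : ∀ {y : ↥Gam}, orderOf y = 5 → Nat.card ↥(zpowers y) = 5 ^ (Nat.card ↥Gam).factorization 5 :=
    fun hy => by rw [hfac, pow_one, Nat.card_zpowers, hy]
  obtain ⟨h, hh⟩ := MulAction.exists_smul_eq ↥Gam (Sylow.ofCard (zpowers r) (hc hr))
    (Sylow.ofCard (zpowers r0) (hc hr0))
  have h1 := congrArg (fun S : Sylow 5 ↥Gam => (S : Subgroup ↥Gam)) hh
  simp only [Sylow.coe_subgroup_smul, Sylow.coe_ofCard] at h1
  have h2 : zpowers (h * r * h⁻¹) = zpowers r0 := by
    rw [← h1]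
    exact (MonoidHom.map_zpowers (MulAut.conj h).toMonoidHom r).symm
  have h3 : centralizer ({r} : Set ↥Gam) =
      (centralizer ({r0} : Set ↥Gam)).map (MulAut.conj h⁻¹).toMonoidHom := by
    ext x
    rw [mem_map_equiv, MulAut.conj_symm_apply, inv_inv]
    constructor
    · intro hx
      obtain ⟨n, hn⟩ := mem_zpowers_iff.1 (h2.symm ▸ mem_zpowers r0)
      have hc' : Commute (h * x * h⁻¹) (h * r * h⁻¹) := by
        show _ = _
        rw [conj_mul, conj_mul, mem_centralizer_singleton_iff.1 hx]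
      exact mem_centralizer_singleton_iff.2 (hn ▸ (hc'.zpow_right n).eq)
    · intro hx
      obtain ⟨n, hn⟩ := mem_zpowers_iff.1 (h2 ▸ mem_zpowers (h * r * h⁻¹))
      have hc' : Commute (h * x * h⁻¹) (h * r * h⁻¹) :=
        hn ▸ (Commute.zpow_right (mem_centralizer_singleton_iff.1 hx) n)
      refine mem_centralizer_singleton_iff.2 (mul_left_cancel (a := h) (mul_right_cancel (b := h⁻¹) ?_))
      calc h * (x * r) * h⁻¹ = h * x * h⁻¹ * (h * r * h⁻¹) := conj_mul.symm
        _ = h * r * h⁻¹ * (h * x * h⁻¹) := hc'.eq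
        _ = h * (r * x) * h⁻¹ := conj_mul
  rw [h3, card_map_of_injective (MulEquiv.injective _), h10]

end CfsgLib.Spor.JFourType
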