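import Cfsg.Agent.Lib.Spor.JFourType.Order.Final
import Cfsg.Agent.Lib.Spor.JFourType.Order.OuterPair

/-!
# An outer involution that is not conjugate to `z`

It lies in one conjugate of `W` normalized by its centralizer; there `z` acts as an involution of `M24` exchanging
the two stars.  An element of order five or seven of the centralizer decides the number of fixed stars and the
order of the centralizer.
-/

set_option autoImplicit false
set_option linter.style.haveILetI false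

namespace CfsgLib.Spor.JFourType

open Subgroup Cfsg

universe u v

/-- A permutation of prime order on an invariant set. -/
theorem ncard_fix_modEq {α : Type u} [Finite α] {p : ℕ} (hp : p.Prime) (σ : Equiv.Perm α) (hσ : σ ^ p = 1)
    (S : Set α) (hS : ∀ a, σ a ∈ S ↔ a ∈ S) : {a | a ∈ S ∧ σ a = a}.ncard % p = S.ncard % p := by
  classical
  haveI : Fact p.Prime := ⟨hp⟩
  haveI := Fintype.ofFinite α
  let τ : Equiv.Perm {a // a ∈ S} := σ.subtypePerm hS
  have hτ : τ ^ p ^ 1 = 1 := by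
    rw [pow_one, Equiv.Perm.subtypePerm_pow]
    ext a
    simp [hσ]
  have h := Equiv.Perm.card_compl_support_modEq hτ
  have e : {a | a ∈ S ∧ σ a = a} = ↑(τ.supportᶜ.map (Function.Embedding.subtype _)) := by
    ext a
    simp [τ, and_comm]
    try tauto
  rw [e, Set.ncard_coe_finset, Finset.card_map, ← Nat.card_coe_set_eq, Nat.card_eq_fintype_card]
  exact h

/-- The arithmetic of the types over the outer classes. -/
theorem pin_arith {k m m1 m2 p1 p2 p3 q1 q2 q3 : ℕ} (hk : k = 0 ∨ k = 192)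
    (hp : (p1 = 384 ∧ p2 = 0 ∧ p3 = 0) ∨ (p1 = 0 ∧ p2 = 192 ∧ p3 = 0) ∨ (p1 = 0 ∧ p2 = 0 ∧ p3 = 384))
    (hq : (q1 = 384 ∧ q2 = 0 ∧ q3 = 0) ∨ (q1 = 0 ∧ q2 = 192 ∧ q3 = 0) ∨ (q1 = 0 ∧ q2 = 0 ∧ q3 = 384))
    (h1 : 1 + 1155 * 16 + 1386 * p2 + 330 * q2 = 12 * m1 + 1)
    (h2 : 2772 + 1155 * (192 - k) + 1386 * p3 + 330 * q3 = 12 * m2)
    (hW : 2048 ∣ 3980549947 + 1771 * (1386 + 1155 * (96 + k) + 1386 * p1 + 330 * q1 +
      (1 + 1155 * 16 + 1386 * p2 + 330 * q2)) + 276 * (m1 + m2))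
    (hE : 8192 ∣ 3980549947 + 1387 * (1386 + 1155 * (96 + k) + 1386 * p1 + 330 * q1 +
      (1 + 1155 * 16 + 1386 * p2 + 330 * q2)) + 2772 * (m1 + m2) +
      (4032 + 1386 * 1984 + 1155 * (9216 + k * (32 * m)))) :
    p1 ≠ 384 ∧ (p3 = 384 → q2 = 192) := by
  obtain rfl : m1 = (1155 * 16 + 1386 * p2 + 330 * q2) / 12 := by clear hW hE; omega
  obtain rfl : m2 = (2772 + 1155 * (192 - k) + 1386 * p3 + 330 * q3) / 12 := by clear hW hE; omega
  rw [Nat.dvd_iff_mod_eq_zero] at hW hE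
  rcases hk with rfl | rfl <;> rcases hp with ⟨rfl, rfl, rfl⟩ | ⟨rfl, rfl, rfl⟩ | ⟨rfl, rfl, rfl⟩ <;>
    rcases hq with ⟨rfl, rfl, rfl⟩ | ⟨rfl, rfl, rfl⟩ | ⟨rfl, rfl, rfl⟩
  all_goals first | (norm_num at h1 h2 hW hE ⊢; done) | (clear hW hE; omega) | (clear h1 h2; omega)

namespace Ctx

variable {G : Type u} [Group G] [Finite G] {z : G} {P : Subgroup G} (c : Ctx J22 I22 R22 z P)
include c

/-- An outer involution of `H` that is not conjugate to `z`. -/
def OuterT (x : G) : Prop := x ∈ c.H ∧ x * x = 1 ∧ c.im x ∉ J22 ∧ ¬ IsConj z x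

theorem OuterT.ne_one {x : G} (h : c.OuterT x) : x ≠ 1 := fun e => h.2.2.1 (by rw [e, c.im_one]; exact one_mem _)

theorem OuterT.notMem_M {x : G} (h : c.OuterT x) : x ∉ c.M := fun e => h.2.2.1 ((c.mem_M_iff_im h.1).1 e)

/-- The types over the outer classes. -/
theorem exists_pin (hs : c.Split) :
    ∃ a b : ↥Gam, a ∉ J22 ∧ a * a = 1 ∧ b ∉ J22 ∧ b * b = 1 ∧ {x | IsConj a x}.ncard = 1386 ∧
      {x | IsConj b x}.ncard = 330 ∧ (∀ x, x ∉ J22 → x * x = 1 → IsConj a x ∨ IsConj b x) ∧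
      c.nZZ a ≠ 384 ∧ (c.nTT a = 384 → c.nZT b = 192) := by
  have hH : Nat.card ↥c.H = 21799895040 := by rw [c.card_H_local]; norm_num
  obtain ⟨t, ht⟩ : c.Tset.Nonempty := Set.nonempty_of_ncard_ne_zero (by rw [c.card_Tset hs]; norm_num)
  obtain ⟨a, b, ha, ha2, hb, hb2, hca, hcb, hout⟩ := outerTwo22
  obtain ⟨k, m, hk, hp, hq, eZ, eM, eT, eN⟩ := c.census_at hs extra22 ha ha2 hb hb2 hca hcb hout
  refine ⟨a, b, ha, ha2, hb, hb2, hca, hcb, hout, ?_⟩
  have hX := c.zclass_eq hs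
  have hW := c.burnside_W hs extra22 ht
  have hE := c.burnside_E hs extra22 ht
  rw [c.fixZ_eq, hX] at hW hE
  have h2 := c.double_cT hs extra22 hH ht
  have h1 := c.double_cM hs extra22 hH ht
  have hZH := c.ZH_eq
  simp only [Opt, Prod.mk.injEq] at hp hq
  rw [hZH, eZ, eM] at hW hE
  rw [eN] at hE
  rw [eM] at h1
  rw [eT] at h2
  exact pin_arith hk hp hq h1 h2 hW hE

/-- The conjugate of `W` through a non-conjugate of `z`. -/
theorem exists_side (hs : c.Split) {x : G} (hx : x ∈ c.H) (hx2 : x * x = 1) (hx1 : x ≠ 1) (hc : ¬ IsConj z x) :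
    ∃ (g : G) (a b : c.Star), a ≠ b ∧ g * x * g⁻¹ = c.tau hs a b ∧
      (∀ h : G, h * x = x * h → g * h * g⁻¹ ∈ normalizer (c.W : Set G)) ∧
      g * z * g⁻¹ * (g * z * g⁻¹) = 1 := by
  obtain ⟨g, hg⟩ := c.exists_conj_Tset hs extra22 (orderOf_eq_prime (by rw [pow_two, hx2]) hx1) hc
  obtain ⟨a, b, hab, e⟩ := c.exists_tau hs hg
  refine ⟨g, a, b, hab, e.symm, fun h hh => c.cent_Tset_le hs hg (mem_centralizer_singleton_iff.2 ?_), ?_⟩
  · rw [conj_mul, conj_mul, hh]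
  · rw [conj_mul, c.zz, mul_one, mul_inv_cancel]

theorem comm_side {g x t : G} (hx : x ∈ c.H) (e : g * x * g⁻¹ = t) :
    g * z * g⁻¹ * t = t * (g * z * g⁻¹) := by
  rw [← e, conj_mul, conj_mul, c.comm_z hx]

/-- An outer involution is in no conjugate of `W` containing `z`. -/
theorem side_notMem (hs : c.Split) {g x : G} (hx : c.OuterT x) (hg : g * x * g⁻¹ ∈ c.W) :
    g * z * g⁻¹ ∉ c.W := by
  intro hz
  set S := c.W.map (MulAut.conj g⁻¹).toMonoidHom with hS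
  have hmem : ∀ y, y ∈ S ↔ g * y * g⁻¹ ∈ c.W := fun y => by
    rw [hS, mem_map_equiv, MulAut.conj_symm_apply, inv_inv]
  have hSH : S ≤ c.H := fun y hy => mem_centralizer_singleton_iff.2
    ((MulAut.conj g).injective (by
      rw [map_mul, map_mul, MulAut.conj_apply, MulAut.conj_apply, c.W_comm ((hmem y).1 hy) hz]))
  have hE : Cfsg.IsElementaryAbelian 2 S := by
    refine ⟨⟨⟨fun a b => Subtype.ext ?_⟩⟩, fun y hy => ?_⟩
    · refine (MulAut.conj g).injective ?_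
      rw [Subgroup.coe_mul, Subgroup.coe_mul, map_mul, map_mul, MulAut.conj_apply, MulAut.conj_apply,
        c.W_comm ((hmem _).1 a.2) ((hmem _).1 b.2)]
    · refine (MulAut.conj g).injective ?_
      rw [pow_two, map_mul, MulAut.conj_apply, c.W_sq ((hmem y).1 hy), map_one]
  have hc : Nat.card ↥S = 2 ^ 11 := by
    rw [hS, card_map_of_injective (MulEquiv.injective _), c.card_W]
  obtain ⟨⟨j, hj, hjI⟩, -⟩ := c.imS_eleven hSH hE hc
  have h1 := (hjI (c.im x)).1 ((c.mem_imS hSH).2 ⟨x, (hmem x).2 hg, rfl⟩)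
  have h2 := mul_mem (mul_mem hj (c.facts.I_le h1)) (inv_mem hj)
  rw [show j * (j⁻¹ * c.im x * j) * j⁻¹ = c.im x by group] at h2
  exact hx.2.2.1 h2

/-- The centralizer in `H` and the members of a fibre it moves. -/
theorem cent_card (hs : c.Split) {x : G} (hx : c.OuterT x) :
    ∃ k, Nat.card ↥(c.H ⊓ centralizer ({x} : Set G) : Subgroup G) * k =
        24576 * Nat.card ↥(centralizer ({c.im x} : Set ↥Gam)) ∧
      ((k = 192 ∧ ∀ h ∈ c.H, h * x * h⁻¹ ≠ x * z) ∨ (k = 384 ∧ ∃ h ∈ c.H, h * x * h⁻¹ = x * z)) := by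
  obtain ⟨hcard, hrep⟩ := c.outer_fib hx.1 hx.notMem_M hx.2.1
  set K := c.pre (centralizer ({c.im x} : Set ↥Gam)) with hK
  have hKmem : ∀ {h : G}, h ∈ c.H → c.im (h * x * h⁻¹) = c.im x → h ∈ K := fun {h} hh e => by
    rw [hK, c.mem_pre]
    refine ⟨hh, mem_centralizer_singleton_iff.2 ?_⟩
    rw [c.im_conj hh hx.1] at e
    exact mul_inv_eq_iff_eq_mul.1 e
  set O := {y | ∃ h ∈ K, h * x * h⁻¹ = y} with hO
  have horb := Ctx.ncard_orbit_mul K x
  have hint : K ⊓ centralizer ({x} : Set G) = c.H ⊓ centralizer ({x} : Set G) := by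
    refine le_antisymm (inf_le_inf_right _ (c.pre_le _)) fun h hh => ⟨hKmem hh.1 ?_, hh.2⟩
    rw [mem_centralizer_singleton_iff.1 hh.2, mul_inv_cancel_right]
  rw [hint, ← hO, hK, c.card_pre] at horb
  have hsub : O ⊆ c.invFib (c.im x) := by
    rintro _ ⟨h, hh, rfl⟩
    rw [hK, c.mem_pre] at hh
    refine ⟨mul_mem (mul_mem hh.1 hx.1) (inv_mem hh.1), by rw [conj_mul, hx.2.1, mul_one, mul_inv_cancel], ?_⟩
    rw [c.im_conj hh.1 hx.1, mem_centralizer_singleton_iff.1 hh.2, mul_inv_cancel_right]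
  have hcov : c.invFib (c.im x) = O ∪ (fun y => y * z) '' O := by
    refine Set.Subset.antisymm (fun t ht => ?_) (Set.union_subset hsub ?_)
    · obtain ⟨h, hh, e⟩ := hrep t ht
      have hmem : h⁻¹ ∈ K := by
        refine inv_mem ?_
        rw [hK, c.mem_pre]
        refine ⟨hh, mem_centralizer_singleton_iff.2 (mul_inv_eq_iff_eq_mul.1 ?_)⟩
        have e2 : c.im (h * t * h⁻¹) = c.im x := by
          rcases e with e | e <;> rw [e]
          rw [c.im_mul hx.1 c.z_mem_H, c.im_E c.z_mem_E, mul_one]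
        rwa [c.im_conj hh ht.1, ht.2.2] at e2
      rcases e with e | e
      · exact Or.inl ⟨h⁻¹, hmem, by rw [← e]; group⟩
      · refine Or.inr ⟨h⁻¹ * x * h⁻¹⁻¹, ⟨h⁻¹, hmem, rfl⟩, ?_⟩
        show h⁻¹ * x * h⁻¹⁻¹ * z = t
        rw [conj_mul_z (c := c) (inv_mem hh), ← e]
        group
    · rintro _ ⟨y, hy, rfl⟩
      exact invFib_mul_z (hsub hy)
  have e24 : 3 * 2 ^ 13 * Nat.card ↥(centralizer ({c.im x} : Set ↥Gam)) =
      24576 * Nat.card ↥(centralizer ({c.im x} : Set ↥Gam)) := by norm_num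
  rw [e24] at horb
  refine ⟨O.ncard, by rw [mul_comm]; exact horb, ?_⟩
  have hinj := mul_left_injective (G := G) z
  by_cases hf : ∃ h ∈ c.H, h * x * h⁻¹ = x * z
  · right
    refine ⟨?_, hf⟩
    obtain ⟨h, hh, e⟩ := hf
    have hhK : h ∈ K := hKmem hh (by rw [e, c.im_mul hx.1 c.z_mem_H, c.im_E c.z_mem_E, mul_one])
    have hsub' : (fun y => y * z) '' O ⊆ O := by
      rintro _ ⟨_, ⟨k, hk, rfl⟩, rfl⟩
      refine ⟨k * h, mul_mem hk hhK, ?_⟩
      show k * h * x * (k * h)⁻¹ = k * x * k⁻¹ * z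
      rw [conj_mul_z (c := c) ((c.pre_le _) hk), ← e]
      group
    rw [← Set.union_eq_left.2 hsub', ← hcov, hcard]
  · left
    push Not at hf
    refine ⟨?_, hf⟩
    have hd : Disjoint O ((fun y => y * z) '' O) := by
      rw [Set.disjoint_left]
      rintro _ ⟨k, hk, rfl⟩ ⟨_, ⟨l, hl, rfl⟩, e⟩
      refine hf (l⁻¹ * k) (mul_mem (inv_mem ((c.pre_le _) hl)) ((c.pre_le _) hk)) ?_
      change l * x * l⁻¹ * z = k * x * k⁻¹ at e
      calc l⁻¹ * k * x * (l⁻¹ * k)⁻¹ = l⁻¹ * (k * x * k⁻¹) * l := by group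
        _ = l⁻¹ * (l * x * l⁻¹ * z) * l := by rw [e]
        _ = x * z := by rw [conj_mul_z (c := c) ((c.pre_le _) hl)]; group
    have := congrArg Set.ncard hcov
    rw [hcard, Set.ncard_union_eq hd (Set.toFinite _) (Set.toFinite _), Set.ncard_image_of_injective _ hinj] at this
    omega

/-- The kernel of the map to the pair stabilizer bounds the centralizer. -/
theorem cent_dvd (hs : c.Split) {g x : G} (hx : x ∈ c.H) {a b : c.Star} (e : g * x * g⁻¹ = c.tau hs a b)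
    (hN : ∀ h : G, h * x = x * h → g * h * g⁻¹ ∈ normalizer (c.W : Set G))
    (ψ : ↥(centralizer ({c.tau hs a b} : Set G)) →* ↥Gam) (hψ : ∀ w, ψ w = 1 → (w : G) ∈ c.W)
    (hy : g * z * g⁻¹ ∈ centralizer ({c.tau hs a b} : Set G)) :
    Nat.card ↥(c.H ⊓ centralizer ({x} : Set G) : Subgroup G) ∣
      Nat.card ↥(c.W ⊓ centralizer ({g * z * g⁻¹} : Set G) : Subgroup G) *
        Nat.card ↥(centralizer ({ψ ⟨_, hy⟩} : Set ↥Gam)) := by
  set C := c.H ⊓ centralizer ({x} : Set G) with hC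
  let cg : ↥C →* ↥(centralizer ({c.tau hs a b} : Set G)) :=
    ((MulAut.conj g).toMonoidHom.comp C.subtype).codRestrict _ fun h => mem_centralizer_singleton_iff.2 (by
      show g * (h : G) * g⁻¹ * c.tau hs a b = c.tau hs a b * (g * (h : G) * g⁻¹)
      rw [← e, conj_mul, conj_mul, mem_centralizer_singleton_iff.1 h.2.2])
  have hval : ∀ h : ↥C, (cg h : G) = g * h * g⁻¹ := fun h => rfl
  let F := ψ.comp cg
  rw [← F.ker.card_mul_index, Subgroup.index_ker]
  refine mul_dvd_mul ?_ ?_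
  · let κ : ↥F.ker →* ↥(c.W ⊓ centralizer ({g * z * g⁻¹} : Set G) : Subgroup G) :=
      (((MulAut.conj g).toMonoidHom.comp C.subtype).comp F.ker.subtype).codRestrict _ fun h => by
        refine ⟨hψ _ (h.2 : F (h : ↥C) = 1), mem_centralizer_singleton_iff.2 ?_⟩
        show g * ((h : ↥C) : G) * g⁻¹ * (g * z * g⁻¹) = g * z * g⁻¹ * (g * ((h : ↥C) : G) * g⁻¹)
        rw [conj_mul, conj_mul, c.comm_z (h : ↥C).2.1]
    refine Subgroup.card_dvd_of_injective κ fun h k hk => ?_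
    exact Subtype.ext (Subtype.ext ((MulAut.conj g).injective (congrArg Subtype.val hk)))
  · refine Subgroup.card_dvd_of_le ?_
    rintro _ ⟨h, rfl⟩
    refine mem_centralizer_singleton_iff.2 ?_
    show ψ (cg h) * ψ ⟨_, hy⟩ = ψ ⟨_, hy⟩ * ψ (cg h)
    rw [← map_mul, ← map_mul]
    refine congrArg ψ (Subtype.ext ?_)
    show g * (h : G) * g⁻¹ * (g * z * g⁻¹) = g * z * g⁻¹ * (g * (h : G) * g⁻¹)
    rw [conj_mul, conj_mul, c.comm_z h.2.1]

/-- The image of `z` in the pair stabilizer is outer: its class is decided by a prime. -/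
theorem image_class (hs : c.Split) {g x : G} (hx : c.OuterT x) {a b : c.Star} (hab : a ≠ b)
    (e : g * x * g⁻¹ = c.tau hs a b) {p : ℕ} (hp : p = 5 ∨ p = 7) {f : G} (hf : f ∈ c.H) (hfx : f * x = x * f)
    (hfo : orderOf f = p) (ψ : ↥(centralizer ({c.tau hs a b} : Set G)) →* ↥Gam)
    (hψ : ∀ w, ψ w = 1 → (w : G) ∈ c.W) (hψJ : ∀ w, ψ w ∈ J22 ↔ c.sp hs extra22 (w : G) a = a)
    (hy : g * z * g⁻¹ ∈ centralizer ({c.tau hs a b} : Set G)) :
    c.sp hs extra22 (g * z * g⁻¹) a = b ∧ c.sp hs extra22 (g * z * g⁻¹) b = a ∧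
      (p = 5 → Nat.card ↥(centralizer ({ψ ⟨_, hy⟩} : Set ↥Gam)) = 640) ∧
      (p = 7 → Nat.card ↥(centralizer ({ψ ⟨_, hy⟩} : Set ↥Gam)) = 2688) ∧
      (∀ hg : g * f * g⁻¹ ∈ centralizer ({c.tau hs a b} : Set G), orderOf (ψ ⟨_, hg⟩) = p) := by
  have hyW : g * z * g⁻¹ ∉ c.W := c.side_notMem hs hx (e ▸ c.tau_W hs a b)
  have hpp : p.Prime := by rcases hp with rfl | rfl <;> norm_num
  haveI : Fact p.Prime := ⟨hpp⟩
  set s := ψ ⟨_, hy⟩ with hsdef
  have hs1 : s ≠ 1 := fun h => hyW (hψ _ h)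
  have hs2 : s * s = 1 := by
    rw [hsdef, ← map_mul, show (⟨_, hy⟩ : ↥(centralizer ({c.tau hs a b} : Set G))) * ⟨_, hy⟩ = 1 from Subtype.ext (by
      show g * z * g⁻¹ * (g * z * g⁻¹) = 1
      rw [conj_mul, c.zz, mul_one, mul_inv_cancel]), map_one]
  have hfo' : orderOf (g * f * g⁻¹) = p := (MulEquiv.orderOf_eq (MulAut.conj g) f).trans hfo
  have hord : ∀ hg : g * f * g⁻¹ ∈ centralizer ({c.tau hs a b} : Set G), orderOf (ψ ⟨_, hg⟩) = p := by
    intro hg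
    refine orderOf_eq_prime ?_ fun h => ?_
    · rw [← map_pow, show (⟨_, hg⟩ : ↥(centralizer ({c.tau hs a b} : Set G))) ^ p = 1 from Subtype.ext (by
        rw [SubgroupClass.coe_pow]; exact hfo' ▸ pow_orderOf_eq_one _), map_one]
    · have h2 : orderOf (g * f * g⁻¹) ∣ 2 := orderOf_dvd_of_pow_eq_one (by rw [pow_two, c.W_sq (hψ _ h)])
      rw [hfo'] at h2
      have := Nat.le_of_dvd (by norm_num) h2
      omega
  have hg : g * f * g⁻¹ ∈ centralizer ({c.tau hs a b} : Set G) :=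
    mem_centralizer_singleton_iff.2 (by rw [← e, conj_mul, conj_mul, hfx])
  have hdvd : p ∣ Nat.card ↥(centralizer ({s} : Set ↥Gam)) := by
    rw [← hord hg]
    refine Subgroup.orderOf_dvd_natCard _ (mem_centralizer_singleton_iff.2 ?_)
    rw [hsdef, ← map_mul, ← map_mul]
    refine congrArg ψ (Subtype.ext ?_)
    show g * f * g⁻¹ * (g * z * g⁻¹) = g * z * g⁻¹ * (g * f * g⁻¹)
    rw [conj_mul, conj_mul, c.comm_z hf]
  have hout : s ∉ J22 ∧ (p = 5 → Nat.card ↥(centralizer ({s} : Set ↥Gam)) = 640) ∧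
      (p = 7 → Nat.card ↥(centralizer ({s} : Set ↥Gam)) = 2688) := by
    rcases c.gam_centralizer hs hs2 hs1 with ⟨-, h⟩ | ⟨hJ, -, h⟩ | ⟨hJ, -, h⟩ <;> rw [h] at hdvd ⊢ <;>
      rcases hp with rfl | rfl <;>
      first
      | omega
      | (refine ⟨hJ, fun h' => ?_, fun h' => ?_⟩ <;> omega)
  have hsw : c.sp hs extra22 (g * z * g⁻¹) a ≠ a := fun h => hout.1 ((hψJ _).2 h)
  rcases c.sp_pair hs extra22 (c.cent_Tset_le hs (c.tau_Tset hs hab) hy) hab
      (mem_centralizer_singleton_iff.1 hy) with h | h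
  · exact absurd h.1 hsw
  · exact ⟨h.1, h.2, hout.2.1, hout.2.2, hord⟩

/-- An element of order five cuts the fixed part of `W`. -/
theorem W_cent_five (hs : c.Split) {y f : G} (hy : y ∈ normalizer (c.W : Set G)) (hy2 : y * y = 1)
    (hyW : y ∉ c.W) (hf : f ∈ normalizer (c.W : Set G)) (hfo : orderOf f = 5) (hfy : f * y = y * f)
    {a b : c.Star} (hab : a ≠ b) (hya : c.sp hs extra22 y a = b) (hyb : c.sp hs extra22 y b = a)
    (hfa : c.sp hs extra22 f a = a) (hfb : c.sp hs extra22 f b = b) :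
    Nat.card ↥(c.W ⊓ centralizer ({y} : Set G) : Subgroup G) ≤ 64 ∧
      Nat.card ↥(c.W ⊓ centralizer ({y} : Set G) ⊓ centralizer ({f} : Set G) : Subgroup G) ≤ 4 ∧
      {d | c.sp hs extra22 y d = d}.ncard = 0 := by
  classical
  set σ := c.sp hs extra22 y with hσ
  set τ := c.sp hs extra22 f with hτ
  obtain ⟨-, hinv, -, h8⟩ := c.fix_stars hs extra22 hy
  obtain ⟨-, -, hpr, -⟩ := c.fix_stars hs extra22 hf
  have hF4 : {d | τ d = d}.ncard = 4 := (hpr 5 (by norm_num) le_rfl hfo).trans (by norm_num)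
  have hσσ : ∀ d, σ (σ d) = d := fun d => by
    rw [hσ, ← c.sp_mul hs extra22 hy hy, hy2, c.sp_one]; rfl
  have hcomm : ∀ d, σ (τ d) = τ (σ d) := fun d => by
    rw [hσ, hτ, ← c.sp_mul hs extra22 hy hf, ← c.sp_mul hs extra22 hf hy, hfy]
  have hpow : ∀ (n : ℕ) (d : c.Star), c.sp hs extra22 (f ^ n) d = (τ ^ n) d := by
    intro n
    induction n with
    | zero => intro d; rw [pow_zero, pow_zero, c.sp_one]
    | succ n ih => intro d; rw [pow_succ, pow_succ, c.sp_mul hs extra22 (pow_mem hf n) hf, ih]; rfl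
  have hτ5 : τ ^ 5 = 1 := Equiv.ext fun d => by
    rw [← hpow, show f ^ 5 = 1 from hfo ▸ pow_orderOf_eq_one f, c.sp_one]
  set C := c.W ⊓ centralizer ({y} : Set G) with hC
  let D : ↥c.W →* G := MonoidHom.mk' (fun w => (w : G) * (y * (w : G) * y⁻¹)) fun v w => by
    have hv := (mem_normalizer_iff.1 hy _).1 v.2
    rw [Subgroup.coe_mul]
    calc (v : G) * w * (y * ((v : G) * w) * y⁻¹) = (v : G) * (w * (y * v * y⁻¹)) * (y * w * y⁻¹) := by group
      _ = (v : G) * (y * v * y⁻¹ * w) * (y * w * y⁻¹) := by rw [c.W_comm w.2 hv]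
      _ = _ := by group
  have hyi : y⁻¹ = y := inv_eq_of_mul_eq_one_left hy2
  set Rg := D.range with hRg
  have hRC : Rg ≤ C := by
    rintro _ ⟨w, rfl⟩
    have hw := (mem_normalizer_iff.1 hy _).1 w.2
    refine ⟨mul_mem w.2 hw, mem_centralizer_singleton_iff.2 (mul_inv_eq_iff_eq_mul.1 ?_).symm⟩
    show y * ((w : G) * (y * w * y⁻¹)) * y⁻¹ = (w : G) * (y * w * y⁻¹)
    calc y * ((w : G) * (y * w * y⁻¹)) * y⁻¹ = (y * w * y⁻¹) * ((y * y) * w * (y * y)⁻¹) := by group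
      _ = (y * w * y⁻¹) * w := by rw [hy2, inv_one, mul_one, one_mul]
      _ = _ := c.W_comm hw w.2
  have hker : Nat.card ↥D.ker = Nat.card ↥C := Nat.card_congr
    { toFun := fun w => ⟨(w : ↥c.W), (w : ↥c.W).2, mem_centralizer_singleton_iff.2 (by
        have h1 : ((w : ↥c.W) : G) * (y * (w : ↥c.W) * y⁻¹) = 1 := w.2
        rw [mul_eq_one_iff_eq_inv', inv_eq_of_mul_eq_one_left (c.W_sq (w : ↥c.W).2), mul_inv_eq_iff_eq_mul] at h1
        exact h1.symm)⟩
      invFun := fun w => ⟨⟨w, w.2.1⟩, MonoidHom.mem_ker.2 (by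
        show (w : G) * (y * w * y⁻¹) = 1
        rw [← mem_centralizer_singleton_iff.1 w.2.2, mul_inv_cancel_right, c.W_sq w.2.1])⟩
      left_inv := fun w => rfl
      right_inv := fun w => rfl }
  have hmul : Nat.card ↥C * Nat.card ↥Rg = 2048 := by
    rw [← hker, hRg, ← Subgroup.index_ker, Subgroup.card_mul_index, c.card_W]; norm_num
  have hconjR : ∀ r ∈ Rg, f * r * f⁻¹ ∈ Rg := by
    rintro _ ⟨w, rfl⟩
    refine ⟨⟨_, (mem_normalizer_iff.1 hf _).1 w.2⟩, ?_⟩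
    show f * w * f⁻¹ * (y * (f * w * f⁻¹) * y⁻¹) = f * ((w : G) * (y * w * y⁻¹)) * f⁻¹
    have hyf : y * f = f * y := hfy.symm
    calc f * w * f⁻¹ * (y * (f * w * f⁻¹) * y⁻¹) = f * w * f⁻¹ * ((y * f) * w * (y * f)⁻¹) := by group
      _ = f * w * f⁻¹ * ((f * y) * w * (f * y)⁻¹) := by rw [hyf]
      _ = _ := by group
  have hDtau : ∀ d, D ⟨_, c.tau_W hs a d⟩ = c.tau hs a d * c.tau hs b (σ d) := fun d => by
    show c.tau hs a d * (y * c.tau hs a d * y⁻¹) = _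
    rw [← c.sp_tau hs extra22 hy, ← hσ, hya]
  have hftau : ∀ p q, f * c.tau hs p q * f⁻¹ = c.tau hs (τ p) (τ q) :=
    fun p q => (c.sp_tau hs extra22 hf p q).symm
  -- a fixed element
  obtain ⟨d, hd, hda, hdb⟩ : ∃ d, τ d = d ∧ d ≠ a ∧ d ≠ b := by
    by_contra hcon
    push Not at hcon
    have hsub : {d | τ d = d} ⊆ ({a, b} : Set c.Star) := fun d hd => by
      by_cases h : d = a
      exacts [Or.inl h, Or.inr (hcon d hd h)]
    have := Set.ncard_le_ncard hsub (Set.toFinite _)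
    rw [hF4, Set.ncard_pair hab] at this
    omega
  set r0 := D ⟨_, c.tau_W hs a d⟩ with hr0
  have hr0f : f * r0 * f⁻¹ = r0 := by
    rw [hr0, hDtau, ← conj_mul, hftau, hftau, hfa, hfb, hd, ← hcomm, hd]
  have hr01 : r0 ≠ 1 := fun h => by
    rw [hr0, hDtau, mul_eq_one_iff_eq_inv, inv_eq_of_mul_eq_one_left (c.W_sq (c.tau_W hs _ _))] at h
    have hb' : b ≠ σ d := fun e => hda (by rw [← hσσ d, ← e, hyb])
    rcases c.tau_inj hs (Ne.symm hda) hb' h with ⟨h1, -⟩ | ⟨-, h2⟩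
    exacts [hab h1, hdb h2]
  -- a moved element
  obtain ⟨q, hq, hqy⟩ : ∃ q, τ q ≠ q ∧ σ q ≠ q := by
    by_contra hcon
    push Not at hcon
    have hsub : {d | τ d = d}ᶜ ⊆ {d | σ d = d} := fun d hd => hcon d hd
    have h := Set.ncard_le_ncard hsub (Set.toFinite _)
    rw [Set.ncard_compl, hF4, c.card_Star hs] at h
    have : {d | σ d = d}.ncard ≤ 8 := h8 hyW
    omega
  set r1 := D ⟨_, c.tau_W hs a q⟩ with hr1
  have hr1f : f * r1 * f⁻¹ ≠ r1 := fun h => by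
    have e1 : D ⟨_, c.tau_W hs a (τ q)⟩ = r1 := by
      refine Eq.trans ?_ h
      rw [hr1, hDtau, hDtau, ← conj_mul, hftau, hftau, hfa, hfb, hcomm]
    have e2 : D (⟨_, c.tau_W hs a q⟩ * ⟨_, c.tau_W hs a (τ q)⟩) = 1 := by
      rw [map_mul, e1, ← hr1]
      exact c.W_sq (hRC ⟨_, rfl⟩).1
    have e3 : (⟨_, c.tau_W hs a q⟩ * ⟨_, c.tau_W hs a (τ q)⟩ : ↥c.W) = ⟨_, c.tau_W hs q (τ q)⟩ := Subtype.ext (by
      show c.tau hs a q * c.tau hs a (τ q) = c.tau hs q (τ q)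
      rw [c.tau_comm hs a q]
      exact c.tau_mul hs extra22.card_NI q a (τ q))
    rw [e3] at e2
    have e4 : c.tau hs q (τ q) * (y * c.tau hs q (τ q) * y⁻¹) = 1 := e2
    rw [← c.sp_tau hs extra22 hy, ← hσ, mul_eq_one_iff_eq_inv,
      inv_eq_of_mul_eq_one_left (c.W_sq (c.tau_W hs _ _))] at e4
    rcases c.tau_inj hs (Ne.symm hq) (fun e => hq (σ.injective e).symm) e4 with ⟨h1, -⟩ | ⟨h1, -⟩
    · exact hqy h1.symm
    · refine hq ?_
      have hττ : τ (τ q) = q := by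
        have := congrArg σ h1
        rw [hσσ] at this
        -- `this : σ q = τ q`
        calc τ (τ q) = τ (σ q) := by rw [this]
          _ = σ (τ q) := (hcomm q).symm
          _ = q := h1.symm
      have h5 : (τ ^ 5) q = q := by rw [hτ5]; rfl
      have e5 : (τ ^ 5) q = τ (τ (τ (τ (τ q)))) := rfl
      rw [e5, hττ, hττ] at h5
      exact h5
  have hmR := card_modEq_centralizer (q := 5) (by norm_num) hfo Rg hconjR
  obtain ⟨l, hl, hl'⟩ := (Nat.dvd_prime_pow Nat.prime_two).1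
    ((Dvd.intro_left _ hmul).trans (by norm_num : 2048 ∣ 2 ^ 11))
  obtain ⟨o, ho, ho'⟩ := (Nat.dvd_prime_pow Nat.prime_two).1
    ((card_dvd_of_le (inf_le_left : Rg ⊓ centralizer ({f} : Set G) ≤ Rg)).trans (dvd_of_eq hl'))
  have ho0 : o ≠ 0 := fun e => by
    rw [e, pow_zero] at ho'
    have hb : r0 ∈ Rg ⊓ centralizer ({f} : Set G) :=
      ⟨⟨_, rfl⟩, mem_centralizer_singleton_iff.2 (mul_inv_eq_iff_eq_mul.1 hr0f).symm⟩
    rw [eq_bot_of_card_eq _ ho', mem_bot] at hb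
    exact hr01 hb
  have hmov : ∀ S : Subgroup G, r1 ∈ S →
      Nat.card ↥(S ⊓ centralizer ({f} : Set G) : Subgroup G) ≠ Nat.card ↥S := fun S hS e => hr1f (by
    have heq := eq_of_le_of_card_ge (inf_le_left : S ⊓ centralizer ({f} : Set G) ≤ S) e.ge
    have hin : r1 ∈ S ⊓ centralizer ({f} : Set G) := heq.symm ▸ hS
    rw [← mem_centralizer_singleton_iff.1 hin.2, mul_inv_cancel_right])
  have hol : o < l := lt_of_le_of_ne ho fun e => hmov Rg ⟨_, rfl⟩ (by rw [hl', ho', e])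
  rw [hl', ho'] at hmR
  have key : ∀ o l : Fin 12, (l : ℕ) % 12 = l → (o : ℕ) < l → (o : ℕ) ≠ 0 → 2 ^ (l : ℕ) % 5 = 2 ^ (o : ℕ) % 5 →
      5 ≤ (l : ℕ) := by decide
  have h5 : 5 ≤ l := key ⟨o, by omega⟩ ⟨l, by omega⟩ (Nat.mod_eq_of_lt (by omega)) hol ho0 hmR
  obtain ⟨i, hi, hi'⟩ := (Nat.dvd_prime_pow Nat.prime_two).1
    ((card_dvd_of_le (inf_le_left : C ≤ c.W)).trans (dvd_of_eq c.card_W))
  have hil : i + l = 11 := by
    rw [hi', hl', ← pow_add, show (2048 : ℕ) = 2 ^ 11 by norm_num] at hmul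
    exact Nat.pow_right_injective le_rfl hmul
  refine ⟨?_, ?_, ?_⟩
  · rw [hi']
    calc 2 ^ i ≤ 2 ^ 6 := Nat.pow_le_pow_right (by norm_num) (by omega)
      _ = 64 := by norm_num
  · -- the fixed part
    have hCn : ∀ x ∈ C, f * x * f⁻¹ ∈ C := fun x hx => ⟨(mem_normalizer_iff.1 hf _).1 hx.1,
      mem_centralizer_singleton_iff.2 (by
        have hyx := mem_centralizer_singleton_iff.1 hx.2
        have hfi : f⁻¹ * y = y * f⁻¹ := (Commute.inv_left hfy).eq
        calc f * x * f⁻¹ * y = f * x * (f⁻¹ * y) := by group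
          _ = f * (x * y) * f⁻¹ := by rw [hfi]; group
          _ = (f * y) * x * f⁻¹ := by rw [hyx]; group
          _ = _ := by rw [hfy]; group)⟩
    have hm := card_modEq_centralizer (q := 5) (by norm_num) hfo C hCn
    obtain ⟨j, hj, hj'⟩ := (Nat.dvd_prime_pow Nat.prime_two).1
      ((card_dvd_of_le (inf_le_left : C ⊓ centralizer ({f} : Set G) ≤ C)).trans (dvd_of_eq hi'))
    have hlt : j < i := lt_of_le_of_ne hj fun e => hmov C (hRC ⟨_, rfl⟩) (by rw [hi', hj', e])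
    have key2 : ∀ j i : Fin 7, (j : ℕ) < i → 2 ^ (i : ℕ) % 5 = 2 ^ (j : ℕ) % 5 → (j : ℕ) ≤ 2 := by decide
    rw [hi', hj'] at hm
    have := key2 ⟨j, by omega⟩ ⟨i, by omega⟩ hlt hm
    rw [hj']
    calc 2 ^ j ≤ 2 ^ 2 := Nat.pow_le_pow_right (by norm_num) this
      _ = 4 := by norm_num
  · rcases hinv hy2 hyW with h | h
    swap
    · exact h
    exfalso
    have hm := ncard_fix_modEq (p := 5) (by norm_num) τ hτ5 {d | σ d = d} fun d => by
      show σ (τ d) = τ d ↔ σ d = d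
      rw [hcomm, τ.injective.eq_iff]
    rw [h] at hm
    have hd : Disjoint {d | σ d = d ∧ τ d = d} ({a, b} : Set c.Star) := by
      rw [Set.disjoint_left]
      rintro d ⟨h1, -⟩ (rfl | rfl)
      · exact hab (hya.symm.trans h1).symm
      · exact hab (hyb.symm.trans h1)
    have hle := Set.ncard_le_ncard (s := {d | σ d = d ∧ τ d = d} ∪ {a, b}) (t := {d | τ d = d})
      (by rintro d (⟨-, h⟩ | rfl | rfl) <;> assumption) (Set.toFinite _)
    rw [Set.ncard_union_eq hd (Set.toFinite _) (Set.toFinite _), Set.ncard_pair hab, hF4] at hle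
    change {d | σ d = d ∧ τ d = d}.ncard % 5 = 8 % 5 at hm
    omega

end Ctx

end CfsgLib.Spor.JFourType
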