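import Cfsg.Agent.Lib.Spor.JFourType.Order.Pgl23Point

/-!
# The projective general group over 23 elements in a group of Janko-four type

The two normalizers meet in the special group; the element exchanging them extends it.
-/

set_option autoImplicit false
set_option linter.style.haveILetI false

namespace CfsgLib.Spor.JFourType

open Subgroup Cfsg
open scoped Pointwise

universe u

local instance : Fact (Nat.Prime 23) := ⟨by norm_num⟩

namespace Ctx

variable {G : Type u} [Group G] [Finite G] {A : Type} [Group A] {J I R : Subgroup A}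
  {z : G} {P : Subgroup G} (c : Ctx J I R z P)
include c

/-- The group contains the projective general group. -/
theorem exists_pgl (hs : c.Split) (F : FiveSeven J I R) (he : Extra J I R) (hx : SpreadFacts J I)
    (hX : c.zclass = 3980549947) :
    ∃ K : Subgroup G, Nonempty (↥K ≃* CfsgLib.Perm.Dickson.G2 (ZMod 23)) := by
  classical
  obtain ⟨u, g, ψ, hou, hCu, hgu, hgN, hgg, huS, hψ, hF, hcard, hut⟩ := c.exists_swap hs F he hx hX
  let N := normalizer (c.W : Set G)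
  let S : Subgroup G := N ⊓ N.map (MulAut.conj g).toMonoidHom
  have hmapN : ∀ y, y ∈ N.map (MulAut.conj g).toMonoidHom ↔ g⁻¹ * y * g ∈ N := fun y => by
    rw [mem_map]
    constructor
    · rintro ⟨x, hx', rfl⟩
      simpa [mul_assoc] using hx'
    · exact fun h => ⟨_, h, by simp [mul_assoc]⟩
  have hgS : g ∈ normalizer (S : Set G) := by
    refine mem_normalizer_fintype fun y hy => ?_
    obtain ⟨hy1, hy2⟩ := mem_inf.1 hy
    rw [hmapN] at hy2
    refine mem_inf.2 ⟨?_, (hmapN _).2 (by simpa [mul_assoc] using hy1)⟩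
    have := mul_mem (mul_mem hgg hy2) (inv_mem hgg)
    simpa [mul_assoc] using this
  set Xs : Subgroup (Equiv.Perm GolayPt) := ψ.range.map Cfsg.M24.subtype with hXs
  let e : ↥S ≃* ↥Xs := (MonoidHom.ofInjective hψ).trans (equivMapOfInjective _ _ Cfsg.M24.subtype_injective)
  have hev : ∀ y : ↥S, (e y : Equiv.Perm GolayPt) = ((ψ y : ↥M24) : Equiv.Perm GolayPt) := fun _ => rfl
  -- conjugation by `g` is not inner on the meet
  have hout : ∀ s : ↥S, ¬ ∀ y : ↥S, g * (y : G) * g⁻¹ = (s : G) * y * (s : G)⁻¹ := by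
    intro s hs'
    have h1 : ((s : G)⁻¹ * g) * u = u * ((s : G)⁻¹ * g) := by
      have := hs' ⟨u, huS⟩
      calc (s : G)⁻¹ * g * u = (s : G)⁻¹ * (g * u * g⁻¹) * g := by group
        _ = (s : G)⁻¹ * ((s : G) * u * (s : G)⁻¹) * g := by rw [this]
        _ = u * ((s : G)⁻¹ * g) := by group
    refine hgN ?_
    have h2 := zpowers_le.2 (mem_inf.1 huS).1 (hCu _ h1)
    simpa using mul_mem (mem_inf.1 s.2).1 h2
  let cg : MulAut ↥S :=
    MulEquiv.ofBijective (((MulAut.conj g).toMonoidHom.comp S.subtype).codRestrict S fun y =>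
      (mem_normalizer_iff.1 hgS y).1 y.2) (Finite.injective_iff_bijective.1 fun a b h => Subtype.ext (by
        have := congrArg Subtype.val h
        simpa using this))
  let α : MulAut ↥Xs := (e.symm.trans cg).trans e
  have hα : ∀ y : ↥S, α (e y) = e (cg y) := fun y => by
    show e (cg (e.symm (e y))) = _
    rw [e.symm_apply_apply]
  have hcg : ∀ y : ↥S, (cg y : G) = g * y * g⁻¹ := fun y => rfl
  have hnin : ∀ k ∈ Xs, ¬ ∀ l : ↥Xs, (α l : Equiv.Perm GolayPt) * k = k * l := by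
    intro k hk h
    refine hout (e.symm ⟨k, hk⟩) fun y => ?_
    have h' := h (e y)
    rw [hα] at h'
    have h2 : e (cg y) = (⟨k, hk⟩ : ↥Xs) * e y * (⟨k, hk⟩ : ↥Xs)⁻¹ := Subtype.ext (by
      rw [Subgroup.coe_mul, Subgroup.coe_mul, Subgroup.coe_inv]
      exact eq_mul_inv_of_mul_eq h')
    have h3 := congrArg (fun w => (e.symm w : G)) h2
    simp only [map_mul, map_inv, e.symm_apply_apply, Subgroup.coe_mul, Subgroup.coe_inv, hcg] at h3
    exact h3
  have hXle : Xs ≤ Cfsg.M24 := map_subtype_le _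
  rcases LineTwentyThree.four_groups hF hXle with h | h | h | h
  · exfalso
    have h1 : Nat.card ↥Xs = Nat.card ↥ψ.range := card_map_of_injective Cfsg.M24.subtype_injective
    rw [h, LineTwentyThree.card_F] at h1
    omega
  · exfalso
    have hT : Xs = Cfsg.Spor.M23 := by
      rw [h]
      ext x
      rw [OuterAut.mem_M23, mem_inf, MulAction.mem_stabilizer_iff]
      rfl
    let eT : ↥Xs ≃* ↥Cfsg.Spor.M23 := MulEquiv.subgroupCongr hT
    obtain ⟨k, hk⟩ := OuterAut.inner_M23 ((eT.symm.trans α).trans eT)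
    refine hnin (k : Equiv.Perm GolayPt) ((SetLike.ext_iff.1 hT _).2 k.2) fun l => ?_
    have h1 := congrArg (fun σ : MulAut ↥Cfsg.Spor.M23 => ((σ (eT l) : ↥Cfsg.Spor.M23) : Equiv.Perm GolayPt)) hk
    simp only [MulEquiv.trans_apply, MulEquiv.symm_apply_apply] at h1
    rw [show ((α l : ↥Xs) : Equiv.Perm GolayPt) = ((eT (α l) : ↥Cfsg.Spor.M23) : Equiv.Perm GolayPt) from rfl, ← h1,
      MulAut.conj_apply, Subgroup.coe_mul, Subgroup.coe_mul, Subgroup.coe_inv, inv_mul_cancel_right]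
    rfl
  swap
  · exfalso
    let eT : ↥Xs ≃* ↥Cfsg.M24 := MulEquiv.subgroupCongr h
    obtain ⟨k, hk⟩ := OuterAut.inner_M24 ((eT.symm.trans α).trans eT)
    refine hnin (k : Equiv.Perm GolayPt) ((SetLike.ext_iff.1 h _).2 k.2) fun l => ?_
    have h1 := congrArg (fun σ : MulAut ↥Cfsg.M24 => ((σ (eT l) : ↥Cfsg.M24) : Equiv.Perm GolayPt)) hk
    simp only [MulEquiv.trans_apply, MulEquiv.symm_apply_apply] at h1
    rw [show ((α l : ↥Xs) : Equiv.Perm GolayPt) = ((eT (α l) : ↥Cfsg.M24) : Equiv.Perm GolayPt) from rfl, ← h1,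
      MulAut.conj_apply, Subgroup.coe_mul, Subgroup.coe_mul, Subgroup.coe_inv, inv_mul_cancel_right]
    rfl
  -- the special group
  let eL : ↥Xs ≃* ↥LineTwentyThree.L := MulEquiv.subgroupCongr h
  have hαt : (((eL.symm.trans α).trans eL) ⟨LineTwentyThree.t, LineTwentyThree.F_le_L LineTwentyThree.t_memF⟩ :
      Equiv.Perm GolayPt) ∈ zpowers LineTwentyThree.t := by
    obtain ⟨h1, h2⟩ := hut huS
    obtain ⟨i, hi⟩ := mem_zpowers_iff.1 h2
    obtain ⟨j, hj⟩ := mem_zpowers_iff.1 hgu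
    have e1 : eL.symm ⟨LineTwentyThree.t, LineTwentyThree.F_le_L LineTwentyThree.t_memF⟩ = e ((⟨u, huS⟩ : ↥S) ^ i) := by
      refine Subtype.ext ?_
      rw [map_zpow, SubgroupClass.coe_zpow, hev, hi]
      rfl
    have e2 : cg ((⟨u, huS⟩ : ↥S) ^ i) = (⟨u, huS⟩ : ↥S) ^ (j * i) := Subtype.ext (by
      rw [hcg, SubgroupClass.coe_zpow, SubgroupClass.coe_zpow, ← conj_zpow, zpow_mul, hj])
    show ((α (eL.symm _) : ↥Xs) : Equiv.Perm GolayPt) ∈ _
    rw [e1, hα, e2, map_zpow, SubgroupClass.coe_zpow, hev]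
    exact zpow_mem h1 _
  obtain ⟨π, hπR, hπ⟩ := LineTwentyThree.exists_perm_aut ((eL.symm.trans α).trans eL) hαt
  have hπg : ∀ y : ↥S, ((ψ (cg y) : ↥M24) : Equiv.Perm GolayPt) * π = π * ((ψ y : ↥M24) : Equiv.Perm GolayPt) := by
    intro y
    have := hπ (eL (e y))
    rw [MulEquiv.trans_apply, MulEquiv.trans_apply, eL.symm_apply_apply, hα] at this
    exact this
  have hLX : ∀ l ∈ LineTwentyThree.L, ∃ y : ↥S, ((ψ y : ↥M24) : Equiv.Perm GolayPt) = l := fun l hl =>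
    ⟨e.symm ⟨l, h ▸ hl⟩, by rw [← hev, e.apply_symm_apply]⟩
  set Rg := LineTwentyThree.lineRep.range
  have hψR : ∀ y : ↥S, ((ψ y : ↥M24) : Equiv.Perm GolayPt) ∈ Rg := fun y => LineTwentyThree.L_le_range (by
    rw [← h, ← hev]; exact (e y).2)
  set K := S ⊔ zpowers g with hK
  -- the permutation belonging to an element
  let Rel : G → Equiv.Perm GolayPt → Prop := fun k σ => σ ∈ Rg ∧ ∀ y : ↥S, ∃ h : k * (y : G) * k⁻¹ ∈ S,
    ((ψ ⟨_, h⟩ : ↥M24) : Equiv.Perm GolayPt) * σ = σ * ((ψ y : ↥M24) : Equiv.Perm GolayPt)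
  have hrmul : ∀ {a b σ τ}, Rel a σ → Rel b τ → Rel (a * b) (σ * τ) := by
    rintro a b σ τ ⟨hσ, ha⟩ ⟨hτ, hb⟩
    refine ⟨mul_mem hσ hτ, fun y => ?_⟩
    obtain ⟨h1, e1⟩ := hb y
    obtain ⟨h2, e2⟩ := ha ⟨_, h1⟩
    have e3 : a * b * (y : G) * (a * b)⁻¹ = a * (b * (y : G) * b⁻¹) * a⁻¹ := by group
    refine ⟨by rw [e3]; exact h2, ?_⟩
    rw [show (⟨a * b * (y : G) * (a * b)⁻¹, _⟩ : ↥S) = ⟨_, h2⟩ from Subtype.ext e3, ← mul_assoc, e2, mul_assoc, e1,
      mul_assoc]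
  have huniq : ∀ {k σ τ}, Rel k σ → Rel k τ → σ = τ := by
    rintro k σ τ ⟨-, hσ⟩ ⟨-, hτ⟩
    have : σ⁻¹ * τ = 1 := LineTwentyThree.centralizer_L fun l hl => by
      obtain ⟨y, rfl⟩ := hLX l hl
      obtain ⟨h1, e1⟩ := hσ y
      obtain ⟨_, e2⟩ := hτ y
      set b := ((ψ ⟨_, h1⟩ : ↥M24) : Equiv.Perm GolayPt)
      set a := ((ψ y : ↥M24) : Equiv.Perm GolayPt)
      calc a * (σ⁻¹ * τ) = σ⁻¹ * (σ * a) * σ⁻¹ * τ := by group
        _ = σ⁻¹ * (b * σ) * σ⁻¹ * τ := by rw [e1]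
        _ = σ⁻¹ * (b * τ) := by group
        _ = σ⁻¹ * (τ * a) := by rw [e2]
        _ = σ⁻¹ * τ * a := by group
    exact inv_mul_eq_one.1 this
  have hex : ∀ k ∈ K, ∃ σ, Rel k σ := by
    intro k hk
    rw [hK, sup_eq_closure] at hk
    induction hk using closure_induction_left with
    | one => exact ⟨1, one_mem _, fun y => ⟨by simp, by simp; rfl⟩⟩
    | mul_left a ha b _ hb =>
      obtain ⟨τ, hτ⟩ := hb
      have hgen : ∀ a ∈ (S : Set G) ∪ (zpowers g : Set G), ∃ σ, Rel a σ := by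
        intro a ha
        rcases ha with ha | ha
        · refine ⟨((ψ ⟨a, ha⟩ : ↥M24) : Equiv.Perm GolayPt), hψR _, fun y => ⟨mul_mem (mul_mem ha y.2) (inv_mem ha), ?_⟩⟩
          rw [← Subgroup.coe_mul, ← Subgroup.coe_mul, ← map_mul, ← map_mul]
          refine congrArg (fun w => ((ψ w : ↥M24) : Equiv.Perm GolayPt)) (Subtype.ext ?_)
          show a * (y : G) * a⁻¹ * a = a * y
          group
        · have hg1 : Rel g π := ⟨hπR, fun y => ⟨(mem_normalizer_iff.1 hgS y).1 y.2, hπg y⟩⟩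
          obtain ⟨n, rfl⟩ := (mem_powers_iff_mem_zpowers (x := g)).2 ha
          induction n with
          | zero => exact ⟨1, one_mem _, fun y => ⟨by simp, by simp; rfl⟩⟩
          | succ n ih =>
            obtain ⟨σ, hσ⟩ := ih (npow_mem_zpowers g n)
            exact ⟨σ * π, by simpa [pow_succ] using hrmul hσ hg1⟩
      obtain ⟨σ, hσ⟩ := hgen a ha
      exact ⟨σ * τ, hrmul hσ hτ⟩
    | inv_mul_cancel a ha b _ hb =>
      obtain ⟨τ, hτ⟩ := hb
      have hai : ∃ σ, Rel a⁻¹ σ := by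
        rcases ha with ha | ha
        · refine ⟨((ψ ⟨a⁻¹, inv_mem ha⟩ : ↥M24) : Equiv.Perm GolayPt), hψR _,
            fun y => ⟨mul_mem (mul_mem (inv_mem ha) y.2) (inv_mem (inv_mem ha)), ?_⟩⟩
          rw [← Subgroup.coe_mul, ← Subgroup.coe_mul, ← map_mul, ← map_mul]
          refine congrArg (fun w => ((ψ w : ↥M24) : Equiv.Perm GolayPt)) (Subtype.ext ?_)
          show a⁻¹ * (y : G) * a⁻¹⁻¹ * a⁻¹ = a⁻¹ * y
          group
        · have hg1 : Rel g π := ⟨hπR, fun y => ⟨(mem_normalizer_iff.1 hgS y).1 y.2, hπg y⟩⟩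
          obtain ⟨n, hn⟩ := (mem_powers_iff_mem_zpowers (x := g)).2 (inv_mem ha)
          rw [← hn]
          clear hn
          induction n with
          | zero => exact ⟨1, one_mem _, fun y => ⟨by simp, by simp; rfl⟩⟩
          | succ n ih =>
            obtain ⟨σ, hσ⟩ := ih
            exact ⟨σ * π, by simpa [pow_succ] using hrmul hσ hg1⟩
      obtain ⟨σ, hσ⟩ := hai
      exact ⟨σ * τ, hrmul hσ hτ⟩
  choose f hf using hex
  let f' : ↥K →* ↥Rg := MonoidHom.mk' (fun k => ⟨f k k.2, (hf k k.2).1⟩) fun a b => Subtype.ext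
    (huniq (hf _ (a * b).2) (hrmul (hf a a.2) (hf b b.2)))
  have hfS : ∀ y : ↥S, ∃ hy : (y : G) ∈ K, f (y : G) hy = ((ψ y : ↥M24) : Equiv.Perm GolayPt) := fun y =>
    ⟨le_sup_left (a := S) y.2, huniq (hf _ _) ⟨hψR y, fun w => ⟨mul_mem (mul_mem y.2 w.2) (inv_mem y.2), by
      refine (Subgroup.coe_mul _ _ _).symm.trans ((congrArg Subtype.val ?_).trans (Subgroup.coe_mul _ _ _))
      refine (map_mul ψ _ _).symm.trans ((congrArg ψ ?_).trans (map_mul ψ _ _))
      refine Subtype.ext ?_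
      show (y : G) * w * (y : G)⁻¹ * y = y * w
      group⟩⟩⟩
  have hinj : Function.Injective f' := by
    rw [injective_iff_map_eq_one]
    rintro ⟨k, hk⟩ hk1
    have h1 : f k hk = 1 := congrArg Subtype.val hk1
    obtain ⟨-, hrel⟩ := hf k hk
    have hcent : ∀ y : ↥S, k * (y : G) * k⁻¹ = y := fun y => by
      obtain ⟨h2, e2⟩ := hrel y
      rw [h1, mul_one, one_mul] at e2
      exact congrArg Subtype.val (hψ (Subtype.ext e2) : (⟨_, h2⟩ : ↥S) = y)
    have hkS : k ∈ S := zpowers_le.2 huS (hCu k (mul_inv_eq_iff_eq_mul.1 (hcent ⟨u, huS⟩)))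
    obtain ⟨_, e3⟩ := hfS ⟨k, hkS⟩
    have e4 : ψ ⟨k, hkS⟩ = 1 := Subtype.ext (by rw [← e3]; exact h1)
    exact Subtype.ext (congrArg (fun v : ↥S => (v : G)) (hψ (e4.trans (map_one ψ).symm)))
  have hgK : g ∈ K := le_sup_right (a := S) (mem_zpowers g)
  have hfg : f g hgK = π := huniq (hf g hgK) ⟨hπR, fun y => ⟨(mem_normalizer_iff.1 hgS y).1 y.2, hπg y⟩⟩
  have hπL : π ∉ LineTwentyThree.L := fun hL => hnin π (h.symm ▸ hL) fun l => by
    have := hπ (eL l)
    rw [MulEquiv.trans_apply, MulEquiv.trans_apply, eL.symm_apply_apply] at this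
    exact this
  have hrange : f'.range = ⊤ := by
    refine eq_top_of_card_eq _ ?_
    have h1 : Nat.card ↥f'.range ∣ Nat.card ↥Rg := card_subgroup_dvd_card _
    have h2 : LineTwentyThree.L < f'.range.map Rg.subtype := by
      refine lt_of_le_of_ne (fun l hl => ?_) fun e => hπL (e ▸ ⟨⟨f g hgK, _⟩, ⟨⟨g, hgK⟩, rfl⟩, hfg⟩)
      obtain ⟨y, rfl⟩ := hLX l hl
      obtain ⟨hy, e4⟩ := hfS y
      exact ⟨⟨f _ hy, (hf _ hy).1⟩, ⟨⟨(y : G), hy⟩, rfl⟩, e4⟩
    have hc := card_map_of_injective (f := Rg.subtype) (K := f'.range) Rg.subtype_injective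
    have h4 : 6072 < Nat.card ↥f'.range := by
      rw [← hc, ← LineTwentyThree.main.1.2.1]
      exact lt_of_le_of_ne (card_le_of_le h2.le) fun e => h2.ne (eq_of_le_of_card_ge h2.le e.ge)
    rw [show Nat.card ↥Rg = 12144 from LineTwentyThree.card_range] at h1 ⊢
    obtain ⟨k, hk⟩ := h1
    rcases k with _ | _ | k
    · omega
    · omega
    · exfalso
      have : 2 ≤ k + 1 + 1 := by omega
      have := Nat.mul_le_mul_left (Nat.card ↥f'.range) this
      omega
  exact ⟨K, ⟨(MulEquiv.ofBijective f' ⟨hinj, MonoidHom.range_eq_top.1 hrange⟩).trans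
    (MonoidHom.ofInjective LineTwentyThree.lineRep_injective).symm⟩⟩

end Ctx

end CfsgLib.Spor.JFourType
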