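import Cfsg.Agent.Lib.Spor.JFourType.Order.LargePrimes
import Cfsg.Agent.Lib.Spor.LineTwentyThreePgl

/-!
# The second fixed point of an element of order 23

Its normalizer in the normalizer of `W` has index two in the whole one; an element outside carries `W` to a
conjugate whose normalizer meets that of `W` in a group that embeds in `M24` and has more than 253 elements.
-/

set_option autoImplicit false
set_option linter.style.haveILetI false

namespace CfsgLib.Spor.JFourType

open Subgroup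

universe u v

/-- The order of a `p`-group normalized by an element of order `q` that fixes only `1`. -/
theorem card_modEq_one_of_free {Γ : Type u} [Group Γ] [Finite Γ] {q : ℕ} (hq : q.Prime) {u : Γ} (hu : orderOf u = q)
    (K : Subgroup Γ) (hn : ∀ x ∈ K, u * x * u⁻¹ ∈ K) (hfree : ∀ x ∈ K, u * x = x * u → x = 1) :
    Nat.card ↥K % q = 1 := by
  classical
  haveI : Fact q.Prime := ⟨hq⟩
  have hun : u ∈ normalizer (K : Set Γ) := mem_normalizer_fintype fun x hx => hn x hx
  have hle : zpowers u ≤ normalizer (K : Set Γ) := zpowers_le.2 hun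
  letI : MulAction ↥(zpowers u) ↥K :=
    { smul := fun g x => ⟨(g : Γ) * x * (g : Γ)⁻¹, (mem_normalizer_iff.1 (hle g.2) _).1 x.2⟩
      one_smul := fun x => Subtype.ext (show ((1 : ↥(zpowers u)) : Γ) * x * ((1 : ↥(zpowers u)) : Γ)⁻¹ = x by simp)
      mul_smul := fun a b x => Subtype.ext (show ((a * b : ↥(zpowers u)) : Γ) * x * ((a * b : ↥(zpowers u)) : Γ)⁻¹ =
        (a : Γ) * ((b : Γ) * x * (b : Γ)⁻¹) * (a : Γ)⁻¹ by rw [Subgroup.coe_mul]; group) }
  have hp : IsPGroup q ↥(zpowers u) := IsPGroup.of_card (n := 1) (by rw [Nat.card_zpowers, hu, pow_one])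
  have h := hp.card_modEq_card_fixedPoints ↥K
  have h1 : MulAction.fixedPoints ↥(zpowers u) ↥K = {1} := by
    ext x
    constructor
    · intro hx
      have hf : u * x * u⁻¹ = x := congrArg Subtype.val (hx ⟨u, mem_zpowers u⟩)
      exact Subtype.ext (hfree x x.2 (mul_inv_eq_iff_eq_mul.1 hf))
    · rintro rfl g
      exact Subtype.ext (show (g : Γ) * 1 * (g : Γ)⁻¹ = 1 by simp)
  rw [h1, Nat.card_coe_set_eq, Set.ncard_singleton] at h
  rw [h, Nat.one_mod_eq_one]
  exact hq.ne_one

/-- Two subgroups meet in at least the product of their orders divided by the order of the group. -/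
theorem card_mul_le_inf {Γ : Type u} [Group Γ] [Finite Γ] (M N : Subgroup Γ) :
    Nat.card ↥M * Nat.card ↥N ≤ Nat.card Γ * Nat.card ↥(M ⊓ N : Subgroup Γ) := by
  have h1 := (M ⊓ N).subgroupOf M |>.card_mul_index
  rw [Nat.card_congr (subgroupOfEquivOfLe (inf_le_left (a := M) (b := N))).toEquiv] at h1
  have h2 : ((M ⊓ N).subgroupOf M).index ≤ N.index := by
    rw [inf_subgroupOf_left]
    exact (relIndex_le_of_le_right le_top (by rw [relIndex_top_right]; exact FiniteIndex.index_ne_zero)).trans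
      (le_of_eq (relIndex_top_right N))
  rw [← h1, ← N.card_mul_index]
  calc Nat.card ↥(M ⊓ N : Subgroup Γ) * ((M ⊓ N).subgroupOf M).index * Nat.card ↥N
      ≤ Nat.card ↥(M ⊓ N : Subgroup Γ) * N.index * Nat.card ↥N :=
        Nat.mul_le_mul_right _ (Nat.mul_le_mul_left _ h2)
    _ = Nat.card ↥N * N.index * Nat.card ↥(M ⊓ N : Subgroup Γ) := by ring

/-- A conjugating element moves the powers as it moves the generator. -/
theorem conj_mem_of_pow {Γ : Type u} [Group Γ] {D Y Z : Γ} {C : Subgroup Γ} {i : ℤ} (h : D * Y * D⁻¹ = Y ^ i)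
    (hY : Y ∈ C) (hZ : Z ∈ zpowers Y) : D * Z * D⁻¹ ∈ C := by
  obtain ⟨j, rfl⟩ := mem_zpowers_iff.1 hZ
  rw [← conj_zpow, h]
  exact zpow_mem (zpow_mem hY _) _

/-- An element of order 23 of `M24` is conjugate to a power of the translation. -/
theorem exists_conj_t {x : ↥Cfsg.M24} (hx : orderOf x = 23) :
    ∃ h : ↥Cfsg.M24, ((h * x * h⁻¹ : ↥Cfsg.M24) : Equiv.Perm Cfsg.GolayPt) ∈ zpowers LineTwentyThree.t ∧
      LineTwentyThree.t ∈ zpowers ((h * x * h⁻¹ : ↥Cfsg.M24) : Equiv.Perm Cfsg.GolayPt) := by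
  haveI : Fact (Nat.Prime 23) := ⟨by norm_num⟩
  have ht : LineTwentyThree.t ∈ Cfsg.M24 := (LineTwentyThree.F_le LineTwentyThree.t_memF).1
  have hfac : (Nat.card ↥Cfsg.M24).factorization 23 = 1 := by
    rw [CfsgLib.Spor.card_M24]
    have e : (244823040 : ℕ) = 23 * 10644480 := by norm_num
    rw [e, Nat.factorization_mul (by norm_num) (by norm_num), Finsupp.add_apply,
      (by norm_num : Nat.Prime 23).factorization_self, Nat.factorization_eq_zero_of_not_dvd (by norm_num)]
  have hc : ∀ {y : ↥Cfsg.M24}, orderOf y = 23 → Nat.card ↥(zpowers y) = 23 ^ (Nat.card ↥Cfsg.M24).factorization 23 :=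
    fun hy => by rw [hfac, pow_one, Nat.card_zpowers, hy]
  have hto : orderOf (⟨_, ht⟩ : ↥Cfsg.M24) = 23 := by rw [Subgroup.orderOf_mk, LineTwentyThree.t_order]
  obtain ⟨h, hh⟩ := MulAction.exists_smul_eq ↥Cfsg.M24 (Sylow.ofCard (zpowers x) (hc hx))
    (Sylow.ofCard (zpowers (⟨_, ht⟩ : ↥Cfsg.M24)) (hc hto))
  have h1 := congrArg (fun S : Sylow 23 ↥Cfsg.M24 => (S : Subgroup ↥Cfsg.M24)) hh
  simp only [Sylow.coe_subgroup_smul, Sylow.coe_ofCard] at h1
  have h2 : zpowers (h * x * h⁻¹) = zpowers (⟨_, ht⟩ : ↥Cfsg.M24) := by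
    rw [← h1]
    exact (MonoidHom.map_zpowers (MulAut.conj h).toMonoidHom x).symm
  refine ⟨h, ?_, ?_⟩
  · obtain ⟨i, hi⟩ := mem_zpowers_iff.1 (h2 ▸ mem_zpowers (h * x * h⁻¹))
    exact ⟨i, congrArg Subtype.val hi⟩
  · obtain ⟨i, hi⟩ := mem_zpowers_iff.1 (h2.symm ▸ mem_zpowers (⟨_, ht⟩ : ↥Cfsg.M24))
    exact ⟨i, congrArg Subtype.val hi⟩

namespace Ctx

variable {G : Type u} [Group G] [Finite G] {A : Type} [Group A] {J I R : Subgroup A}
  {z : G} {P : Subgroup G} (c : Ctx J I R z P)
include c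

/-- The second fixed point. -/
theorem exists_swap (hs : c.Split) (F : FiveSeven J I R) (he : Extra J I R) (hx : SpreadFacts J I)
    (hX : c.zclass = 3980549947) :
    ∃ (u g : G) (ψ : ↥(normalizer (c.W : Set G) ⊓
        (normalizer (c.W : Set G)).map (MulAut.conj g).toMonoidHom : Subgroup G) →* ↥Cfsg.M24),
      orderOf u = 23 ∧ (∀ y, y * u = u * y → y ∈ zpowers u) ∧
      g * u * g⁻¹ ∈ zpowers u ∧ g ∉ normalizer (c.W : Set G) ∧ g * g ∈ normalizer (c.W : Set G) ∧
      u ∈ normalizer (c.W : Set G) ⊓ (normalizer (c.W : Set G)).map (MulAut.conj g).toMonoidHom ∧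
      Function.Injective ψ ∧
      LineTwentyThree.F ≤ ψ.range.map Cfsg.M24.subtype ∧ 253 < Nat.card ↥ψ.range ∧
      ∀ hu, ((ψ ⟨u, hu⟩ : ↥Cfsg.M24) : Equiv.Perm Cfsg.GolayPt) ∈ zpowers LineTwentyThree.t ∧
        LineTwentyThree.t ∈ zpowers ((ψ ⟨u, hu⟩ : ↥Cfsg.M24) : Equiv.Perm Cfsg.GolayPt) := by
  classical
  haveI : Fact (Nat.Prime 23) := ⟨by norm_num⟩
  set N := normalizer (c.W : Set G) with hN
  obtain ⟨φ, e, hker, hsurj, hcN, -⟩ := c.exists_hom_M24 hs he.card_NI
  obtain ⟨hshape, -⟩ := c.large_shapes hs F he hx hX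
  have ht : LineTwentyThree.t ∈ Cfsg.M24 := (LineTwentyThree.F_le LineTwentyThree.t_memF).1
  have hw : LineTwentyThree.w ∈ Cfsg.M24 := (LineTwentyThree.F_le LineTwentyThree.w_memF).1
  obtain ⟨u0, m, hu0, hm⟩ := exists_lift_automizer φ hsurj (q := 23) (a := 2) (by norm_num) (by
      rw [hker, Nat.card_congr (subgroupOfEquivOfLe le_normalizer).toEquiv, c.card_W]
      norm_num)
    (g := ⟨LineTwentyThree.t, ht⟩) (h := ⟨LineTwentyThree.w, hw⟩)
    (by rw [Subgroup.orderOf_mk, LineTwentyThree.t_order]) (Subtype.ext w_conj_t)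
  set u : G := (u0 : G) with hu
  have hou : orderOf u = 23 := by rw [hu, Subgroup.orderOf_coe, hu0]
  obtain ⟨hC, hNu⟩ := hshape u hou
  have hCu : ∀ y, y * u = u * y → y ∈ zpowers u := by
    have h : zpowers u = centralizer ({u} : Set G) := eq_of_le_of_card_ge
      (zpowers_le.2 (mem_centralizer_singleton_iff.2 rfl)) (by rw [hC, Nat.card_zpowers, hou])
    exact fun y hy => h ▸ mem_centralizer_singleton_iff.2 hy
  have hWfree : ∀ y ∈ c.W, u * y = y * u → y = 1 := by
    intro y hy hc'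
    have h := hCu y hc'.symm
    have h1 : orderOf y ∣ 23 := by
      exact (Subgroup.orderOf_dvd_natCard _ h).trans (dvd_of_eq (by rw [Nat.card_zpowers, hou]))
    have h2 : orderOf y ∣ 2 := orderOf_dvd_of_pow_eq_one (by rw [pow_two, c.W_sq hy])
    have h3 := Nat.dvd_gcd h1 h2
    norm_num at h3
    exact h3
  -- the normalizer inside `N`
  set D := N ⊓ normalizer (zpowers u : Set G) with hD
  have hmD : (m : G) ∈ D := by
    refine ⟨m.2, mem_normalizer_fintype fun y hy => ?_⟩
    obtain ⟨i, rfl⟩ := mem_zpowers_iff.1 hy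
    rw [← conj_zpow, show (m : G) * u * (m : G)⁻¹ = u ^ 2 by simpa using congrArg Subtype.val hm]
    exact zpow_mem (npow_mem_zpowers u 2) i
  have hDle : D ≤ normalizer (zpowers u : Set G) := inf_le_right
  have hD253 : Nat.card ↥D = 253 := by
    have hdvd : Nat.card ↥D ∣ 506 := by
      have := card_dvd_of_le hDle
      rw [hNu] at this
      norm_num at this
      exact this
    have h253 : 253 ∣ Nat.card ↥D := by
      have huD : zpowers u ≤ D := le_inf (zpowers_le.2 u0.2) le_normalizer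
      have h23 : 23 ∣ Nat.card ↥D := by
        have := card_dvd_of_le huD
        rwa [Nat.card_zpowers, hou] at this
      have h11 : 11 ∣ Nat.card ↥D := by
        set φD : ↥D →* MulAut ↥(zpowers u) := (zpowers u).normalizerMonoidHom.comp (inclusion hDle)
        have hk : ∀ i : ℕ, φD ⟨(m : G), hmD⟩ ^ i = 1 → (2 ^ i) % 23 = 1 := by
          intro i hi
          have h1 : ((φD (⟨(m : G), hmD⟩ ^ i)) ⟨u, mem_zpowers u⟩ : ↥(zpowers u)) = ⟨u, mem_zpowers u⟩ := by
            rw [map_pow, hi]; rfl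
          have h2 : (m : G) ^ i * u * ((m : G) ^ i)⁻¹ = u := congrArg Subtype.val h1
          have hpow : ∀ i : ℕ, (m : G) ^ i * u * ((m : G) ^ i)⁻¹ = u ^ 2 ^ i := by
            intro i
            induction i with
            | zero => simp
            | succ i ih =>
              calc (m : G) ^ (i + 1) * u * ((m : G) ^ (i + 1))⁻¹
                  = (m : G) * ((m : G) ^ i * u * ((m : G) ^ i)⁻¹) * (m : G)⁻¹ := by rw [pow_succ']; group
                _ = ((m : G) * u * (m : G)⁻¹) ^ 2 ^ i := by rw [ih, conj_pow]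
                _ = (u ^ 2) ^ 2 ^ i := by rw [show (m : G) * u * (m : G)⁻¹ = u ^ 2 by simpa using congrArg Subtype.val hm]
                _ = _ := by rw [← pow_mul, pow_succ']
          rw [hpow] at h2
          have h3 : u ^ 2 ^ i = u ^ 1 := h2.trans (pow_one u).symm
          rw [pow_eq_pow_iff_modEq, hou] at h3
          exact h3
        have hord : orderOf (φD ⟨(m : G), hmD⟩) = 11 := by
          haveI : Fact (Nat.Prime 11) := ⟨by norm_num⟩
          refine orderOf_eq_prime ?_ fun h => ?_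
          · have hz : ((⟨(m : G), hmD⟩ : ↥D) : G) = (m : G) := rfl
            refine MulEquiv.ext fun y => Subtype.ext ?_
            obtain ⟨i, hi⟩ := mem_zpowers_iff.1 y.2
            have hpow : ∀ k : ℕ, (m : G) ^ k * u * ((m : G) ^ k)⁻¹ = u ^ 2 ^ k := by
              intro k
              induction k with
              | zero => simp
              | succ k ih =>
                calc (m : G) ^ (k + 1) * u * ((m : G) ^ (k + 1))⁻¹
                    = (m : G) * ((m : G) ^ k * u * ((m : G) ^ k)⁻¹) * (m : G)⁻¹ := by rw [pow_succ']; group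
                  _ = ((m : G) * u * (m : G)⁻¹) ^ 2 ^ k := by rw [ih, conj_pow]
                  _ = (u ^ 2) ^ 2 ^ k := by
                    rw [show (m : G) * u * (m : G)⁻¹ = u ^ 2 by simpa using congrArg Subtype.val hm]
                  _ = _ := by rw [← pow_mul, pow_succ']
            rw [← map_pow]
            show (m : G) ^ 11 * (y : G) * ((m : G) ^ 11)⁻¹ = (y : G)
            rw [← hi, ← conj_zpow, hpow, ← pow_mod_orderOf, hou]
            norm_num
          · have := hk 1 (by rw [pow_one]; exact h)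
            norm_num at this
        rw [← hord]
        exact (orderOf_map_dvd φD _).trans (orderOf_dvd_natCard _)
      exact Nat.Coprime.mul_dvd_of_dvd_of_dvd (by norm_num) h23 h11
    rcases Nat.lt_or_ge (Nat.card ↥D) 506 with h | h
    · obtain ⟨k, hk⟩ := h253
      have hpos : 0 < Nat.card ↥D := Nat.card_pos
      omega
    -- an element of order two would give one inverting a translation in `M24`
    exfalso
    have h506 : Nat.card ↥D = 506 := le_antisymm (Nat.le_of_dvd (by norm_num) hdvd) h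
    set ψD : ↥D →* ↥Cfsg.M24 := φ.comp (inclusion inf_le_left)
    have hinj : Function.Injective ψD := by
      rw [injective_iff_map_eq_one]
      intro d hd
      have hdW : (d : G) ∈ c.W := by
        have h1 : inclusion inf_le_left d ∈ φ.ker := hd
        rw [hker] at h1
        exact mem_subgroupOf.1 h1
      refine Subtype.ext (hWfree _ hdW ?_)
      have h1 : (d : G) * u * (d : G)⁻¹ * u⁻¹ ∈ zpowers u :=
        mul_mem ((mem_normalizer_iff.1 d.2.2 u).1 (mem_zpowers u)) (inv_mem (mem_zpowers u))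
      have h2 : (d : G) * u * (d : G)⁻¹ * u⁻¹ ∈ c.W := by
        have := mul_mem hdW ((mem_normalizer_iff.1 u0.2 _).1 (inv_mem hdW))
        simpa [mul_assoc] using this
      have h3 : (d : G) * u * (d : G)⁻¹ * u⁻¹ = 1 := by
        have a1 : orderOf ((d : G) * u * (d : G)⁻¹ * u⁻¹) ∣ 23 := by
          exact (Subgroup.orderOf_dvd_natCard _ h1).trans (dvd_of_eq (by rw [Nat.card_zpowers, hou]))
        have a2 : orderOf ((d : G) * u * (d : G)⁻¹ * u⁻¹) ∣ 2 := orderOf_dvd_of_pow_eq_one (by rw [pow_two, c.W_sq h2])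
        have a3 := Nat.dvd_gcd a1 a2
        norm_num at a3
        exact a3
      rw [mul_inv_eq_one, mul_inv_eq_iff_eq_mul] at h3
      exact h3.symm
    have huD' : u ∈ D := ⟨u0.2, le_normalizer (mem_zpowers u)⟩
    obtain ⟨h, h1, h2⟩ := exists_conj_t (x := ψD ⟨u, huD'⟩) (by
      rw [orderOf_injective ψD hinj, Subgroup.orderOf_mk, hou])
    let f : ↥D → ↥LineTwentyThree.F := fun d => ⟨((h * ψD d * h⁻¹ : ↥Cfsg.M24) : Equiv.Perm Cfsg.GolayPt), by
      refine LineTwentyThree.mem_F_of_normal (h * ψD d * h⁻¹).2 ?_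
      obtain ⟨i, hi⟩ := mem_zpowers_iff.1 ((mem_normalizer_iff.1 d.2.2 u).1 (mem_zpowers u))
      have hc' : d * ⟨u, huD'⟩ * d⁻¹ = (⟨u, huD'⟩ : ↥D) ^ i := Subtype.ext (by
        rw [SubgroupClass.coe_zpow]; exact hi.symm)
      have hc'' := congrArg ψD hc'
      rw [map_mul, map_mul, map_inv, map_zpow] at hc''
      set X := h * ψD ⟨u, huD'⟩ * h⁻¹ with hX'
      have hY : h * ψD d * h⁻¹ * X * (h * ψD d * h⁻¹)⁻¹ = X ^ i := by
        rw [hX', conj_zpow, ← hc'']; group
      have hY' := congrArg Subtype.val hY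
      simp only [SubgroupClass.coe_zpow, Subgroup.coe_mul, Subgroup.coe_inv] at hY' ⊢
      exact conj_mem_of_pow hY' h1 h2⟩
    have hfinj : Function.Injective f := fun a b e => hinj (by
      have e0 := congrArg (fun w : ↥LineTwentyThree.F => (w : Equiv.Perm Cfsg.GolayPt)) e
      have e1 : h * ψD a * h⁻¹ = h * ψD b * h⁻¹ := Subtype.ext e0
      simpa using e1)
    have := Nat.card_le_card_of_injective f hfinj
    rw [h506, LineTwentyThree.card_F] at this
    norm_num at this
  -- an element outside `N`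
  obtain ⟨g, hg, hgD⟩ : ∃ g ∈ normalizer (zpowers u : Set G), g ∉ D := by
    by_contra hcon
    push Not at hcon
    have := card_le_of_le (show normalizer (zpowers u : Set G) ≤ D from hcon)
    rw [hNu, hD253] at this
    norm_num at this
  have hgN : g ∉ N := fun h => hgD ⟨h, hg⟩
  have hidx : (D.subgroupOf (normalizer (zpowers u : Set G))).index = 2 := by
    have h := (D.subgroupOf (normalizer (zpowers u : Set G))).card_mul_index
    rw [Nat.card_congr (subgroupOfEquivOfLe hDle).toEquiv, hD253, hNu] at h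
    omega
  have hgg : g * g ∈ N := by
    have := sq_mem_of_index_two hidx (⟨g, hg⟩ : ↥(normalizer (zpowers u : Set G)))
    rw [pow_two, mem_subgroupOf] at this
    exact this.1
  have hgu : g * u * g⁻¹ ∈ zpowers u := (mem_normalizer_iff.1 hg u).1 (mem_zpowers u)
  set S := N ⊓ N.map (MulAut.conj g).toMonoidHom with hS
  have hmapN : ∀ y, y ∈ N.map (MulAut.conj g).toMonoidHom ↔ g⁻¹ * y * g ∈ N := fun y => by
    rw [mem_map]
    constructor
    · rintro ⟨x, hx', rfl⟩
      simpa [mul_assoc] using hx'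
    · exact fun h => ⟨_, h, by simp [mul_assoc]⟩
  have hDS : D ≤ S := by
    haveI hnorm := normal_of_index_eq_two hidx
    intro d hd
    refine ⟨hd.1, (hmapN d).2 ?_⟩
    have := hnorm.conj_mem ⟨d, hDle hd⟩ (mem_subgroupOf.2 hd) (⟨g, hg⟩ : ↥(normalizer (zpowers u : Set G)))⁻¹
    rw [mem_subgroupOf] at this
    simpa using this.1
  have huS : u ∈ S := hDS ⟨u0.2, le_normalizer (mem_zpowers u)⟩
  have huS' : g⁻¹ * u * g ∈ N := (hmapN u).1 huS.2
  -- the meet with `W`
  have hSW : ∀ y ∈ S, y ∈ c.W → y = 1 := by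
    have hcard : Nat.card ↥(S ⊓ c.W : Subgroup G) % 23 = 1 := card_modEq_one_of_free (by norm_num) hou _
      (fun y hy => ⟨S.mul_mem (S.mul_mem huS hy.1) (S.inv_mem huS), (mem_normalizer_iff.1 u0.2 y).1 hy.2⟩)
      fun y hy => hWfree y hy.2
    obtain ⟨k, hk, hk'⟩ := (Nat.dvd_prime_pow Nat.prime_two).1
      ((card_dvd_of_le (inf_le_right : S ⊓ c.W ≤ c.W)).trans (dvd_of_eq c.card_W))
    rw [hk'] at hcard
    have hk0 : k = 0 ∨ k = 11 := by interval_cases k <;> first | omega | simp_all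
    rcases hk0 with rfl | rfl
    · intro y hy hyW
      have hb : S ⊓ c.W = ⊥ := eq_bot_of_card_eq _ (by rw [hk', pow_zero])
      exact mem_bot.1 (hb ▸ ⟨hy, hyW⟩)
    exfalso
    have hWS : c.W ≤ S := by
      have : S ⊓ c.W = c.W := eq_of_le_of_card_ge inf_le_right (by rw [hk', c.card_W])
      exact inf_eq_right.1 this
    -- the conjugate of `W` back in `N` has trivial image
    let f : ↥c.W →* ↥N := ((MulAut.conj g⁻¹).toMonoidHom.comp c.W.subtype).codRestrict N fun y => by
      have := (hmapN y).1 (hWS y.2).2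
      simpa using this
    set Im := (φ.comp f).range with hIm
    have hxo : orderOf (φ ⟨_, huS'⟩) = 23 := by
      refine orderOf_eq_prime ?_ fun h1 => ?_
      · rw [← map_pow]
        refine (congrArg φ (Subtype.ext ?_)).trans (map_one φ)
        show (g⁻¹ * u * g) ^ 23 = 1
        rw [show g⁻¹ * u * g = g⁻¹ * u * g⁻¹⁻¹ by rw [inv_inv], conj_pow, ← hou, pow_orderOf_eq_one, mul_one, inv_inv,
          inv_mul_cancel]
      · have h2 : (⟨_, huS'⟩ : ↥N) ∈ φ.ker := h1
        rw [hker, mem_subgroupOf] at h2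
        have h3 := c.W_sq h2
        have h4 : orderOf (g⁻¹ * u * g) ∣ 2 := orderOf_dvd_of_pow_eq_one (by rw [pow_two]; exact h3)
        rw [show g⁻¹ * u * g = MulAut.conj g⁻¹ u by simp, MulEquiv.orderOf_eq, hou] at h4
        norm_num at h4
    have hImsq : ∀ y ∈ Im, y * y = 1 := by
      rintro _ ⟨y, rfl⟩
      rw [← map_mul, show y * y = 1 from Subtype.ext (c.W_sq y.2), map_one]
    have hImcard : Nat.card ↥Im % 23 = 1 := by
      refine card_modEq_one_of_free (by norm_num) hxo Im ?_ ?_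
      · rintro _ ⟨y, rfl⟩
        refine ⟨⟨u * y * u⁻¹, (mem_normalizer_iff.1 u0.2 _).1 y.2⟩, ?_⟩
        rw [MonoidHom.comp_apply, MonoidHom.comp_apply, ← map_inv, ← map_mul, ← map_mul]
        refine congrArg φ (Subtype.ext ?_)
        show g⁻¹ * (u * y * u⁻¹) * g⁻¹⁻¹ = g⁻¹ * u * g * (g⁻¹ * y * g⁻¹⁻¹) * (g⁻¹ * u * g)⁻¹
        group
      · intro y hy hcy
        obtain ⟨h, h1, h2⟩ := exists_conj_t hxo
        have hy1 : h * y * h⁻¹ = 1 := by
          refine Subtype.ext ?_
          have hF := LineTwentyThree.mem_F_of_normal (h * y * h⁻¹).2 ?_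
          · -- a square root of one in the group of order 253
            have hsq : ((h * y * h⁻¹ : ↥Cfsg.M24) : Equiv.Perm Cfsg.GolayPt) *
                ((h * y * h⁻¹ : ↥Cfsg.M24) : Equiv.Perm Cfsg.GolayPt) = 1 := by
              rw [← Subgroup.coe_mul, conj_mul, hImsq y hy, mul_one, mul_inv_cancel]; rfl
            have h5 : orderOf ((h * y * h⁻¹ : ↥Cfsg.M24) : Equiv.Perm Cfsg.GolayPt) ∣ 2 :=
              orderOf_dvd_of_pow_eq_one (by rw [pow_two]; exact hsq)
            have h6 := Subgroup.orderOf_dvd_natCard _ hF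
            rw [LineTwentyThree.card_F] at h6
            have h7 := Nat.dvd_gcd h5 h6
            norm_num at h7
            simp [h7]
          · obtain ⟨j, hj⟩ := mem_zpowers_iff.1 h2
            rw [← hj, ← SubgroupClass.coe_zpow, ← Subgroup.coe_mul, ← Subgroup.coe_inv, ← Subgroup.coe_mul]
            have e : h * y * h⁻¹ * (h * φ ⟨_, huS'⟩ * h⁻¹) ^ j * (h * y * h⁻¹)⁻¹ =
                (h * φ ⟨_, huS'⟩ * h⁻¹) ^ j := by
              rw [← conj_zpow]
              congr 1
              calc h * y * h⁻¹ * (h * φ ⟨_, huS'⟩ * h⁻¹) * (h * y * h⁻¹)⁻¹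
                  = h * (y * φ ⟨_, huS'⟩) * y⁻¹ * h⁻¹ := by group
                _ = h * φ ⟨_, huS'⟩ * h⁻¹ := by rw [← hcy]; group
            rw [e, SubgroupClass.coe_zpow, hj]
            exact mem_zpowers _
        simpa using hy1
    have hImone : Nat.card ↥Im = 1 := by
      obtain ⟨k, hk1, hk2⟩ := (Nat.dvd_prime_pow Nat.prime_two).1
        ((card_range_dvd (φ.comp f)).trans (dvd_of_eq c.card_W))
      have hd := card_subgroup_dvd_card Im
      rw [CfsgLib.Spor.card_M24, hk2] at hd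
      rw [hk2] at hImcard ⊢
      interval_cases k <;> omega
    refine hgN ?_
    have hle : ∀ y ∈ c.W, g⁻¹ * y * g ∈ c.W := by
      intro y hy
      have h1 : f ⟨y, hy⟩ ∈ φ.ker := by
        have h2 : φ (f ⟨y, hy⟩) ∈ Im := ⟨⟨y, hy⟩, rfl⟩
        rw [eq_bot_of_card_eq Im hImone, mem_bot] at h2
        exact h2
      rw [hker, mem_subgroupOf] at h1
      simpa [f] using h1
    have hgi : g⁻¹ ∈ N := mem_normalizer_fintype fun y hy => by simpa using hle y hy
    simpa using inv_mem hgi
  let ψ0 : ↥S →* ↥Cfsg.M24 := φ.comp (inclusion inf_le_left)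
  have hψ0 : Function.Injective ψ0 := by
    rw [injective_iff_map_eq_one]
    intro y hy
    have h1 : inclusion inf_le_left y ∈ φ.ker := hy
    rw [hker] at h1
    exact Subtype.ext (hSW _ y.2 (mem_subgroupOf.1 h1))
  obtain ⟨h, h1, h2⟩ := exists_conj_t (x := ψ0 ⟨u, huS⟩) (by
    rw [orderOf_injective ψ0 hψ0, Subgroup.orderOf_mk, hou])
  let ψ : ↥S →* ↥Cfsg.M24 := (MulAut.conj h).toMonoidHom.comp ψ0
  have hψ : Function.Injective ψ := (MulAut.conj h).injective.comp hψ0
  have hcard : 253 < Nat.card ↥ψ.range := by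
    rw [← Nat.card_congr (MonoidHom.ofInjective hψ).toEquiv]
    have h4 := card_mul_le_inf N (N.map (MulAut.conj g).toMonoidHom)
    rw [Subgroup.card_map_of_injective (MulAut.conj g).injective, hcN, c.card_eq_orderFor hX, ← hS] at h4
    by_contra hle
    push Not at hle
    have h5 := h4.trans (Nat.mul_le_mul_left _ hle)
    norm_num [Kill.orderFor] at h5
  refine ⟨u, g, ψ, hou, hCu, hgu, hgN, hgg, huS, hψ, ?_, hcard, fun _ => ⟨h1, h2⟩⟩
  -- the affine group lies in the image
  let f : ↥D →* ↥LineTwentyThree.F := ((Cfsg.M24.subtype.comp ψ).comp (inclusion hDS)).codRestrict _ fun d => by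
    refine LineTwentyThree.mem_F_of_normal (ψ _).2 ?_
    obtain ⟨i, hi⟩ := mem_zpowers_iff.1 ((mem_normalizer_iff.1 d.2.2 u).1 (mem_zpowers u))
    have hc' : inclusion hDS d * ⟨u, huS⟩ * (inclusion hDS d)⁻¹ = (⟨u, huS⟩ : ↥S) ^ i := Subtype.ext (by
      rw [SubgroupClass.coe_zpow]; exact hi.symm)
    have hc'' := congrArg (fun y => ((ψ y : ↥Cfsg.M24) : Equiv.Perm Cfsg.GolayPt)) hc'
    simp only [map_mul, map_inv, map_zpow, Subgroup.coe_mul, Subgroup.coe_inv, SubgroupClass.coe_zpow] at hc''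
    exact conj_mem_of_pow hc'' h1 h2
  have hfinj : Function.Injective f := fun a b e => by
    have e0 := congrArg (fun w : ↥LineTwentyThree.F => (w : Equiv.Perm Cfsg.GolayPt)) e
    have e1 : ψ (inclusion hDS a) = ψ (inclusion hDS b) := Subtype.ext e0
    exact Subtype.ext (congrArg (fun y : ↥S => (y : G)) (hψ e1))
  have hrange : f.range = ⊤ := eq_top_of_card_eq _ (by
    rw [← Nat.card_congr (MonoidHom.ofInjective hfinj).toEquiv, hD253, LineTwentyThree.card_F])
  intro y hy
  obtain ⟨d, hd⟩ := (hrange ▸ mem_top _ : (⟨y, hy⟩ : ↥LineTwentyThree.F) ∈ f.range)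
  exact ⟨ψ (inclusion hDS d), ⟨_, rfl⟩, congrArg Subtype.val hd⟩

end Ctx

end CfsgLib.Spor.JFourType
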